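import Cfsg.Agent.Lib.AutPSL.Main

/-!
Uniqueness of the decomposition of an automorphism of `PSL_n(F)` and the order of the automorphism group.
-/

set_option autoImplicit false

namespace Cfsg.Agent.Lib.AutPSL

open Matrix
open scoped MatrixGroups

variable {n : ℕ} {F : Type*} [Field F]

local notation "PSLn" => Matrix.ProjectiveSpecialLinearGroup (Fin n) F

theorem mem_center_GL_of_scalar {g : GL (Fin n) F} {c : F}
    (h : (g : Matrix (Fin n) (Fin n) F) = c • 1) : g ∈ Subgroup.center (GL (Fin n) F) := by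
  rw [Subgroup.mem_center_iff]
  intro x
  apply Units.ext
  rw [Units.val_mul, Units.val_mul, h, Matrix.smul_mul, Matrix.mul_smul, Matrix.one_mul, Matrix.mul_one]

theorem conjAut_eq_one_of_center {g : GL (Fin n) F} (hg : g ∈ Subgroup.center (GL (Fin n) F)) :
    (conjAut g : MulAut PSLn) = 1 := by
  have h : conjSL g = (1 : MulAut (Matrix.SpecialLinearGroup (Fin n) F)) := by
    refine MulEquiv.ext fun s => Subtype.ext ?_
    rw [coe_conjSL]
    have := congrArg (fun x : GL (Fin n) F => (x : Matrix (Fin n) (Fin n) F))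
      (Subgroup.mem_center_iff.1 hg (Matrix.SpecialLinearGroup.toGL s))
    simp only [Units.val_mul] at this
    change (s : Matrix (Fin n) (Fin n) F) * g = g * s at this
    rw [← this, Matrix.mul_assoc, Units.mul_inv, Matrix.mul_one]
    rfl
  rw [conjAut, MonoidHom.comp_apply, h, map_one]

theorem conj_fieldAut_image (hn : 2 ≤ n) {g : GL (Fin n) F} {σ : F ≃+* F} {i j k l : Fin n}
    (hij : i ≠ j) (hkl : k ≠ l) {t : F}
    (h : (conjAut g * fieldAut σ : MulAut PSLn) (xr i j 1) = xr k l t) :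
    Par ((g : Matrix (Fin n) (Fin n) F) *ᵥ Pi.single i 1) (Pi.single k 1) := by
  rw [MulAut.mul_apply, fieldAut_xr σ hij, map_one, xr, conjAut_rootElt _ (isPair_single hij).orth] at h
  exact (par_of_mem_rootSet hn ((isPair_single hij).conj g) (isPair_single hkl) ⟨1, rfl⟩ ⟨t, h.symm⟩
    (rootElt_ne_one hn ((isPair_single hij).conj g) one_ne_zero)).1

/-- Kernel of `(g, σ) ↦ conjAut g * fieldAut σ`. -/
theorem eq_one_of_conj_field (hn : 2 ≤ n) {g : GL (Fin n) F} {σ : F ≃+* F}
    (h : (conjAut g * fieldAut σ : MulAut PSLn) = 1) :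
    g ∈ Subgroup.center (GL (Fin n) F) ∧ σ = 1 := by
  classical
  choose o ho using exists_other (n := n) hn
  have hdiag : ∀ i k, k ≠ i → (g : Matrix (Fin n) (Fin n) F) k i = 0 := by
    intro i k hki
    have hp := conj_fieldAut_image hn (t := 1) (ho i).symm (ho i).symm
      (g := g) (σ := σ) (by rw [h]; rfl)
    obtain ⟨c, hc⟩ := hp
    have hc0 : c ≠ 0 := Par.scalar_ne_zero hc (by simp)
    have := congrFun hc k
    simpa [hki, hc0, Matrix.mulVec_single] using this
  have hne : ∀ i, (g : Matrix (Fin n) (Fin n) F) i i ≠ 0 := by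
    intro i h0
    have hu := ((Matrix.isUnit_iff_isUnit_det _).1 g.isUnit).ne_zero
    refine hu (Matrix.det_eq_zero_of_column_eq_zero i fun k => ?_)
    by_cases hki : k = i
    · rw [hki, h0]
    · exact hdiag i k hki
  let d : Fin n → Fˣ := fun i => Units.mk0 _ (hne i)
  have hg : g = ⟨diagonal fun k => (d k : F), diagonal fun k => ((d k)⁻¹ : Fˣ), by simp, by simp⟩ := by
    apply Units.ext
    ext k i
    by_cases hki : k = i
    · subst hki; simp [d]
    · simp [d, hki, hdiag i k hki]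
  have key : ∀ i j, i ≠ j → ∀ t, (d i : F) * σ t * ((d j)⁻¹ : Fˣ) = t := by
    intro i j hij t
    apply xr_injective hn hij
    rw [← conjAut_diag_xr d hij, ← hg, ← fieldAut_xr σ hij, ← MulAut.mul_apply, h]
    rfl
  have hdd : ∀ i j, d i = d j := by
    intro i j
    by_cases hij : i = j
    · rw [hij]
    · have := key i j hij 1
      rw [map_one, mul_one, ← Units.val_mul] at this
      exact mul_inv_eq_one.1 (Units.ext this)
  refine ⟨mem_center_GL_of_scalar (c := (d ⟨0, by omega⟩ : F)) ?_, RingEquiv.ext fun t => ?_⟩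
  · rw [hg, smul_one_eq_diagonal]
    exact congrArg diagonal (funext fun k => by rw [hdd k ⟨0, by omega⟩])
  · have := key ⟨0, by omega⟩ (o ⟨0, by omega⟩) (ho _).symm t
    rw [← hdd ⟨0, by omega⟩ (o ⟨0, by omega⟩), mul_comm ((d _ : F)) (σ t), mul_assoc, ← Units.val_mul,
      mul_inv_cancel, Units.val_one, mul_one] at this
    exact this

theorem conj_field_ne_invT (hn : 3 ≤ n) (g : GL (Fin n) F) (σ : F ≃+* F) :
    (conjAut g * fieldAut σ : MulAut PSLn) ≠ invT := by
  intro h
  have hn2 : 2 ≤ n := by omega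
  obtain ⟨j, hj⟩ := exists_other hn2 (⟨0, by omega⟩ : Fin n)
  obtain ⟨k, hk0, hkj⟩ := exists_third hn (⟨0, by omega⟩ : Fin n) j
  have him : ∀ l, l ≠ (⟨0, by omega⟩ : Fin n) →
      Par ((g : Matrix (Fin n) (Fin n) F) *ᵥ Pi.single (⟨0, by omega⟩ : Fin n) 1) (Pi.single l 1) := by
    intro l hl
    refine conj_fieldAut_image hn2 (g := g) (σ := σ) hl.symm hl (t := -1) ?_
    rw [h, xr, invT_rootElt (isPair_single hl.symm).orth]
    rfl
  have hcol : (g : Matrix (Fin n) (Fin n) F) *ᵥ Pi.single (⟨0, by omega⟩ : Fin n) 1 ≠ 0 :=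
    ((isPair_single (F := F) hj.symm).conj g).ne_v
  exact not_par_single hkj.symm (((him j hj).symm (by simp)).trans (him k hk0))

theorem conjAut_mul_fieldAut_injective (hn : 2 ≤ n) {g g' : GL (Fin n) F} {σ σ' : F ≃+* F}
    (h : (conjAut g * fieldAut σ : MulAut PSLn) = conjAut g' * fieldAut σ') :
    g⁻¹ * g' ∈ Subgroup.center (GL (Fin n) F) ∧ σ = σ' := by
  have h1 : (conjAut (g⁻¹ * g') * fieldAut (σ' * σ⁻¹) : MulAut PSLn) = 1 := by
    rw [map_mul, map_mul, map_inv, map_inv, mul_assoc, ← mul_assoc (conjAut g') (fieldAut σ') (fieldAut σ)⁻¹, ← h]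
    group
  obtain ⟨h2, h3⟩ := eq_one_of_conj_field hn h1
  exact ⟨h2, (mul_inv_eq_one.1 h3).symm⟩

theorem card_fieldAuts [Fintype F] {p f : ℕ} [Fact p.Prime] (hF : Fintype.card F = p ^ f) :
    Nat.card (F ≃+* F) = f := by
  have hp : CharP F p := charP_of_card_eq_prime_pow hF
  letI := ZMod.algebra F p
  have e : (F ≃+* F) ≃ (F ≃ₐ[ZMod p] F) :=
    { toFun := fun σ => AlgEquiv.ofRingEquiv (f := σ) fun x => by
        exact RingHom.congr_fun (Subsingleton.elim (σ.toRingHom.comp (algebraMap (ZMod p) F)) (algebraMap (ZMod p) F)) x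
      invFun := fun τ => τ.toRingEquiv
      left_inv := fun σ => RingEquiv.ext fun x => rfl
      right_inv := fun τ => AlgEquiv.ext fun x => rfl }
  rw [Nat.card_congr e, IsGalois.card_aut_eq_finrank]
  have := Module.card_eq_pow_finrank (K := ZMod p) (V := F)
  rw [ZMod.card, hF] at this
  exact (Nat.pow_right_injective (Fact.out : p.Prime).two_le this).symm

/-- The order of `Aut(PSL_n(q))`. -/
theorem card_mulAut_PSL [Fintype F] {p f : ℕ} [Fact p.Prime] (hF : Fintype.card F = p ^ f) (hn : 2 ≤ n) :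
    Nat.card (MulAut PSLn) = (if n = 2 then 1 else 2) * f * Nat.card (Matrix.ProjGenLinGroup (Fin n) F) := by
  classical
  set Z := Subgroup.center (GL (Fin n) F)
  let cbar : (GL (Fin n) F ⧸ Z) →* MulAut PSLn :=
    QuotientGroup.lift Z conjAut fun g hg => conjAut_eq_one_of_center hg
  let k : ℕ := if n = 2 then 1 else 2
  let Φ : Fin k × (F ≃+* F) × (GL (Fin n) F ⧸ Z) → MulAut PSLn :=
    fun x => cbar x.2.2 * fieldAut x.2.1 * (if x.1.val = 0 then 1 else invT)
  have hinj : Function.Injective Φ := by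
    rintro ⟨e, σ, a⟩ ⟨e', σ', a'⟩ h
    obtain ⟨g, rfl⟩ := QuotientGroup.mk_surjective a
    obtain ⟨g', rfl⟩ := QuotientGroup.mk_surjective a'
    simp only [Φ, cbar, QuotientGroup.lift_mk] at h
    have hee : e = e' := by
      by_contra hne
      have hk2 : n ≠ 2 := fun h2 => by
        have h1 := e.isLt
        have h1' := e'.isLt
        simp [k, h2] at h1 h1'
        exact hne (Fin.ext (by omega))
      have h3 : 3 ≤ n := by omega
      have hinv : ∀ (g g' : GL (Fin n) F) (σ σ' : F ≃+* F),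
          (conjAut g * fieldAut σ * 1 : MulAut PSLn) ≠ conjAut g' * fieldAut σ' * invT := by
        intro g g' σ σ' he
        refine conj_field_ne_invT h3 (GeneralLinearGroup.map σ'.symm.toRingHom (g'⁻¹ * g)) (σ'⁻¹ * σ) ?_
        have hh : (fieldAut σ' : MulAut PSLn)⁻¹ * conjAut (g'⁻¹ * g) =
            conjAut (GeneralLinearGroup.map σ'.symm.toRingHom (g'⁻¹ * g)) * (fieldAut σ')⁻¹ := by
          rw [← map_inv]
          exact fieldAut_mul_conjAut σ'⁻¹ _
        rw [map_mul fieldAut, map_inv fieldAut, ← mul_assoc, ← hh, map_mul, map_inv, mul_one] at *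
        rw [mul_assoc, mul_assoc, he]
        group
      have hk : k = 2 := by simp [k, hk2]
      rcases Nat.eq_zero_or_pos e.val with h0 | h0 <;> rcases Nat.eq_zero_or_pos e'.val with h0' | h0'
      · exact hne (Fin.ext (h0.trans h0'.symm))
      · rw [if_pos h0, if_neg h0'.ne'] at h
        exact hinv _ _ _ _ h
      · rw [if_neg h0.ne', if_pos h0'] at h
        exact hinv _ _ _ _ h.symm
      · exact hne (Fin.ext (by have := e.isLt; have := e'.isLt; omega))
    subst hee
    obtain ⟨h1, h2⟩ := conjAut_mul_fieldAut_injective hn (mul_right_cancel h)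
    exact Prod.ext rfl (Prod.ext h2 (QuotientGroup.eq.2 h1))
  have hsurj : Function.Surjective Φ := by
    intro α
    obtain ⟨g, σ, γ, hγ, rfl⟩ := exists_decomp hn α
    have hk0 : 0 < k := by simp only [k]; split_ifs <;> norm_num
    rcases hγ with rfl | ⟨h3, rfl⟩
    · exact ⟨(⟨0, hk0⟩, σ, QuotientGroup.mk g), by simp [Φ, cbar]; rfl⟩
    · exact ⟨(⟨1, by simp [k, show n ≠ 2 by omega]⟩, σ, QuotientGroup.mk g), by simp [Φ, cbar]; rfl⟩
  rw [← Nat.card_congr (Equiv.ofBijective Φ ⟨hinj, hsurj⟩), Nat.card_prod, Nat.card_prod,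
    Nat.card_eq_fintype_card, Fintype.card_fin, card_fieldAuts hF, ← mul_assoc]
  rfl

end Cfsg.Agent.Lib.AutPSL
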