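import Mathlib

/-!
`SL ι F` over a field is generated by transvections and is perfect apart from the two small cases.
-/

set_option autoImplicit false

namespace Cfsg.Agent.Lib.AutPSL

open Matrix
open scoped commutatorElement

variable {ι F : Type*} [Fintype ι] [DecidableEq ι] [Field F]

/-- Diagonal element with `a`, `a⁻¹` in two places as a product of transvections. -/
theorem diag2n_eq_prod_transvection {i j : ι} (hij : i ≠ j) (a : F) (ha : a ≠ 0) :
    SpecialLinearGroup.diag2n hij a ha =
      SpecialLinearGroup.transvection hij a * SpecialLinearGroup.transvection hij.symm (-a⁻¹) *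
        SpecialLinearGroup.transvection hij a * SpecialLinearGroup.transvection hij (-1) *
        SpecialLinearGroup.transvection hij.symm 1 * SpecialLinearGroup.transvection hij (-1) := by
  apply SpecialLinearGroup.coeMonoidHom_injective
  simp only [map_mul, SpecialLinearGroup.coeMonoidHom_apply, SpecialLinearGroup.transvection_coe,
    SpecialLinearGroup.diag2n_coe, mul_add, add_mul, one_mul, mul_one,
    single_mul_single_same, single_mul_single_of_ne _ _ _ _ hij,
    single_mul_single_of_ne _ _ _ _ hij.symm, add_zero, zero_add, zero_mul, mul_neg, neg_mul,
    mul_inv_cancel₀ ha, inv_mul_cancel₀ ha, neg_neg]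
  ext k l
  simp only [Matrix.add_apply, diagonal_apply, one_apply, single_apply]
  grind

/-- Every predicate closed under products that holds for transvections holds everywhere. -/
theorem transvection_induction [Nontrivial ι] (P : SpecialLinearGroup ι F → Prop)
    (htr : ∀ (i j : ι) (h : i ≠ j) (c : F), P (SpecialLinearGroup.transvection h c))
    (hmul : ∀ A B, P A → P B → P (A * B)) (A : SpecialLinearGroup ι F) : P A := by
  refine SpecialLinearGroup.diagonal_transvection_induction' P _ (fun i j hij c hc => ?_) htr hmul
  rw [diag2n_eq_prod_transvection hij c hc]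
  refine hmul _ _ (hmul _ _ (hmul _ _ (hmul _ _ (hmul _ _ ?_ ?_) ?_) ?_) ?_) ?_
  all_goals exact htr _ _ _ _

/-- The transvections generate. -/
theorem closure_transvections [Nontrivial ι] :
    Subgroup.closure {g : SpecialLinearGroup ι F |
      ∃ (i j : ι) (h : i ≠ j) (c : F), g = SpecialLinearGroup.transvection h c} = ⊤ := by
  refine eq_top_iff.2 fun A hA => ?_
  clear hA
  induction A using transvection_induction with
  | htr i j h c => exact Subgroup.subset_closure ⟨i, j, h, c, rfl⟩
  | hmul A B hA hB => exact mul_mem hA hB

/-- The commutator relation between root subgroups. -/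
theorem commutator_transvection {i j k : ι} (hij : i ≠ j) (hjk : j ≠ k) (hik : i ≠ k) (a b : F) :
    ⁅SpecialLinearGroup.transvection hij a, SpecialLinearGroup.transvection hjk b⁆ =
      SpecialLinearGroup.transvection hik (a * b) := by
  rw [commutatorElement_def, SpecialLinearGroup.transvection_inv, SpecialLinearGroup.transvection_inv]
  apply SpecialLinearGroup.coeMonoidHom_injective
  simp only [map_mul, SpecialLinearGroup.coeMonoidHom_apply, SpecialLinearGroup.transvection_coe, mul_add, add_mul,
    one_mul, mul_one, single_mul_single_same, single_mul_single_of_ne _ _ _ _ hij.symm,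
    single_mul_single_of_ne _ _ _ _ hjk.symm, single_mul_single_of_ne _ _ _ _ hik.symm,
    add_zero, zero_add, zero_mul]
  ext x y
  simp only [Matrix.add_apply, single_apply]
  grind

/-- Conjugating a transvection by a diagonal element. -/
theorem commutator_diag2n_transvection {i j : ι} (hij : i ≠ j) (a : F) (ha : a ≠ 0) (b : F) :
    ⁅SpecialLinearGroup.diag2n hij a ha, SpecialLinearGroup.transvection hij b⁆ =
      SpecialLinearGroup.transvection hij (b * (a ^ 2 - 1)) := by
  have key : SpecialLinearGroup.diag2n hij a ha * SpecialLinearGroup.transvection hij b =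
      SpecialLinearGroup.transvection hij (b * a ^ 2) * SpecialLinearGroup.diag2n hij a ha := by
    apply SpecialLinearGroup.coeMonoidHom_injective
    simp only [map_mul, SpecialLinearGroup.coeMonoidHom_apply, SpecialLinearGroup.transvection_coe,
      SpecialLinearGroup.diag2n_coe, mul_add, add_mul, one_mul, mul_one]
    ext x y
    simp only [Matrix.add_apply, diagonal_mul, mul_diagonal, single_apply, diagonal_apply]
    grind
  rw [commutatorElement_def, key, mul_inv_cancel_right, SpecialLinearGroup.transvection_inv,
    ← SpecialLinearGroup.transvection_add]
  congr 1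
  ring

/-- `SL ι F` is perfect when there are at least three indices. -/
theorem commutator_eq_top_of_three (h3 : 3 ≤ Fintype.card ι) :
    commutator (SpecialLinearGroup ι F) = ⊤ := by
  have : Nontrivial ι := Fintype.one_lt_card_iff_nontrivial.1 (by omega)
  refine eq_top_iff.2 fun A hA => ?_
  clear hA
  induction A using transvection_induction with
  | htr i k h c =>
    obtain ⟨j, hji, hjk⟩ : ∃ j, j ≠ i ∧ j ≠ k := by
      by_contra hcon
      simp only [not_exists, not_and, not_not] at hcon
      have h2 : (Finset.univ : Finset ι) ⊆ {i, k} := fun x _ => by
        by_cases hx : x = i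
        · simp [hx]
        · simp [hcon x hx]
      have := (Finset.card_le_card h2).trans Finset.card_le_two
      rw [Finset.card_univ] at this
      omega
    rw [← mul_one c, ← commutator_transvection hji.symm hjk h c 1]
    exact Subgroup.commutator_mem_commutator (Subgroup.mem_top _) (Subgroup.mem_top _)
  | hmul A B hA hB => exact mul_mem hA hB

/-- `SL ι F` is perfect when some unit has square different from one. -/
theorem commutator_eq_top_of_sq [Nontrivial ι] {a : F} (ha : a ≠ 0) (hasq : a ^ 2 ≠ 1) :
    commutator (SpecialLinearGroup ι F) = ⊤ := by
  refine eq_top_iff.2 fun A hA => ?_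
  clear hA
  induction A using transvection_induction with
  | htr i j h c =>
    rw [← div_mul_cancel₀ c (sub_ne_zero_of_ne hasq), ← commutator_diag2n_transvection h a ha]
    exact Subgroup.commutator_mem_commutator (Subgroup.mem_top _) (Subgroup.mem_top _)
  | hmul A B hA hB => exact mul_mem hA hB

end Cfsg.Agent.Lib.AutPSL
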