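import Cfsg.Agent.Lib.AutPSL.Frame
import Cfsg.Agent.Lib.AutPSL.Gen

/-!
Every automorphism of `PSL_n(F)` is inner-diagonal times field times (identity or inverse-transpose).
-/

set_option autoImplicit false

namespace Cfsg.Agent.Lib.AutPSL

open Matrix
open scoped MatrixGroups commutatorElement

variable {n : ℕ} {F : Type*} [Field F]

local notation "PSLn" => Matrix.ProjectiveSpecialLinearGroup (Fin n) F

/-- The coordinate root element. -/
noncomputable def xr (i j : Fin n) (t : F) : PSLn := rootElt (Pi.single i 1) (Pi.single j 1) t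

theorem xr_eq_mk {i j : Fin n} (h : i ≠ j) (t : F) :
    xr i j t = QuotientGroup.mk (Matrix.SpecialLinearGroup.transvection h t) := by
  rw [xr, rootElt]
  congr 1
  apply Subtype.ext
  rw [coe_tv (orth_smul (isPair_single h).orth _), Matrix.SpecialLinearGroup.transvection_coe]
  congr 1
  ext x y
  by_cases hx : i = x <;> by_cases hy : j = y <;>
    simp [vecMulVec_apply, Pi.single_apply, Matrix.single_apply, hx, hy, eq_comm]

theorem conjAut_diag_xr (d : Fin n → Fˣ) {i j : Fin n} (h : i ≠ j) (t : F) :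
    conjAut (⟨diagonal fun k => (d k : F), diagonal fun k => ((d k)⁻¹ : Fˣ),
      by simp, by simp⟩ : GL (Fin n) F) (xr i j t) =
      xr i j ((d i : F) * t * ((d j)⁻¹ : Fˣ)) := by
  rw [xr, conjAut_rootElt _ (isPair_single h).orth, xr, rootElt, rootElt]
  congr 1
  have e1 : (diagonal fun k => (d k : F)) *ᵥ Pi.single i 1 = (d i : F) • (Pi.single i 1 : Fin n → F) := by
    ext k
    by_cases hk : k = i <;> simp [hk, Matrix.mulVec_diagonal]
  have e2 : (Pi.single j 1 : Fin n → F) ᵥ* (diagonal fun k => ((d k)⁻¹ : Fˣ) : Matrix (Fin n) (Fin n) F) =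
      (((d j)⁻¹ : Fˣ) : F) • (Pi.single j 1 : Fin n → F) := by
    ext k
    by_cases hk : k = j <;> simp [hk, Matrix.vecMul_diagonal]
  show tv (t • ((diagonal fun k => (d k : F)) *ᵥ Pi.single i 1))
      (Pi.single j 1 ᵥ* (diagonal fun k => (((d k)⁻¹ : Fˣ) : F))) = _
  rw [e1, e2]
  have hz := (isPair_single (F := F) h).orth
  apply Subtype.ext
  rw [coe_tv (by simp [hz, h.symm]), coe_tv (orth_smul hz _)]
  simp only [smul_smul, smul_vecMulVec, vecMulVec_smul]
  congr 2
  ring

theorem fieldAut_xr (σ : F ≃+* F) {i j : Fin n} (h : i ≠ j) (t : F) :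
    fieldAut σ (xr i j t) = xr i j (σ t) := by
  rw [xr_eq_mk h, xr_eq_mk h, fieldAut_mk]
  congr 1
  apply Subtype.ext
  rw [coe_fieldSL, Matrix.SpecialLinearGroup.transvection_coe, Matrix.SpecialLinearGroup.transvection_coe,
    Matrix.map_add _ (map_add σ), Matrix.map_one _ (map_zero σ) (map_one σ), Matrix.map_single _ _ _ σ]

/-- Two automorphisms agreeing on coordinate root elements are equal. -/
theorem aut_ext_xr (hn : 2 ≤ n) {α β : MulAut PSLn}
    (h : ∀ i j, i ≠ j → ∀ t, α (xr i j t) = β (xr i j t)) : α = β := by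
  haveI : Nontrivial (Fin n) := Fin.nontrivial_iff_two_le.2 hn
  refine MulEquiv.ext fun x => ?_
  obtain ⟨s, rfl⟩ := QuotientGroup.mk_surjective x
  induction s using transvection_induction with
  | htr i j hij c => rw [← xr_eq_mk hij]; exact h i j hij c
  | hmul a b ha hb => rw [QuotientGroup.mk_mul, map_mul, map_mul, ha, hb]

theorem xr_comm {i j k : Fin n} (hij : i ≠ j) (hjk : j ≠ k) (hik : i ≠ k) (a b : F) :
    ⁅xr i j a, xr j k b⁆ = xr i k (a * b) := by
  rw [xr_eq_mk hij, xr_eq_mk hjk, xr_eq_mk hik, ← commutator_transvection hij hjk hik a b]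
  rfl

theorem xr_add {i j : Fin n} (h : i ≠ j) (s t : F) : xr i j (s + t) = xr i j s * xr i j t :=
  rootElt_add (isPair_single h).orth s t

theorem xr_injective (hn : 2 ≤ n) {i j : Fin n} (h : i ≠ j) : Function.Injective (xr i j : F → PSLn) :=
  rootElt_injective hn (isPair_single h)

section

variable [Fintype F]

/-- The parameters of an automorphism fixing every coordinate root subgroup, normalised. -/
theorem exists_normalised (hn : 2 ≤ n) (β : MulAut PSLn)
    (hβ : ∀ i j, i ≠ j → β '' coordSet n F i j = coordSet n F i j) :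
    ∃ (g : GL (Fin n) F) (τ : Fin n → Fin n → F → F),
      (∀ i j, i ≠ j → ∀ t, (conjAut g * β) (xr i j t) = xr i j (τ i j t)) ∧
      (∀ i j, i ≠ j → ∀ s t, τ i j (s + t) = τ i j s + τ i j t) ∧
      (∀ i j, i ≠ j → Function.Bijective (τ i j)) ∧
      (∀ i, i ≠ (⟨0, by omega⟩ : Fin n) → τ i ⟨0, by omega⟩ 1 = 1) := by
  classical
  have hc : ∀ i j : Fin n, ∀ t : F, ∃ u : F, i ≠ j → β (xr i j t) = xr i j u := by
    intro i j t
    by_cases h : i = j
    · exact ⟨0, fun h' => absurd h h'⟩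
    · obtain ⟨u, hu⟩ : β (xr i j t) ∈ coordSet n F i j := by
        rw [← hβ i j h]; exact ⟨_, ⟨t, rfl⟩, rfl⟩
      exact ⟨u, fun _ => hu.symm⟩
  choose σ hσ using hc
  have hadd : ∀ i j, i ≠ j → ∀ s t, σ i j (s + t) = σ i j s + σ i j t := by
    intro i j h s t
    apply xr_injective hn h
    rw [← hσ i j _ h, xr_add h, map_mul, hσ i j _ h, hσ i j _ h, ← xr_add h]
  have hinj : ∀ i j, i ≠ j → Function.Injective (σ i j) := by
    intro i j h s t hst
    apply xr_injective hn h
    apply β.injective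
    rw [hσ i j _ h, hσ i j _ h, hst]
  set z : Fin n := ⟨0, by omega⟩
  have hne : ∀ i, i ≠ z → σ i z 1 ≠ 0 := fun i hi h0 => by
    have h00 : σ i z 0 = 0 := by
      have := hadd i z hi 0 0
      rw [add_zero] at this
      exact left_eq_add.1 this
    exact one_ne_zero (hinj i z hi (h0.trans h00.symm))
  let d : Fin n → Fˣ := fun i => if h : i = z then 1 else (Units.mk0 _ (hne i h))⁻¹
  refine ⟨⟨diagonal fun k => (d k : F), diagonal fun k => ((d k)⁻¹ : Fˣ), by simp, by simp⟩,
    fun i j t => (d i : F) * σ i j t * ((d j)⁻¹ : Fˣ), ?_, ?_, ?_, ?_⟩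
  · intro i j h t
    rw [MulAut.mul_apply, hσ i j _ h, conjAut_diag_xr d h]
  · intro i j h s t
    simp only [hadd i j h]
    ring
  · intro i j h
    exact Finite.injective_iff_bijective.1 (fun s t hst =>
      hinj i j h (mul_left_cancel₀ (d i).ne_zero (mul_right_cancel₀ ((d j)⁻¹).ne_zero hst)))
  · intro i hi
    simp [d, hi, hne i hi]

theorem exists_fieldAut_three (hn : 3 ≤ n) (β : MulAut PSLn)
    (hβ : ∀ i j, i ≠ j → β '' coordSet n F i j = coordSet n F i j) :
    ∃ (g : GL (Fin n) F) (σ : F ≃+* F), conjAut g * β = fieldAut σ := by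
  obtain ⟨g, τ, hτ, hadd, hbij, h1⟩ := exists_normalised (by omega) β hβ
  set z : Fin n := ⟨0, by omega⟩
  have hmul : ∀ i j k, i ≠ j → j ≠ k → i ≠ k → ∀ a b, τ i k (a * b) = τ i j a * τ j k b := by
    intro i j k hij hjk hik a b
    apply xr_injective (by omega) hik
    rw [← hτ i k hik, ← xr_comm hij hjk hik a b, map_commutatorElement, hτ i j hij, hτ j k hjk,
      xr_comm hij hjk hik]
  obtain ⟨k, hk⟩ := exists_other (n := n) (by omega) z
  set s : F → F := τ k z
  have hone : ∀ i j, i ≠ z → j ≠ z → i ≠ j → τ i j 1 = 1 := by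
    intro i j hi hj hij
    have := hmul i j z hij hj hi 1 1
    rw [mul_one, h1 i hi, h1 j hj, mul_one] at this
    exact this.symm
  have hz : ∀ i, i ≠ z → ∀ t, τ i z t = s t := by
    intro i hi t
    by_cases hik : i = k
    · rw [hik]
    · have := hmul i k z hik hk hi 1 t
      rwa [one_mul, hone i k hi hk hik, one_mul] at this
  have hnz : ∀ i j, i ≠ z → j ≠ z → i ≠ j → ∀ t, τ i j t = s t := by
    intro i j hi hj hij t
    have := hmul i j z hij hj hi t 1
    rw [mul_one, h1 j hj, mul_one, hz i hi] at this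
    exact this.symm
  have hsmul : ∀ a b, s (a * b) = s a * s b := by
    intro a b
    obtain ⟨j, hjk, hjz⟩ := exists_third hn k z
    have := hmul k j z hjk.symm hjz hk a b
    rwa [hnz k j hk hjz hjk.symm, hz j hjz, hz k hk] at this
  have hs1 : s 1 = 1 := h1 k hk
  have hzj : ∀ j, j ≠ z → ∀ t, τ z j t = s t := by
    intro j hj t
    obtain ⟨i, hij, hiz⟩ := exists_third hn j z
    have := hmul i z j hiz hj.symm hij 1 t
    rw [one_mul, hz i hiz, hs1, one_mul, hnz i j hiz hj hij] at this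
    exact this.symm
  let σ : F ≃+* F := RingEquiv.ofBijective
    ({ toFun := s
       map_one' := hs1
       map_mul' := hsmul
       map_zero' := by
         have := hadd k z hk 0 0
         rw [add_zero] at this
         exact left_eq_add.1 this
       map_add' := hadd k z hk } : F →+* F) (hbij k z hk)
  refine ⟨g, σ, aut_ext_xr (by omega) fun i j hij t => ?_⟩
  rw [hτ i j hij, fieldAut_xr σ hij]
  congr 1
  show τ i j t = s t
  by_cases hi : i = z
  · subst hi; exact hzj j hij.symm t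
  · by_cases hj : j = z
    · subst hj; exact hz i hi t
    · exact hnz i j hi hj hij t

/-- The element `x(a) y(b) x(a)` of `PSL_2`. -/
noncomputable def wElt (a b : F) : Matrix.ProjectiveSpecialLinearGroup (Fin 2) F :=
  xr 0 1 a * xr 1 0 b * xr 0 1 a

/-- The matrix `x(a) y(b) x(a)`. -/
def wMat (a b : F) : Matrix.SpecialLinearGroup (Fin 2) F :=
  Matrix.SpecialLinearGroup.transvection zero_ne_one a *
    Matrix.SpecialLinearGroup.transvection one_ne_zero b *
    Matrix.SpecialLinearGroup.transvection zero_ne_one a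

omit [Fintype F] in
theorem wElt_eq_mk (a b : F) :
    (wElt a b : Matrix.ProjectiveSpecialLinearGroup (Fin 2) F) = QuotientGroup.mk (wMat a b) := by
  rw [wElt, xr_eq_mk zero_ne_one, xr_eq_mk one_ne_zero]
  rfl

omit [Fintype F] in
theorem coe_w (a b : F) :
    ((wMat a b : Matrix.SpecialLinearGroup (Fin 2) F) : Matrix (Fin 2) (Fin 2) F) =
      !![1 + a * b, (1 + a * b) * a + a; b, b * a + 1] := by
  simp only [wMat, Matrix.SpecialLinearGroup.coe_mul, Matrix.SpecialLinearGroup.transvection_coe]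
  ext i j
  fin_cases i <;> fin_cases j <;> simp [Matrix.mul_apply, Fin.sum_univ_two]

theorem wElt_conj {a : F} (ha : a ≠ 0) (t : F) :
    (wElt a (-a⁻¹) : Matrix.ProjectiveSpecialLinearGroup (Fin 2) F) * xr 1 0 t * (wElt a (-a⁻¹))⁻¹ =
      xr 0 1 (-a ^ 2 * t) := by
  rw [mul_inv_eq_iff_eq_mul, wElt_eq_mk, xr_eq_mk one_ne_zero, xr_eq_mk zero_ne_one,
    ← QuotientGroup.mk_mul, ← QuotientGroup.mk_mul]
  congr 1
  apply Subtype.ext
  rw [Matrix.SpecialLinearGroup.coe_mul, Matrix.SpecialLinearGroup.coe_mul, coe_w,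
    Matrix.SpecialLinearGroup.transvection_coe, Matrix.SpecialLinearGroup.transvection_coe]
  ext i j
  fin_cases i <;> fin_cases j <;> simp [Matrix.mul_apply, Fin.sum_univ_two] <;> (try field_simp) <;> (try ring_nf) <;> (try simp)

theorem wElt_cond {A B : F}
    (h : ∀ t : F, (wElt A B : Matrix.ProjectiveSpecialLinearGroup (Fin 2) F) * xr 0 1 t * (wElt A B)⁻¹ ∈
      coordSet 2 F 1 0) : 1 + A * B = 0 := by
  have h01 : (0 : Fin 2) ≠ 1 := by decide
  set W := wMat A B with hW
  have h1 := h 1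
  rw [wElt_eq_mk, ← hW, ← MulAut.conj_apply, ← conjAut_toGL, xr, conjAut_rootElt _ (isPair_single h01).orth] at h1
  have hne := rootElt_ne_one (le_refl 2) ((isPair_single (F := F) h01).conj (Matrix.SpecialLinearGroup.toGL W))
    (one_ne_zero (α := F))
  have hp := (par_of_mem_rootSet (le_refl 2) ((isPair_single (F := F) h01).conj (Matrix.SpecialLinearGroup.toGL W))
    (isPair_single h01.symm) ⟨1, rfl⟩ h1 hne).1
  obtain ⟨c, hc⟩ := hp
  have e0 := congrFun hc 0
  have e1 := congrFun hc 1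
  have hmat : ((Matrix.SpecialLinearGroup.toGL W : GL (Fin 2) F) : Matrix (Fin 2) (Fin 2) F) =
      !![1 + A * B, (1 + A * B) * A + A; B, B * A + 1] := coe_w A B
  simp [hmat, Matrix.mulVec_single] at e0 e1
  rcases e0 with h0 | h0
  · rw [h0, zero_mul] at e1
    exact absurd e1 one_ne_zero
  · exact h0

theorem exists_fieldAut_two (β : MulAut (Matrix.ProjectiveSpecialLinearGroup (Fin 2) F))
    (hβ : ∀ i j, i ≠ j → β '' coordSet 2 F i j = coordSet 2 F i j) :
    ∃ (g : GL (Fin 2) F) (σ : F ≃+* F), conjAut g * β = fieldAut σ := by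
  obtain ⟨g, τ, hτ, hadd, hbij, h1⟩ := exists_normalised (le_refl 2) β hβ
  set β' := conjAut g * β
  have h01 : (0 : Fin 2) ≠ 1 := by decide
  have hzero : ∀ i j, i ≠ j → τ i j 0 = 0 := fun i j h => by
    have := hadd i j h 0 0
    rw [add_zero] at this
    exact left_eq_add.1 this
  have hneg : ∀ i j, i ≠ j → ∀ t, τ i j (-t) = -τ i j t := fun i j h t => by
    have := hadd i j h t (-t)
    rw [add_neg_cancel, hzero i j h] at this
    exact eq_neg_of_add_eq_zero_right this.symm
  set r : F → F := τ 1 0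
  set s : F → F := τ 0 1
  have hrn : ∀ t, r (-t) = -r t := hneg 1 0 h01.symm
  have hsn : ∀ t, s (-t) = -s t := hneg 0 1 h01
  have hs0 : s 0 = 0 := hzero 0 1 h01
  have hsadd : ∀ x y, s (x + y) = s x + s y := hadd 0 1 h01
  have hw : ∀ a b, β' (wElt a b) = wElt (s a) (r b) := fun a b => by
    rw [wElt, map_mul, map_mul, hτ 0 1 h01, hτ 1 0 h01.symm]
    rfl
  have hr1 : r 1 = 1 := h1 1 h01.symm
  have hkey : ∀ a, a ≠ 0 → r (-a⁻¹) = -(s a)⁻¹ := by
    intro a ha
    have hc : 1 + s a * r (-a⁻¹) = 0 := by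
      apply wElt_cond
      intro t
      obtain ⟨u, rfl⟩ := (hbij 0 1 h01).2 t
      rw [← hw, ← hτ 0 1 h01, ← map_inv, ← map_mul, ← map_mul]
      have hconj : (wElt a (-a⁻¹) : Matrix.ProjectiveSpecialLinearGroup (Fin 2) F) * xr 0 1 u *
          (wElt a (-a⁻¹))⁻¹ = xr 1 0 (-(a⁻¹) ^ 2 * u) := by
        rw [mul_inv_eq_iff_eq_mul, wElt_eq_mk, xr_eq_mk one_ne_zero, xr_eq_mk zero_ne_one,
          ← QuotientGroup.mk_mul, ← QuotientGroup.mk_mul]
        congr 1
        apply Subtype.ext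
        rw [Matrix.SpecialLinearGroup.coe_mul, Matrix.SpecialLinearGroup.coe_mul, coe_w,
          Matrix.SpecialLinearGroup.transvection_coe, Matrix.SpecialLinearGroup.transvection_coe]
        ext i j
        fin_cases i <;> fin_cases j <;> simp [Matrix.mul_apply, Fin.sum_univ_two] <;> (try field_simp) <;> (try ring_nf) <;> (try simp)
      rw [hconj, hτ 1 0 h01.symm]
      exact ⟨_, rfl⟩
    have hsa : s a ≠ 0 := fun h0 => by simp [h0] at hc
    apply mul_left_cancel₀ hsa
    rw [mul_neg, mul_inv_cancel₀ hsa]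
    linear_combination hc
  have hs1 : s 1 = 1 := by
    have := hkey 1 one_ne_zero
    rw [inv_one, hrn, hr1, neg_inj] at this
    exact inv_eq_one.1 this.symm
  have hst : ∀ a, a ≠ 0 → ∀ t, s (-a ^ 2 * t) = -(s a) ^ 2 * r t := by
    intro a ha t
    have hsa : s a ≠ 0 := fun h0 => ha ((hbij 0 1 h01).1 (h0.trans (hs0).symm))
    apply xr_injective (le_refl 2) h01
    rw [← hτ 0 1 h01, ← wElt_conj ha, map_mul, map_mul, map_inv, hw, hkey a ha, hτ 1 0 h01.symm,
      wElt_conj hsa]
  have hrs : ∀ t, r t = s t := fun t => by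
    have := hst 1 one_ne_zero t
    rw [hs1, one_pow, neg_mul, one_mul, neg_mul, one_mul, hsn] at this
    exact (neg_inj.1 this).symm
  have hsq : ∀ a, s (a ^ 2) = s a ^ 2 := fun a => by
    by_cases ha : a = 0
    · rw [ha, zero_pow two_ne_zero, hs0, zero_pow two_ne_zero]
    · have := hst a ha 1
      rw [mul_one, hr1, mul_one, hsn] at this
      exact neg_inj.1 this
  have hsqt : ∀ a t, s (a ^ 2 * t) = s (a ^ 2) * s t := fun a t => by
    by_cases ha : a = 0
    · rw [ha, zero_pow two_ne_zero, zero_mul, hs0, zero_mul]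
    · have := hst a ha t
      rw [neg_mul, hsn, hrs, neg_mul, neg_inj] at this
      rw [this, hsq]
  have hsmul : ∀ a b, s (a * b) = s a * s b := by
    intro a b
    by_cases h2 : (2 : F) = 0
    · obtain ⟨p, hp⟩ := CharP.exists F
      have hp2 : p = 2 := (Nat.prime_dvd_prime_iff_eq (CharP.char_is_prime F p) Nat.prime_two).1
        ((CharP.cast_eq_zero_iff F p 2).1 (by simpa using h2))
      subst hp2
      obtain ⟨c, rfl⟩ := FiniteField.isSquare_of_char_two (ringChar.eq F 2) a
      rw [← sq, hsqt]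
    · have hsub : ∀ x y, s (x - y) = s x - s y := fun x y => by
        rw [sub_eq_add_neg, hsadd, hsn, ← sub_eq_add_neg]
      have ha : a = ((a + 1) / 2) ^ 2 - ((a - 1) / 2) ^ 2 := by field_simp; ring
      rw [ha, sub_mul, hsub, hsub, hsqt, hsqt, sub_mul]
  let σ : F ≃+* F := RingEquiv.ofBijective
    ({ toFun := s
       map_one' := hs1
       map_mul' := hsmul
       map_zero' := hs0
       map_add' := hadd 0 1 h01 } : F →+* F) (hbij 0 1 h01)
  refine ⟨g, σ, aut_ext_xr (le_refl 2) fun i j hij t => ?_⟩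
  show β' (xr i j t) = _
  rw [hτ i j hij, fieldAut_xr σ hij]
  congr 1
  fin_cases i <;> fin_cases j
  · exact absurd rfl hij
  · rfl
  · exact hrs t
  · exact absurd rfl hij

/-- **Automorphisms of `PSL_n(F)`**. -/
theorem exists_decomp (hn : 2 ≤ n) (α : MulAut PSLn) :
    ∃ (g : GL (Fin n) F) (σ : F ≃+* F) (γ : MulAut PSLn),
      (γ = 1 ∨ (3 ≤ n ∧ γ = invT)) ∧ α = conjAut g * fieldAut σ * γ := by
  obtain ⟨γ, hγ, P, hP⟩ := exists_fix_coord hn α
  have hfield : ∃ (g : GL (Fin n) F) (σ : F ≃+* F), conjAut g * (conjAut P * (γ * α)) = fieldAut σ := by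
    rcases Nat.eq_or_lt_of_le hn with h2 | h3
    · subst h2
      exact exists_fieldAut_two _ hP
    · exact exists_fieldAut_three h3 _ hP
  obtain ⟨g, σ, hσ⟩ := hfield
  rw [← mul_assoc, ← map_mul] at hσ
  have h1 : γ * α = conjAut (g * P)⁻¹ * fieldAut σ := by
    rw [← hσ, map_inv, inv_mul_cancel_left]
  rcases hγ with rfl | ⟨h3, rfl⟩
  · rw [one_mul] at h1
    exact ⟨_, σ, 1, Or.inl rfl, by rw [mul_one]; exact h1⟩
  · refine ⟨glInvT (g * P)⁻¹, σ, invT, Or.inr ⟨h3, rfl⟩, ?_⟩
    have h2 : α = invT * (conjAut (g * P)⁻¹ * fieldAut σ) := by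
      rw [← h1, ← mul_assoc, invT_mul_self, one_mul]
    rw [h2, ← mul_assoc, invT_mul_conjAut, mul_assoc, ← fieldAut_mul_invT, mul_assoc]

/-- `Inndiag` is normal in the automorphism group. -/
theorem inndiagPSL_normal (hn : 2 ≤ n) : (Cfsg.inndiagPSL n F).Normal := by
  rw [inndiagPSL_eq_range]
  refine ⟨?_⟩
  rintro _ ⟨h, rfl⟩ α
  obtain ⟨g, σ, γ, hγ, rfl⟩ := exists_decomp hn α
  obtain ⟨h', hh'⟩ : ∃ h', γ * conjAut h * γ⁻¹ = conjAut h' := by
    rcases hγ with rfl | ⟨-, rfl⟩
    · exact ⟨h, by simp⟩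
    · exact ⟨glInvT h, by rw [invT_mul_conjAut, mul_inv_cancel_right]⟩
  refine ⟨g * GeneralLinearGroup.map σ.toRingHom h' * g⁻¹, ?_⟩
  calc conjAut (g * GeneralLinearGroup.map σ.toRingHom h' * g⁻¹)
      = conjAut g * (conjAut (GeneralLinearGroup.map σ.toRingHom h') * fieldAut σ) * (fieldAut σ)⁻¹ * (conjAut g)⁻¹ := by
        rw [map_mul, map_mul, map_inv]; group
    _ = conjAut g * (fieldAut σ * conjAut h') * (fieldAut σ)⁻¹ * (conjAut g)⁻¹ := by rw [fieldAut_mul_conjAut]
    _ = conjAut g * fieldAut σ * γ * conjAut h * (conjAut g * fieldAut σ * γ)⁻¹ := by rw [← hh']; group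

end

end Cfsg.Agent.Lib.AutPSL
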