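import Cfsg.Agent.Lib.AutPSL.Root
import Cfsg.Agent.Lib.Linear.Unipotent

/-!
The upper unitriangular Sylow subgroup of `PSL_n` has a root subgroup as centre; so automorphisms
permute root subgroups.
-/

set_option autoImplicit false

namespace Cfsg.Agent.Lib.AutPSL

open Matrix
open scoped MatrixGroups Pointwise

variable {n : ℕ} {F : Type*} [Field F]

local notation "SLn" => Matrix.SpecialLinearGroup (Fin n) F
local notation "PSLn" => Matrix.ProjectiveSpecialLinearGroup (Fin n) F

/-- Upper unitriangular matrices. -/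
def IsUni (M : Matrix (Fin n) (Fin n) F) : Prop :=
  (∀ i, M i i = 1) ∧ M.BlockTriangular id

theorem IsUni.mul {A B : Matrix (Fin n) (Fin n) F} (hA : IsUni A) (hB : IsUni B) : IsUni (A * B) := by
  refine ⟨fun i => ?_, hA.2.mul hB.2⟩
  rw [Matrix.mul_apply, Finset.sum_eq_single i, hA.1, hB.1, mul_one]
  · intro k _ hk
    rcases lt_or_gt_of_ne hk with h | h
    · rw [hA.2 h, zero_mul]
    · rw [hB.2 h, mul_zero]
  · simp

/-- The upper unitriangular subgroup of `SL_n`. -/
def uni (n : ℕ) (F : Type*) [Field F] [Finite F] : Subgroup (Matrix.SpecialLinearGroup (Fin n) F) :=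
  Subgroup.closure {s : Matrix.SpecialLinearGroup (Fin n) F | IsUni (s : Matrix (Fin n) (Fin n) F)}

theorem mem_uni_iff [Finite F] {s : SLn} : s ∈ uni n F ↔ IsUni (s : Matrix (Fin n) (Fin n) F) := by
  constructor
  · intro hs
    rw [uni, ← Subgroup.mem_toSubmonoid, Subgroup.closure_toSubmonoid_of_finite] at hs
    induction hs using Submonoid.closure_induction with
    | mem x hx => exact hx
    | one =>
      refine ⟨fun i => by simp, ?_⟩
      rw [Matrix.SpecialLinearGroup.coe_one]
      exact Matrix.blockTriangular_one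
    | mul x y _ _ hx hy => rw [Matrix.SpecialLinearGroup.coe_mul]; exact hx.mul hy
  · exact fun h => Subgroup.subset_closure h

theorem det_of_isUni {M : Matrix (Fin n) (Fin n) F} (h : IsUni M) : M.det = 1 := by
  rw [Matrix.det_of_upperTriangular h.2]
  exact Finset.prod_eq_one fun i _ => h.1 i

theorem card_lt_pairs (n : ℕ) : Nat.card {x : Fin n × Fin n // x.1 < x.2} = n * (n - 1) / 2 := by
  have e : {x : Fin n × Fin n // x.1 < x.2} ≃ Σ j : Fin n, Fin (j : ℕ) :=
    { toFun := fun x => ⟨x.1.2, ⟨x.1.1, x.2⟩⟩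
      invFun := fun y => ⟨(⟨y.2.val, lt_trans y.2.isLt y.1.isLt⟩, y.1), y.2.isLt⟩
      left_inv := fun x => rfl
      right_inv := fun y => rfl }
  rw [Nat.card_congr e, Nat.card_sigma]
  simp only [Nat.card_eq_fintype_card, Fintype.card_fin]
  rw [Fin.sum_univ_eq_sum_range (fun i => i), Finset.sum_range_id]

theorem card_uni [Fintype F] : Nat.card (uni n F) = Fintype.card F ^ (n * (n - 1) / 2) := by
  classical
  let mk : ({x : Fin n × Fin n // x.1 < x.2} → F) → Matrix (Fin n) (Fin n) F := fun a =>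
    Matrix.of fun i j => if i = j then 1 else if h : i < j then a ⟨(i, j), h⟩ else 0
  have hmk : ∀ a, IsUni (mk a) := fun a => by
    refine ⟨fun i => by simp [mk], fun i j hij => ?_⟩
    simp only [id] at hij
    simp [mk, hij.ne', hij.not_gt]
  have e : (uni n F : Type _) ≃ ({x : Fin n × Fin n // x.1 < x.2} → F) :=
    { toFun := fun s x => ((s : SLn) : Matrix (Fin n) (Fin n) F) x.1.1 x.1.2
      invFun := fun a => ⟨⟨mk a, det_of_isUni (hmk a)⟩, mem_uni_iff.2 (hmk a)⟩
      left_inv := fun s => by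
        apply Subtype.ext; apply Subtype.ext
        have hs := mem_uni_iff.1 s.2
        ext i j
        simp only [mk, Matrix.of_apply]
        split_ifs with h1 h2
        · subst h1; exact (hs.1 i).symm
        · rfl
        · exact (hs.2 (show id j < id i from lt_of_le_of_ne (not_lt.1 h2) (Ne.symm h1))).symm
      right_inv := fun a => by
        funext x
        simp [mk, x.2.ne, x.2] }
  rw [Nat.card_congr e, Nat.card_fun, card_lt_pairs, Nat.card_eq_fintype_card]

theorem uni_inf_center_eq_one (hn : 2 ≤ n) [Finite F] {s : SLn} (hs : s ∈ uni n F)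
    (h1 : (QuotientGroup.mk s : PSLn) = 1) : s = 1 := by
  obtain ⟨c, hc⟩ := (mk_eq_one_iff s).1 h1
  have h := (mem_uni_iff.1 hs).1 ⟨0, by omega⟩
  rw [hc] at h
  have hc1 : c = 1 := by simpa using h
  apply Subtype.ext
  rw [hc, hc1, one_smul]
  rfl

/-- The image of `uni` in `PSL_n`. -/
def uniBar (n : ℕ) (F : Type*) [Field F] [Finite F] :
    Subgroup (Matrix.ProjectiveSpecialLinearGroup (Fin n) F) :=
  (uni n F).map (QuotientGroup.mk' _)

theorem card_uniBar (hn : 2 ≤ n) [Fintype F] :
    Nat.card (uniBar n F) = Fintype.card F ^ (n * (n - 1) / 2) := by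
  rw [← card_uni (n := n) (F := F)]
  symm
  refine Nat.card_congr (Equiv.ofBijective
    (fun s => ⟨QuotientGroup.mk' _ s.1, s.1, s.2, rfl⟩) ⟨fun s t hst => ?_, ?_⟩)
  · have h := congrArg Subtype.val hst
    simp only [QuotientGroup.mk'_apply] at h
    have h1 : (QuotientGroup.mk (s.1⁻¹ * t.1) : PSLn) = 1 := by
      rw [QuotientGroup.mk_mul, QuotientGroup.mk_inv, h, inv_mul_cancel]
    exact Subtype.ext (inv_mul_eq_one.1 (uni_inf_center_eq_one hn (mul_mem (inv_mem s.2) t.2) h1))
  · rintro ⟨x, s, hs, rfl⟩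
    exact ⟨⟨s, hs⟩, rfl⟩

/-- Some Sylow `p`-subgroup equals `uniBar`. -/
theorem exists_sylow_uniBar (hn : 2 ≤ n) [Fintype F] (p : ℕ) [Fact p.Prime] [CharP F p] :
    ∃ P : Sylow p PSLn, (P : Subgroup PSLn) = uniBar n F := by
  have hcard : Nat.card (uniBar n F) = p ^ (Nat.card PSLn).factorization p := by
    have hGL := Cfsg.Agent.Lib.Linear.factorization_card_GL (F := F) p n
    obtain ⟨k, hk, hq⟩ := Cfsg.Agent.Lib.Linear.exists_card_eq_pow (F := F) p
    have hp : p.Prime := Fact.out
    have hdvd : Nat.card (uniBar n F) ∣ Nat.card PSLn := Subgroup.card_subgroup_dvd_card _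
    rw [card_uniBar hn, hq, ← pow_mul] at hdvd ⊢
    rw [hq, ← pow_mul] at hGL
    have h1 : k * (n * (n - 1) / 2) ≤ (Nat.card PSLn).factorization p :=
      (hp.pow_dvd_iff_le_factorization Nat.card_pos.ne').1 hdvd
    have h2 : (Nat.card PSLn).factorization p ≤ (Nat.card (GL (Fin n) F)).factorization p := by
      have hd : Nat.card PSLn ∣ Nat.card (GL (Fin n) F) :=
        (Subgroup.card_quotient_dvd_card _).trans
          (Subgroup.card_dvd_of_injective _ Matrix.SpecialLinearGroup.toGL_injective)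
      exact (Nat.factorization_le_iff_dvd Nat.card_pos.ne' Nat.card_pos.ne').2 hd p
    rw [Nat.pow_right_injective hp.two_le hGL] at h2
    rw [le_antisymm h1 h2]
  exact ⟨Sylow.ofCard (uniBar n F) hcard, rfl⟩

/-- The centre of a subgroup, as a set. -/
def zSet {G : Type*} [Group G] (S : Set G) : Set G := {x | x ∈ S ∧ ∀ y ∈ S, x * y = y * x}

theorem image_zSet {G : Type*} [Group G] (α : MulAut G) (S : Set G) : α '' zSet S = zSet (α '' S) := by
  ext x
  constructor
  · rintro ⟨y, ⟨hy, hyc⟩, rfl⟩
    exact ⟨⟨y, hy, rfl⟩, fun z ⟨w, hw, hz⟩ => by rw [← hz, ← map_mul, hyc w hw, map_mul]⟩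
  · rintro ⟨⟨y, hy, rfl⟩, hc⟩
    refine ⟨y, ⟨hy, fun w hw => α.injective ?_⟩, rfl⟩
    rw [map_mul, map_mul]
    exact hc _ ⟨w, hw, rfl⟩

/-- The base root subgroup. -/
theorem zSet_uniBar (hn : 2 ≤ n) [Finite F] :
    zSet ((uniBar n F : Subgroup PSLn) : Set PSLn) =
      rootSet (Pi.single (⟨0, by omega⟩ : Fin n) 1) (Pi.single (⟨n - 1, by omega⟩ : Fin n) 1) := by
  classical
  set a : Fin n := ⟨0, by omega⟩
  set b : Fin n := ⟨n - 1, by omega⟩
  have hab : a < b := Fin.mk_lt_mk.2 (by omega)
  have hab0 : (Pi.single b 1 : Fin n → F) ⬝ᵥ Pi.single a 1 = 0 := by simp [hab.ne']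
  have hsingle : ∀ (i j : Fin n) (t : F), vecMulVec (t • (Pi.single i 1 : Fin n → F)) (Pi.single j 1) = Matrix.single i j t := by
    intro i j t
    ext x y
    by_cases hx : i = x <;> by_cases hy : j = y <;>
      simp [vecMulVec_apply, Pi.single_apply, Matrix.single_apply, hx, hy, eq_comm]
  ext x
  constructor
  · rintro ⟨⟨s, hs, rfl⟩, hc⟩
    have hu := mem_uni_iff.1 hs
    set M : Matrix (Fin n) (Fin n) F := (s : Matrix (Fin n) (Fin n) F) with hM
    have hcomm : ∀ i j, i < j → M * Matrix.single i j 1 = Matrix.single i j 1 * M := by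
      intro i j hij
      have hut : IsUni (1 + Matrix.single i j (1 : F)) := by
        refine ⟨fun k => ?_, fun k l hkl => ?_⟩
        · simp only [Matrix.add_apply, one_apply_eq, single_apply, add_eq_left, ite_eq_right_iff,
            one_ne_zero, imp_false, not_and]
          rintro rfl rfl
          exact lt_irrefl _ hij
        · simp only [id] at hkl
          simp only [Matrix.add_apply, one_apply_ne hkl.ne', single_apply, zero_add, ite_eq_right_iff,
            one_ne_zero, imp_false, not_and]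
          rintro rfl rfl
          exact lt_asymm hij hkl
      let u : SLn := ⟨1 + Matrix.single i j (1 : F), det_of_isUni hut⟩
      have hcu := hc (QuotientGroup.mk' _ u) ⟨u, mem_uni_iff.2 hut, rfl⟩
      simp only [QuotientGroup.mk'_apply, ← QuotientGroup.mk_mul] at hcu
      obtain ⟨c, hcc⟩ := (mk_eq_mk_iff _ _).1 hcu
      simp only [Matrix.SpecialLinearGroup.coe_mul] at hcc
      have h00 := congrFun (congrFun hcc a) a
      have hm1 : IsUni ((1 + Matrix.single i j (1 : F)) * M) := hut.mul hu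
      have hm2 : IsUni (M * (1 + Matrix.single i j (1 : F))) := hu.mul hut
      rw [Matrix.smul_apply, smul_eq_mul] at h00
      rw [show (((1 + Matrix.single i j (1 : F)) * M) a a) = 1 from hm1.1 a,
        show ((M * (1 + Matrix.single i j (1 : F))) a a) = 1 from hm2.1 a, mul_one] at h00
      change (1 + Matrix.single i j (1 : F)) * M = c • (M * (1 + Matrix.single i j (1 : F))) at hcc
      rw [← h00, one_smul, Matrix.add_mul, Matrix.one_mul, Matrix.mul_add, Matrix.mul_one] at hcc
      exact (add_left_cancel hcc).symm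
    refine ⟨M a b, ?_⟩
    rw [rootElt, QuotientGroup.mk'_apply]
    congr 1
    apply Subtype.ext
    rw [coe_tv (orth_smul hab0 _), hsingle]
    ext k l
    rcases lt_trichotomy k l with hkl | hkl | hkl
    · by_cases hk : k = a
      · subst hk
        by_cases hl : l = b
        · subst hl
          simp [hkl.ne, ← hM]
        · have hlb : l < b := lt_of_le_of_ne (Fin.le_def.2 (by show l.val ≤ n - 1; omega)) hl
          have := congrFun (congrFun (hcomm l b hlb) a) b
          simp [Matrix.mul_apply, single_apply, hkl.ne, hkl.ne'] at this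
          simp [hkl.ne, ← hM, Ne.symm hl, this]
      · have hak : a < k := lt_of_le_of_ne (Fin.le_def.2 (Nat.zero_le _)) (Ne.symm hk)
        have := congrFun (congrFun (hcomm a k hak) a) l
        simp [Matrix.mul_apply, single_apply, hkl.ne] at this
        simp [hkl.ne, ← hM, Ne.symm hk, this]
    · subst hkl
      have : ¬ (a = k ∧ b = k) := fun h => hab.ne (h.1.trans h.2.symm)
      simp [← hM, hu.1 k, single_apply, this]
    · have : ¬ (a = k ∧ b = l) := fun h => lt_asymm hab (by rw [h.1, h.2]; exact hkl)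
      simp [← hM, hu.2 (show id l < id k from hkl), single_apply, this, hkl.ne']
  · rintro ⟨t, rfl⟩
    have hco : ((tv (t • (Pi.single a 1 : Fin n → F)) (Pi.single b 1) : SLn) : Matrix (Fin n) (Fin n) F) =
        1 + Matrix.single a b t := by rw [coe_tv (orth_smul hab0 _), hsingle]
    have hut : IsUni (1 + Matrix.single a b t) := by
      refine ⟨fun k => ?_, fun k l hkl => ?_⟩
      · have : ¬ (a = k ∧ b = k) := fun h => hab.ne (h.1.trans h.2.symm)
        simp [single_apply, this]
      · simp only [id] at hkl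
        have : ¬ (a = k ∧ b = l) := fun h => lt_asymm hab (by rw [h.1, h.2]; exact hkl)
        simp [single_apply, this, hkl.ne']
    refine ⟨⟨_, mem_uni_iff.2 (hco ▸ hut), rfl⟩, ?_⟩
    rintro _ ⟨s, hs, rfl⟩
    have hu := mem_uni_iff.1 hs
    rw [rootElt, QuotientGroup.mk'_apply, ← QuotientGroup.mk_mul, ← QuotientGroup.mk_mul]
    congr 1
    apply Subtype.ext
    rw [Matrix.SpecialLinearGroup.coe_mul, Matrix.SpecialLinearGroup.coe_mul, hco, Matrix.add_mul,
      Matrix.one_mul, Matrix.mul_add, Matrix.mul_one]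
    congr 1
    ext k l
    set M : Matrix (Fin n) (Fin n) F := (s : Matrix (Fin n) (Fin n) F)
    by_cases hk : k = a
    · subst hk
      by_cases hl : l = b
      · subst hl
        simp [hu.1]
      · have hlb : l < b := lt_of_le_of_ne (Fin.le_def.2 (by show l.val ≤ n - 1; omega)) hl
        simp [hu.2 (show id l < id b from hlb), Ne.symm hl, hl]
    · have hak : a < k := lt_of_le_of_ne (Fin.le_def.2 (Nat.zero_le _)) (Ne.symm hk)
      by_cases hl : l = b
      · subst hl
        simp [hu.2 (show id a < id k from hak), hk, Ne.symm hk]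
      · simp [hk, Ne.symm hk, hl, Ne.symm hl]

theorem exists_GL_pair (hn : 2 ≤ n) {v f : Fin n → F} (hp : IsPair v f) :
    ∃ g : GL (Fin n) F, (g : Matrix (Fin n) (Fin n) F) *ᵥ Pi.single (⟨0, by omega⟩ : Fin n) 1 = v ∧
      Pi.single (⟨n - 1, by omega⟩ : Fin n) 1 ᵥ* ((g⁻¹ : GL (Fin n) F) : Matrix (Fin n) (Fin n) F) = f := by
  classical
  set a : Fin n := ⟨0, by omega⟩
  set b : Fin n := ⟨n - 1, by omega⟩
  have hab : a ≠ b := fun h => by simp [a, b, Fin.ext_iff] at h; omega
  obtain ⟨i, hi⟩ := Function.ne_iff.1 hp.ne_v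
  simp only [Pi.zero_apply] at hi
  let N : Matrix (Fin n) (Fin n) F := (Matrix.updateCol 1 i v).submatrix id (Equiv.swap i a)
  have hN : N.det ≠ 0 := by
    have h1 : (Matrix.updateCol (1 : Matrix (Fin n) (Fin n) F) i v).det = v i := by
      rw [← Matrix.cramer_apply, Matrix.cramer_one]; rfl
    rw [Matrix.det_permute', h1]
    refine mul_ne_zero ?_ hi
    rcases Int.units_eq_one_or (Equiv.Perm.sign (Equiv.swap i a)) with h | h <;> simp [h]
  let g1 : GL (Fin n) F := Matrix.GeneralLinearGroup.mkOfDetNeZero N hN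
  have hg1 : (g1 : Matrix (Fin n) (Fin n) F) *ᵥ Pi.single a 1 = v := by
    ext k
    simp [g1, Matrix.GeneralLinearGroup.val_mkOfDetNeZero, N, Matrix.mulVec_single]
  set f1 : Fin n → F := f ᵥ* (g1 : Matrix (Fin n) (Fin n) F)
  have hf1a : f1 a = 0 := by
    have : f1 ⬝ᵥ Pi.single a 1 = 0 := by rw [← dotProduct_mulVec, hg1, hp.orth]
    simpa using this
  obtain ⟨k, hk⟩ : ∃ k, f1 k ≠ 0 := by
    by_contra hcon
    simp only [not_exists, not_not] at hcon
    apply hp.ne_f
    have h0 : f1 = 0 := funext hcon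
    have := congrArg (fun x => x ᵥ* ((g1⁻¹ : GL (Fin n) F) : Matrix (Fin n) (Fin n) F)) h0
    simpa [f1, vecMul_vecMul] using this
  have hka : k ≠ a := fun h => hk (h ▸ hf1a)
  let M : Matrix (Fin n) (Fin n) F := (Matrix.updateRow 1 k f1).submatrix (Equiv.swap k b) id
  have hM : M.det ≠ 0 := by
    have h1 : (Matrix.updateRow (1 : Matrix (Fin n) (Fin n) F) k f1).det = f1 k := by
      rw [← Matrix.det_transpose, ← Matrix.updateCol_transpose, Matrix.transpose_one, ← Matrix.cramer_apply,
        Matrix.cramer_one]; rfl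
    rw [Matrix.det_permute, h1]
    refine mul_ne_zero ?_ hk
    rcases Int.units_eq_one_or (Equiv.Perm.sign (Equiv.swap k b)) with h | h <;> simp [h]
  let m : GL (Fin n) F := Matrix.GeneralLinearGroup.mkOfDetNeZero M hM
  have hma : (m : Matrix (Fin n) (Fin n) F) *ᵥ Pi.single a 1 = Pi.single a 1 := by
    ext l
    have hsw : Equiv.swap k b a = a := Equiv.swap_apply_of_ne_of_ne (Ne.symm hka) hab
    simp only [m, Matrix.GeneralLinearGroup.val_mkOfDetNeZero, M, Matrix.mulVec_single, mul_one]
    by_cases hl : Equiv.swap k b l = k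
    · have hlb : l = b := by
        have := congrArg (Equiv.swap k b) hl
        rwa [Equiv.swap_apply_self, Equiv.swap_apply_left] at this
      subst hlb
      simp [hl, hf1a, hab.symm]
    · rw [Pi.single_apply]
      have : Equiv.swap k b l = a ↔ l = a := by
        constructor
        · intro h
          have := congrArg (Equiv.swap k b) h
          rwa [Equiv.swap_apply_self, hsw] at this
        · rintro rfl; exact hsw
      simp [Matrix.updateRow_apply, hl, Matrix.one_apply, this]
  have hmb : Pi.single b 1 ᵥ* (m : Matrix (Fin n) (Fin n) F) = f1 := by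
    ext l
    simp [m, Matrix.GeneralLinearGroup.val_mkOfDetNeZero, M, Matrix.single_vecMul]
  refine ⟨g1 * m⁻¹, ?_, ?_⟩
  · rw [Units.val_mul, ← mulVec_mulVec]
    have : ((m⁻¹ : GL (Fin n) F) : Matrix (Fin n) (Fin n) F) *ᵥ Pi.single a 1 = Pi.single a 1 := by
      conv_lhs => rw [← hma, mulVec_mulVec, Units.inv_mul, one_mulVec]
    rw [this, hg1]
  · rw [_root_.mul_inv_rev, inv_inv, Units.val_mul, ← vecMul_vecMul, hmb, vecMul_vecMul, Units.mul_inv,
      vecMul_one]

/-- Automorphisms permute root subgroups. -/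
theorem exists_image_rootSet (hn : 2 ≤ n) [Fintype F] (α : MulAut PSLn) {v f : Fin n → F}
    (hp : IsPair v f) : ∃ v' f', IsPair v' f' ∧ α '' rootSet v f = rootSet v' f' := by
  classical
  obtain ⟨p, hchar⟩ := CharP.exists F
  have hpr : p.Prime := CharP.char_is_prime F p
  have := Fact.mk hpr
  set a : Fin n := ⟨0, by omega⟩
  set b : Fin n := ⟨n - 1, by omega⟩
  have hab : a ≠ b := fun h => by simp [a, b, Fin.ext_iff] at h; omega
  have hpair : IsPair (Pi.single a 1 : Fin n → F) (Pi.single b 1) :=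
    ⟨by simp, by simp, by simp [hab.symm]⟩
  obtain ⟨g, hg1, hg2⟩ := exists_GL_pair hn hp
  have hbase : ∀ β : MulAut PSLn, ∃ v' f', IsPair v' f' ∧
      β '' rootSet (Pi.single a 1) (Pi.single b 1) = rootSet v' f' := by
    intro β
    obtain ⟨P, hP⟩ := exists_sylow_uniBar (F := F) hn p
    obtain ⟨s, hs⟩ := MulAction.exists_smul_eq PSLn P
      (P.mapSurjective (f := (β : PSLn →* PSLn)) β.surjective)
    obtain ⟨t, rfl⟩ := QuotientGroup.mk_surjective s
    set h := Matrix.SpecialLinearGroup.toGL t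
    refine ⟨_, _, hpair.conj h, ?_⟩
    have hset : β '' ((uniBar n F : Subgroup PSLn) : Set PSLn) =
        conjAut h '' ((uniBar n F : Subgroup PSLn) : Set PSLn) := by
      have h0 : MulAut.conj (QuotientGroup.mk t : PSLn) • (P : Subgroup PSLn) =
          (P : Subgroup PSLn).map (β : PSLn →* PSLn) :=
        congrArg (fun Q : Sylow p PSLn => (Q : Subgroup PSLn)) hs
      rw [hP] at h0
      have h1 := congrArg (fun S : Subgroup PSLn => (S : Set PSLn)) h0
      rw [conjAut_toGL]
      exact h1.symm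
    rw [← conjAut_rootSet h hpair.orth, ← zSet_uniBar hn, image_zSet, image_zSet, hset]
  obtain ⟨v', f', hp', he⟩ := hbase (α * conjAut g)
  refine ⟨v', f', hp', ?_⟩
  rw [← he]
  conv_lhs => rw [← hg1, ← hg2, ← conjAut_rootSet g hpair.orth]
  rw [Set.image_image]
  rfl

end Cfsg.Agent.Lib.AutPSL
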