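import Cfsg.Agent.Lib.AutPSL.Split

/-!
The outer automorphism group of `PSL_n(q)`.
-/

set_option autoImplicit false

namespace Cfsg.Agent.Lib.AutPSL

open Matrix

variable {n : ℕ} {F : Type*} [Field F]

local notation "PSLn" => Matrix.ProjectiveSpecialLinearGroup (Fin n) F
local notation "GLn" => GL (Fin n) F

/-- The powers of inverse-transpose. -/
def invTHom : Multiplicative (ZMod 2) →* MulAut PSLn where
  toFun e := if e = 1 then 1 else invT
  map_one' := if_pos rfl
  map_mul' a b := by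
    rcases (show a = 1 ∨ a = Multiplicative.ofAdd 1 by revert a; decide) with rfl | rfl <;>
      rcases (show b = 1 ∨ b = Multiplicative.ofAdd 1 by revert b; decide) with rfl | rfl
    · simp
    · simp
    · simp
    · rw [show (Multiplicative.ofAdd (1 : ZMod 2) * Multiplicative.ofAdd 1) = 1 from by decide, if_pos rfl,
        if_neg (by decide), invT_mul_self]

theorem isCyclic_fieldAuts [Finite F] : IsCyclic (F ≃+* F) := by
  obtain ⟨p, hp⟩ := CharP.exists F
  haveI : Fact p.Prime := ⟨CharP.char_is_prime F p⟩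
  letI := ZMod.algebra F p
  have hbij : Function.Surjective (fun τ : F ≃ₐ[ZMod p] F => τ.toRingEquiv) := fun σ =>
    ⟨AlgEquiv.ofRingEquiv (f := σ) fun x =>
      RingHom.congr_fun (Subsingleton.elim (σ.toRingHom.comp (algebraMap (ZMod p) F)) (algebraMap (ZMod p) F)) x,
      RingEquiv.ext fun x => rfl⟩
  exact isCyclic_of_surjective
    (MonoidHom.mk' (fun τ : F ≃ₐ[ZMod p] F => τ.toRingEquiv) fun _ _ => rfl) hbij

/-- The diagonal matrix `diag(z, 1, …, 1)`. -/
def diagFirst (hn : 0 < n) : Fˣ →* GLn where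
  toFun z := ⟨diagonal (fun i => ((Pi.mulSingle ⟨0, hn⟩ z : Fin n → Fˣ) i : F)),
    diagonal (fun i => (((Pi.mulSingle ⟨0, hn⟩ z : Fin n → Fˣ) i)⁻¹ : Fˣ)), by simp, by simp⟩
  map_one' := Units.ext (by simp)
  map_mul' a b := Units.ext (by simp [Pi.mulSingle_mul, diagonal_mul_diagonal])

theorem det_diagFirst (hn : 0 < n) (z : Fˣ) : GeneralLinearGroup.det (diagFirst hn z : GLn) = z :=
  Units.ext (by simp [diagFirst, ← Units.coe_prod])

/-- The outer automorphism group: the diagonal part is cyclic of order `gcd(n, q-1)`, the quotient is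
the group of field automorphisms, times the graph automorphism for `n ≥ 3`. -/
theorem exists_out_hom [Fintype F] (hn : 2 ≤ n) {C : Type*} [Group C] (γ : C →* MulAut PSLn)
    (hγc : ∀ (σ : F ≃+* F) (c : C), Commute (fieldAut σ) (γ c))
    (hγi : ∀ (g : GLn) (σ : F ≃+* F) (c : C), conjAut g * fieldAut σ = γ c → c = 1)
    (hγs : ∀ α : MulAut PSLn, ∃ (g : GLn) (σ : F ≃+* F) (c : C), α = conjAut g * fieldAut σ * γ c) :
    ∃ φ : Cfsg.Out PSLn →* (F ≃+* F) × C,
      Function.Surjective φ ∧ IsCyclic φ.ker ∧ Nat.card φ.ker = Nat.gcd n (Fintype.card F - 1) := by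
  classical
  haveI := inndiagPSL_normal (n := n) (F := F) hn
  set π := QuotientGroup.mk' (Cfsg.inndiagPSL n F)
  have hπ : ∀ g : GLn, π (conjAut g) = 1 := fun g =>
    (QuotientGroup.eq_one_iff _).2 (conjAut_mem_inndiag g)
  let Θ : (F ≃+* F) × C →* MulAut PSLn ⧸ Cfsg.inndiagPSL n F :=
    π.comp (fieldAut.noncommCoprod γ hγc)
  have hΘi : Function.Injective Θ := by
    refine (injective_iff_map_eq_one _).2 ?_
    rintro ⟨σ, c⟩ h
    have h1 : (fieldAut σ * γ c : MulAut PSLn) ∈ Cfsg.inndiagPSL n F := (QuotientGroup.eq_one_iff _).1 h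
    rw [inndiagPSL_eq_range] at h1
    obtain ⟨g, hg⟩ := h1
    have h2 : conjAut (mapGL σ⁻¹ g) * fieldAut σ⁻¹ = γ c := by
      rw [← fieldAut_conjAut, hg, map_inv]
      group
    obtain rfl := hγi _ _ c h2
    rw [map_one] at h2
    exact Prod.ext (inv_eq_one.1 (eq_one_of_conj_field hn h2).2) rfl
  have hΘs : Function.Surjective Θ := by
    intro x
    induction x using QuotientGroup.induction_on with | H α => ?_
    obtain ⟨g, σ, c, rfl⟩ := hγs α
    refine ⟨(σ, c), ?_⟩
    show π (fieldAut σ * γ c) = π (conjAut g * fieldAut σ * γ c)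
    rw [mul_assoc, map_mul π (conjAut g), hπ, one_mul]
  let e := MulEquiv.ofBijective Θ ⟨hΘi, hΘs⟩
  let φ : Cfsg.Out PSLn →* (F ≃+* F) × C := QuotientGroup.lift (Cfsg.Inn PSLn) (e.symm.toMonoidHom.comp π)
    (fun α hα => by
      show e.symm (π α) = 1
      rw [show π α = 1 from (QuotientGroup.eq_one_iff _).2 (inn_le_inndiag hα), map_one])
  let D : Fˣ →* Cfsg.Out PSLn :=
    (QuotientGroup.mk' (Cfsg.Inn PSLn)).comp (conjAut.comp (diagFirst (by omega)))
  have hker : φ.ker = D.range := by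
    ext x
    induction x using QuotientGroup.induction_on with | H α => ?_
    rw [MonoidHom.mem_ker]
    constructor
    · intro h
      have h1 : π α = 1 := e.symm.map_eq_one_iff.1 h
      have h2 := (QuotientGroup.eq_one_iff _).1 h1
      rw [inndiagPSL_eq_range] at h2
      obtain ⟨g, rfl⟩ := h2
      refine ⟨GeneralLinearGroup.det g, QuotientGroup.eq.2 ?_⟩
      show (conjAut (diagFirst _ (GeneralLinearGroup.det g)))⁻¹ * conjAut g ∈ Cfsg.Inn PSLn
      rw [inn_eq_map, ← map_inv, ← map_mul]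
      exact ⟨_, MonoidHom.mem_ker.2 (by rw [map_mul, map_inv, det_diagFirst, inv_mul_cancel]), rfl⟩
    · rintro ⟨z, hz⟩
      rw [← hz]
      show e.symm (π (conjAut _)) = 1
      rw [hπ, map_one]
  have hDker : D.ker = (powMonoidHom n : Fˣ →* Fˣ).range := by
    ext z
    rw [MonoidHom.mem_ker]
    constructor
    · intro h
      have h1 : (conjAut (diagFirst (by omega) z) : MulAut PSLn) ∈ Cfsg.Inn PSLn := (QuotientGroup.eq_one_iff _).1 h
      rw [inn_eq_map] at h1
      obtain ⟨s, hs, e1⟩ := h1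
      obtain ⟨c, hc⟩ := (conjAut_eq_iff hn).1 e1
      refine ⟨c, ?_⟩
      have := congrArg GeneralLinearGroup.det hc
      rw [det_diagFirst, map_mul, MonoidHom.mem_ker.1 hs, mul_one, GeneralLinearGroup.det_scalar,
        Fintype.card_fin] at this
      exact this.symm
    · rintro ⟨c, rfl⟩
      refine (QuotientGroup.eq_one_iff _).2 ?_
      rw [inn_eq_map]
      refine ⟨(GeneralLinearGroup.scalar (Fin n) c)⁻¹ * diagFirst (by omega) (c ^ n), MonoidHom.mem_ker.2 ?_, ?_⟩
      · rw [map_mul, map_inv, det_diagFirst, GeneralLinearGroup.det_scalar, Fintype.card_fin, inv_mul_cancel]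
      · rw [map_mul, map_inv, conjAut_scalar, inv_one, one_mul]
        rfl
  refine ⟨φ, ?_, ?_, ?_⟩
  · intro y
    obtain ⟨α, hα⟩ := QuotientGroup.mk_surjective (e y)
    exact ⟨QuotientGroup.mk α, (congrArg e.symm hα).trans (e.symm_apply_apply y)⟩
  · rw [hker]
    exact isCyclic_of_surjective D.rangeRestrict D.rangeRestrict_surjective
  · rw [hker, ← Subgroup.index_ker, hDker, IsCyclic.index_powMonoidHom_range, Nat.gcd_comm, Nat.card_units,
      Nat.card_eq_fintype_card]

end Cfsg.Agent.Lib.AutPSL
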