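import Cfsg.Agent.Lib.AutPSL.GraphCentralizer
import Cfsg.Agent.Lib.Symplectic.Simple

/-!
Centralisers of graph involutions of `PSL_n(q)`, `q` odd, given by an alternating form: the image of the
symplectic group.
-/

set_option autoImplicit false

namespace Cfsg.Agent.Lib.AutPSL

open Matrix Cfsg.Agent.Lib.Symplectic MulAction
open scoped LinearAlgebra.Projectivization

section Isom

variable {F : Type*} {V : Type*} [Field F] [AddCommGroup V] [Module F V] [FiniteDimensional F V]
variable {B : V →ₗ[F] V →ₗ[F] F}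

theorem normal_isom_cases (hB : IsSympForm B) (M : Subgroup (Isom B)) [M.Normal] :
    M ≤ Subgroup.center (Isom B) ∨ commutator (Isom B) ≤ M := by
  haveI := isPreprimitive_proj hB
  by_cases hfix : fixedPoints M (ℙ F V) = Set.univ
  · exact Or.inl fun g hg => mem_center_of_forall_smul hB fun q =>
      (Set.eq_univ_iff_forall.mp hfix q) ⟨g, hg⟩
  · exact Or.inr ((iwasawa hB).commutator_le M hfix)

theorem isPGroup_isom_quotient (hB : IsSympForm B) (r : ℕ) [CharP F r] (M : Subgroup (Isom B)) [M.Normal]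
    (h : commutator (Isom B) ≤ M) : IsPGroup r (Isom B ⧸ M) := by
  have key : ∀ g : Isom B, Abelianization.of g ^ r = 1 := by
    intro g
    have hg : g ∈ TG hB := by rw [TG_eq_top hB]; exact Subgroup.mem_top g
    refine Subgroup.closure_induction (p := fun g _ => Abelianization.of g ^ r = 1) ?_ ?_ ?_ ?_ hg
    · rintro _ ⟨⟨a, c⟩, rfl⟩
      have hpow : ∀ k : ℕ, transv hB a c ^ k = transv hB a ((k : F) * c) := by
        intro k
        induction k with
        | zero => simp [transv_zero]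
        | succ k ih => rw [pow_succ, ih, transv_mul]; congr 1; push_cast; ring
      show Abelianization.of (transv hB a c) ^ r = 1
      rw [← map_pow, hpow, CharP.cast_eq_zero F r, zero_mul, transv_zero, map_one]
    · rw [map_one, one_pow]
    · intro x y _ _ hx hy; rw [map_mul, mul_pow, hx, hy, one_mul]
    · intro x _ hx; rw [map_inv, inv_pow, hx, inv_one]
  intro x
  obtain ⟨g, rfl⟩ := QuotientGroup.mk_surjective x
  refine ⟨1, ?_⟩
  rw [pow_one, ← QuotientGroup.mk_pow, QuotientGroup.eq_one_iff]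
  refine h ?_
  rw [← Abelianization.ker_of, MonoidHom.mem_ker, map_pow]
  exact key g

end Isom

variable {n : ℕ} {F : Type*} [Field F]

local notation "PSLn" => Matrix.ProjectiveSpecialLinearGroup (Fin n) F
local notation "GLn" => GL (Fin n) F
local notation "Mn" => Matrix (Fin n) (Fin n) F
local notation "Vn" => (Fin n → F)

/-- A semilinear map fixing every line is scalar. -/
theorem eq_scalar_of_forall_eigen (hn : 2 ≤ n) (k : GLn) (τ : F ≃+* F)
    (h : ∀ v : Vn, v ≠ 0 → ∃ a : F, (k : Mn) *ᵥ (⇑τ ∘ v) = a • v) :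
    τ = 1 ∧ ∃ a : F, (k : Mn) = a • (1 : Mn) := by
  classical
  have hs : ∀ i, ⇑τ ∘ (Pi.single i 1 : Vn) = Pi.single i 1 := fun i => by
    funext j; simp [Pi.single_apply, apply_ite τ]
  have hsingle : ∀ i, ∃ a : F, (k : Mn) *ᵥ Pi.single i 1 = a • (Pi.single i 1 : Vn) := fun i => by
    obtain ⟨a, ha⟩ := h _ (show (Pi.single i 1 : Vn) ≠ 0 by simp)
    exact ⟨a, by rwa [hs] at ha⟩
  choose a ha using hsingle
  have hkey : ∀ i j, i ≠ j → ∀ t : F, τ t * a j = t * a i := by
    intro i j hij t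
    obtain ⟨b, hb⟩ := h (Pi.single i 1 + t • Pi.single j 1) (fun e => by
      have := congrFun e i; simp [hij] at this)
    have e1 : ⇑τ ∘ (Pi.single i 1 + t • Pi.single j 1 : Vn) = Pi.single i 1 + τ t • Pi.single j 1 := by
      funext l; simp [Pi.single_apply, apply_ite τ]
    rw [e1, Matrix.mulVec_add, Matrix.mulVec_smul, ha, ha] at hb
    have e2 := congrFun hb i
    have e3 := congrFun hb j
    simp [hij, hij.symm] at e2 e3
    rw [e3, e2, mul_comm]
  haveI : Nontrivial (Fin n) := Fin.nontrivial_iff_two_le.2 hn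
  let i₀ : Fin n := ⟨0, by omega⟩
  obtain ⟨j₀, hj₀⟩ := exists_ne i₀
  have haa : ∀ i, a i = a i₀ := fun i => by
    rcases eq_or_ne i i₀ with rfl | hi
    · rfl
    · simpa using hkey i₀ i hi.symm 1
  have ha0 : a i₀ ≠ 0 := fun h0 => by
    have h1 := congrArg (fun y => ((k⁻¹ : GLn) : Mn) *ᵥ y) (ha i₀)
    simp only [h0, zero_smul, Matrix.mulVec_mulVec, ← Units.val_mul, inv_mul_cancel, Units.val_one,
      Matrix.one_mulVec, Matrix.mulVec_zero] at h1
    simpa using congrFun h1 i₀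
  refine ⟨RingEquiv.ext fun t => ?_, a i₀, Matrix.ext fun i j => ?_⟩
  · have h1 := hkey i₀ j₀ hj₀.symm t
    rw [haa j₀] at h1
    exact mul_right_cancel₀ ha0 h1
  · have := congrFun (ha j) i
    rw [haa j] at this
    simpa [Matrix.mulVec_single_one, Matrix.one_apply, Pi.single_apply] using this

/-- `GL_n(F)` as a group of linear equivalences. -/
def glEquiv : GL (Fin n) F ≃* ((Fin n → F) ≃ₗ[F] (Fin n → F)) :=
  Matrix.GeneralLinearGroup.toLin.trans (LinearMap.GeneralLinearGroup.generalLinearEquiv F (Fin n → F))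

theorem glEquiv_apply (g : GLn) (x : Vn) : glEquiv g x = (g : Mn) *ᵥ x := rfl

/-- The bilinear form of `G⁻¹`. -/
noncomputable def altB (G : GL (Fin n) F) : (Fin n → F) →ₗ[F] (Fin n → F) →ₗ[F] F :=
  Matrix.toBilin' ((G⁻¹ : GL (Fin n) F) : Matrix (Fin n) (Fin n) F)

theorem altB_apply (G : GLn) (x y : Vn) : altB G x y = frm G 1 x y :=
  Matrix.toBilin'_apply' _ x y

/-- The symplectic group of `G⁻¹`, in `Aut(PSL_n)`. -/
noncomputable def altAut (G : GL (Fin n) F) :
    Isom (altB G) →* MulAut (Matrix.ProjectiveSpecialLinearGroup (Fin n) F) :=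
  conjAut.comp (glEquiv.symm.toMonoidHom.comp (Isom (altB G)).subtype)

theorem glEquiv_symm_mulVec (e : Vn ≃ₗ[F] Vn) (x : Vn) :
    ((glEquiv.symm e : GLn) : Mn) *ᵥ x = e x := by
  rw [← glEquiv_apply, MulEquiv.apply_symm_apply]

variable {G : GL (Fin n) F} (h2 : (2 : F) ≠ 0) (hG : (G : Matrix (Fin n) (Fin n) F)ᵀ = -(G : Matrix (Fin n) (Fin n) F))

include h2 hG

theorem isSympForm_altB : IsSympForm (altB G) := by
  have hH : ((G⁻¹ : GLn) : Mn)ᵀ = -((G⁻¹ : GLn) : Mn) := by
    have h1 : (G : Mn)ᵀ * ((G⁻¹ : GLn) : Mn)ᵀ = 1 := by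
      rw [← Matrix.transpose_mul, Units.inv_mul, Matrix.transpose_one]
    rw [hG, Matrix.neg_mul, neg_eq_iff_eq_neg] at h1
    calc _ = ((G⁻¹ : GLn) : Mn) * ((G : Mn) * ((G⁻¹ : GLn) : Mn)ᵀ) := by
          rw [← Matrix.mul_assoc, Units.inv_mul, Matrix.one_mul]
      _ = _ := by rw [h1, Matrix.mul_neg, Matrix.mul_one]
  refine ⟨fun x => ?_, fun x hx => ?_⟩
  · have e : altB G x x = -altB G x x := by
      rw [altB, Matrix.toBilin'_apply']
      conv_lhs => rw [Matrix.dotProduct_mulVec, ← Matrix.mulVec_transpose, hH, Matrix.neg_mulVec, neg_dotProduct,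
        dotProduct_comm]
    rw [eq_neg_iff_add_eq_zero, ← two_mul, mul_eq_zero] at e
    exact e.resolve_left h2
  · have h0 : x ᵥ* ((G⁻¹ : GLn) : Mn) = 0 := funext fun j => by
      have := hx (Pi.single j 1)
      rw [altB, Matrix.toBilin'_apply', Matrix.dotProduct_mulVec] at this
      simpa using this
    have := congrArg (fun v => v ᵥ* (G : Mn)) h0
    simpa [Matrix.vecMul_vecMul] using this

theorem det_altIsom (e : Isom (altB G)) :
    ((glEquiv.symm (e : Vn ≃ₗ[F] Vn) : GLn) : Mn).det = 1 := by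
  have hB := isSympForm_altB h2 hG
  have he : e ∈ TG hB := by rw [TG_eq_top hB]; exact Subgroup.mem_top e
  rw [TG] at he
  refine Subgroup.closure_induction
    (p := fun (e' : Isom (altB G)) _ => ((glEquiv.symm (e' : Vn ≃ₗ[F] Vn) : GLn) : Mn).det = 1)
    (x := e) ?_ ?_ ?_ ?_ he
  · rintro _ ⟨⟨v, c⟩, rfl⟩
    have hmat : ((glEquiv.symm ((transv hB v c : Isom (altB G)) : Vn ≃ₗ[F] Vn) : GLn) : Mn) =
        1 + vecMulVec (c • v) (((G⁻¹ : GLn) : Mn) *ᵥ v) := by
      refine Matrix.mulVec_injective (funext fun x => ?_)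
      show _ *ᵥ x = _ *ᵥ x
      rw [glEquiv_symm_mulVec, ← isom_smul_def, transv_smul, Matrix.add_mulVec, Matrix.one_mulVec,
        vecMulVec_mulVec', altB, Matrix.toBilin'_apply', dotProduct_comm x, smul_smul, mul_comm c]
    show Matrix.det _ = 1
    rw [hmat, vecMulVec_eq Unit, det_one_add_replicateCol_mul_replicateRow, dotProduct_smul, dotProduct_comm,
      show v ⬝ᵥ (((G⁻¹ : GLn) : Mn) *ᵥ v) = altB G v v from (Matrix.toBilin'_apply' _ v v).symm, hB.self,
      smul_zero, add_zero]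
  · rw [OneMemClass.coe_one, map_one, Units.val_one, Matrix.det_one]
  · intro x y _ _ hx hy
    rw [Subgroup.coe_mul, map_mul, Units.val_mul, Matrix.det_mul, hx, hy, one_mul]
  · intro x _ hx
    have h1 : (glEquiv.symm ((x⁻¹ : Isom (altB G)) : Vn ≃ₗ[F] Vn) : GLn) *
        glEquiv.symm (x : Vn ≃ₗ[F] Vn) = 1 := by
      rw [← map_mul, ← Subgroup.coe_mul, inv_mul_cancel, OneMemClass.coe_one, map_one]
    have h3 := congrArg (fun A : GLn => (A : Mn).det) h1
    simpa [Matrix.det_mul, hx] using h3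

theorem altAut_range_le (hn : 2 ≤ n) :
    (altAut G).range ≤ Cfsg.Inn PSLn ⊓ Subgroup.centralizer {gph G 1} := by
  rintro _ ⟨e, rfl⟩
  constructor
  · exact ⟨QuotientGroup.mk (⟨_, det_altIsom h2 hG e⟩ : Matrix.SpecialLinearGroup (Fin n) F),
      (conjAut_toGL _).symm.trans (congrArg conjAut (Units.ext rfl))⟩
  · refine Subgroup.mem_centralizer_singleton_iff.2 ((conjAut_commute_gph hn G 1 _).2 ⟨1, ?_⟩)
    refine (gram_graphGL_iff G 1 _ 1).1 ?_
    rw [inv_one, Units.val_one]
    refine gram_of_frm _ 1 fun x y => ?_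
    rw [one_mul, ← altB_apply, ← altB_apply]
    show altB G (((glEquiv.symm (e : Vn ≃ₗ[F] Vn) : GLn) : Mn) *ᵥ x)
      (((glEquiv.symm (e : Vn ≃ₗ[F] Vn) : GLn) : Mn) *ᵥ y) = _
    rw [glEquiv_symm_mulVec, glEquiv_symm_mulVec]
    exact e.2 x y

theorem conj_mem_altAut_range (hn : 2 ≤ n) :
    ∀ d ∈ Cfsg.inndiagPSL n F ⊓ Subgroup.centralizer {gph G 1},
      ∀ k ∈ (altAut G).range, d * k * d⁻¹ ∈ (altAut G).range := by
  rintro d ⟨hd, hdc⟩ _ ⟨e, rfl⟩
  rw [SetLike.mem_coe, inndiagPSL_eq_range] at hd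
  obtain ⟨h, rfl⟩ := hd
  obtain ⟨c, hc⟩ := (conjAut_commute_gph hn G 1 h).1 (Subgroup.mem_centralizer_singleton_iff.1 hdc)
  have hgram := (gram_graphGL_iff G 1 h c).2 hc
  set μ : F := ((c⁻¹ : Fˣ) : F)
  have hh : ∀ a b, altB G ((h : Mn) *ᵥ a) ((h : Mn) *ᵥ b) = μ * altB G a b := fun a b => by
    rw [altB_apply, altB_apply, frm_mulVec, hgram, Matrix.smul_mulVec, dotProduct_smul, smul_eq_mul]
    rfl
  set s : GLn := h * glEquiv.symm (e : Vn ≃ₗ[F] Vn) * h⁻¹
  have hs : glEquiv s ∈ Isom (altB G) := fun x y => by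
    rw [glEquiv_apply, glEquiv_apply]
    simp only [s, Units.val_mul, ← Matrix.mulVec_mulVec, glEquiv_symm_mulVec, hh]
    rw [e.2, ← hh, Matrix.mulVec_mulVec, Matrix.mulVec_mulVec, ← Units.val_mul, mul_inv_cancel, Units.val_one,
      Matrix.one_mulVec, Matrix.one_mulVec]
  refine ⟨⟨_, hs⟩, ?_⟩
  show conjAut (glEquiv.symm (glEquiv s)) = conjAut h * conjAut (glEquiv.symm (e : Vn ≃ₗ[F] Vn)) * (conjAut h)⁻¹
  rw [MulEquiv.symm_apply_apply, map_mul, map_mul, map_inv]

/-- `PSp` in `PSL` has even order. -/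
theorem two_dvd_card_altAut_range [Finite F] (hn : 3 ≤ n) : 2 ∣ Nat.card (altAut G).range := by
  classical
  have hB := isSympForm_altB h2 hG
  let u : Vn := Pi.single ⟨0, by omega⟩ 1
  have hu : u ≠ 0 := by simp [u]
  obtain ⟨v, huv⟩ := hB.exists_eq_one hu
  set e := extHom hB huv (negIsom (restr (altB G) (pairPerp (altB G) u v)))
  obtain ⟨w, hw⟩ : ∃ w : pairPerp (altB G) u v, w ≠ 0 := by
    have h1 := finrank_pairPerp hB huv
    rw [Module.finrank_fin_fun] at h1
    haveI : Nontrivial (pairPerp (altB G) u v) := Module.nontrivial_of_finrank_pos (R := F) (by omega)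
    exact exists_ne 0
  have hee : e * e = 1 := by
    show extHom hB huv _ * extHom hB huv _ = 1
    rw [← map_mul, show negIsom (restr (altB G) (pairPerp (altB G) u v)) * negIsom _ = 1 from
      isom_ext fun x => by rw [mul_smul, negIsom_smul, negIsom_smul, neg_neg, one_smul], map_one]
  have hne : altAut G e ≠ 1 := by
    intro h
    obtain ⟨c, hc⟩ := exists_scalar_of_conjAut_eq_one (by omega) h
    have hsc : ∀ x : Vn, (c : F) • x = e • x := fun x => by
      have h9 := congrArg (fun A : GLn => (A : Mn) *ᵥ x) hc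
      rw [isom_smul_def, ← glEquiv_symm_mulVec (e : Vn ≃ₗ[F] Vn) x]
      refine (h9.trans ?_).symm
      simp only [GeneralLinearGroup.coe_scalar, scalar_apply, ← smul_one_eq_diagonal, Matrix.smul_mulVec,
        Matrix.one_mulVec]
    have h1 := hsc u
    rw [extHom_smul_left hB huv] at h1
    have hc1 : (c : F) = 1 := smul_left_injective F hu (h1.trans (one_smul F u).symm)
    have h3 := hsc (w : Vn)
    rw [hc1, one_smul, extHom_smul_mem hB huv, negIsom_smul, Submodule.coe_neg, eq_neg_iff_add_eq_zero,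
      ← two_smul F] at h3
    exact smul_ne_zero h2 (fun h0 => hw (Subtype.ext h0)) h3
  haveI : Fact (Nat.Prime 2) := ⟨Nat.prime_two⟩
  rw [← orderOf_eq_prime (show altAut G e ^ 2 = 1 by rw [pow_two, ← map_mul, hee, map_one]) hne]
  exact Subgroup.orderOf_dvd_natCard _ (MonoidHom.mem_range.2 ⟨e, rfl⟩)

/-- `PSp` has no nontrivial normal subgroup of odd order. -/
theorem eq_bot_of_le_altAut_range [Finite F] (hn : 3 ≤ n) (r : ℕ) [Fact r.Prime] [CharP F r]
    (W : Subgroup (MulAut PSLn)) (hW : W ≤ (altAut G).range)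
    (hWn : ∀ k ∈ (altAut G).range, ∀ w ∈ W, k * w * k⁻¹ ∈ W) (hWp : ¬ 2 ∣ Nat.card W) : W = ⊥ := by
  have hB := isSympForm_altB h2 hG
  set θ := altAut G
  haveI : Finite (Isom (altB G)) := Finite.of_injective
    (fun e : Isom (altB G) => glEquiv.symm (e : Vn ≃ₗ[F] Vn)) fun a b hab =>
      Subtype.ext (glEquiv.symm.injective hab)
  haveI : (W.comap θ).Normal := ⟨fun w hw g => by
    rw [Subgroup.mem_comap, map_mul, map_mul, map_inv]
    exact hWn _ ⟨g, rfl⟩ _ hw⟩
  rcases normal_isom_cases hB (W.comap θ) with h | h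
  · rw [eq_bot_iff]
    intro w hw
    obtain ⟨e, rfl⟩ := hW hw
    rw [Subgroup.mem_bot]
    rcases eq_scalar_of_mem_center hB (h hw) with rfl | rfl
    · exact map_one θ
    · refine conjAut_eq_one_of_center (mem_center_GL_of_scalar (c := -1) (Matrix.mulVec_injective (funext fun x => ?_)))
      show ((glEquiv.symm (negIsom (altB G) : Vn ≃ₗ[F] Vn) : GLn) : Mn) *ᵥ x = ((-1 : F) • (1 : Mn)) *ᵥ x
      rw [glEquiv_symm_mulVec, Matrix.smul_mulVec, Matrix.one_mulVec, neg_one_smul]
      rfl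
  · exfalso
    obtain ⟨k, hk⟩ := IsPGroup.iff_card.1 (isPGroup_isom_quotient hB r (W.comap θ) h)
    have hN : 2 ∣ Nat.card θ.range := two_dvd_card_altAut_range h2 hG hn
    have h1 := Subgroup.relIndex_mul_relIndex (⊥ : Subgroup (MulAut PSLn)) W θ.range bot_le hW
    rw [Subgroup.relIndex_bot_left, Subgroup.relIndex_bot_left, ← Subgroup.index_comap,
      show (W.comap θ).index = r ^ k from hk] at h1
    rw [← h1] at hN
    rcases Nat.prime_two.dvd_mul.1 hN with h3 | h3
    · exact hWp h3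
    · have hr2 := (Nat.prime_dvd_prime_iff_eq Nat.prime_two Fact.out).1 (Nat.prime_two.dvd_of_dvd_pow h3)
      subst hr2
      exact h2 (by simpa using CharP.cast_eq_zero F 2)

/-- An automorphism of odd order centralising `PSp` is trivial. -/
theorem eq_one_of_centralizes_alt [Fintype F] (hn : 3 ≤ n) (r : ℕ) [Fact r.Prime] [CharP F r]
    {c : MulAut PSLn} {j : ℕ} (hc : c ^ (2 * j + 1) = 1)
    (hcomm : ∀ k ∈ (altAut G).range, c * k = k * c) : c = 1 := by
  classical
  have hB := isSympForm_altB h2 hG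
  have hn2 : 2 ≤ n := by omega
  obtain ⟨k, τ, hkτ⟩ : ∃ (k : GLn) (τ : F ≃+* F), c ^ 2 = conjAut k * fieldAut τ := by
    obtain ⟨g, ρ, γ, hγ, rfl⟩ := exists_decomp hn2 c
    rcases hγ with rfl | ⟨-, rfl⟩
    · exact ⟨tnorm (mapGL ρ) g 2, ρ ^ 2, by rw [mul_one, conjAut_mul_fieldAut_pow]⟩
    · refine ⟨g * graphGL ρ g, ρ ^ 2, ?_⟩
      rw [mul_assoc, pow_two, mul_assoc, ← mul_assoc (fieldAut ρ * invT : MulAut PSLn), fieldAut_invT_conjAut,
        mul_assoc, ← pow_two (fieldAut ρ * invT : MulAut PSLn), fieldAut_invT_pow_two, ← mul_assoc, ← map_mul]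
  have heig : ∀ v : Vn, v ≠ 0 → ∃ a : F, (k : Mn) *ᵥ (⇑τ ∘ v) = a • v := by
    intro v hv
    set T : GLn := glEquiv.symm ((transv hB v 1 : Isom (altB G)) : Vn ≃ₗ[F] Vn)
    have hTx : ∀ x, (T : Mn) *ᵥ x = x + altB G x v • v := fun x => by
      rw [glEquiv_symm_mulVec, ← isom_smul_def, transv_smul, one_mul]
    have hTr : T ^ r = 1 := by
      have hpow : ∀ i : ℕ, transv hB v (1 : F) ^ i = transv hB v (i : F) := by
        intro i
        induction i with
        | zero => simp [transv_zero]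
        | succ i ih => rw [pow_succ, ih, transv_mul, Nat.cast_succ]
      rw [← map_pow, ← SubmonoidClass.coe_pow, hpow, CharP.cast_eq_zero F r, transv_zero, OneMemClass.coe_one,
        map_one]
    have h1 : c ^ 2 * conjAut T = conjAut T * c ^ 2 :=
      ((show Commute c (conjAut T) from hcomm _ ⟨transv hB v 1, rfl⟩).pow_left 2).eq
    rw [hkτ, mul_assoc, fieldAut_conjAut, ← mul_assoc, ← mul_assoc, ← map_mul, ← map_mul, mul_left_inj,
      conjAut_eq_iff hn2] at h1
    obtain ⟨l, hl⟩ := h1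
    have hl1 : l = 1 := by
      have e : k⁻¹ * T * k = GeneralLinearGroup.scalar (Fin n) l * mapGL τ T := by
        rw [mul_assoc, hl, GeneralLinearGroup.scalar_commute l (k * mapGL τ T), ← mul_assoc, inv_mul_cancel_left,
          GeneralLinearGroup.scalar_commute l (mapGL τ T)]
      have e2 := congrArg (fun A : GLn => A ^ r) e
      have hcp : (GeneralLinearGroup.scalar (Fin n) l * mapGL τ T) ^ r =
          GeneralLinearGroup.scalar (Fin n) (l ^ r) := by
        have hcm : Commute (GeneralLinearGroup.scalar (Fin n) l) (mapGL τ T) :=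
          GeneralLinearGroup.scalar_commute l (mapGL τ T)
        rw [hcm.mul_pow, ← map_pow, ← map_pow, hTr, map_one,
          mul_one]
      have hconj : (k⁻¹ * T * k) ^ r = 1 := by
        have := conj_pow (a := k⁻¹) (b := T) (i := r)
        rw [inv_inv] at this
        rw [this, hTr, mul_one, inv_mul_cancel]
      simp only [hconj, hcp] at e2
      have h3 : l ^ r = 1 := scalar_injective (by omega) (e2.symm.trans (map_one _).symm)
      have h4 : ((l : F) - 1) ^ r = 0 := by
        rw [sub_pow_char, one_pow, ← Units.val_pow_eq_pow_val, h3, Units.val_one, sub_self]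
      exact Units.ext (sub_eq_zero.1 (eq_zero_of_pow_eq_zero h4))
    rw [hl1, map_one, one_mul] at hl
    obtain ⟨x, hx⟩ := hB.exists_eq_one hv
    have hx' : altB G (-x) v = 1 := by rw [map_neg, LinearMap.neg_apply, hB.swap, neg_neg, hx]
    set y := -x
    have h5 := congrArg (fun A : GLn => (A : Mn) *ᵥ (⇑τ ∘ y)) hl
    simp only [Units.val_mul, ← Matrix.mulVec_mulVec, coe_mapGL, ← comp_mulVec, hTx, hx', one_smul] at h5
    rw [show ⇑τ ∘ (y + v) = ⇑τ ∘ y + ⇑τ ∘ v from funext fun i => map_add τ _ _, Matrix.mulVec_add,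
      add_right_inj] at h5
    exact ⟨_, h5.symm⟩
  obtain ⟨hτ, a, ha⟩ := eq_scalar_of_forall_eigen hn2 k τ heig
  have hc2 : c ^ 2 = 1 := by
    rw [hkτ, hτ, map_one, mul_one]
    exact conjAut_eq_one_of_center (mem_center_GL_of_scalar ha)
  calc c = (c ^ 2) ^ j * c := by rw [hc2, one_pow, one_mul]
    _ = c ^ (2 * j + 1) := by rw [← pow_mul, ← pow_succ]
    _ = 1 := hc

end Cfsg.Agent.Lib.AutPSL
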