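import Mathlib
import Cfsg.Prelude.Def_LieTypeDatum

/-!
Standard automorphisms of `PSL_n(F)` as homomorphisms into the automorphism group, and their relation
with the predicates of the Prelude.
-/

set_option autoImplicit false

namespace Cfsg.Agent.Lib.AutPSL

open Matrix
open scoped MatrixGroups

variable {n : ℕ} {F : Type*} [Field F]

local notation "SLn" => Matrix.SpecialLinearGroup (Fin n) F
local notation "PSLn" => Matrix.ProjectiveSpecialLinearGroup (Fin n) F

theorem mk_eq_mk_iff (s s' : SLn) :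
    (QuotientGroup.mk s : PSLn) = QuotientGroup.mk s' ↔
      ∃ c : F, (s' : Matrix (Fin n) (Fin n) F) = c • (s : Matrix (Fin n) (Fin n) F) := by
  rw [QuotientGroup.eq, Matrix.SpecialLinearGroup.mem_center_iff]
  constructor
  · rintro ⟨c, -, hc⟩
    refine ⟨c, ?_⟩
    have : s' = s * (s⁻¹ * s') := by group
    rw [this, Matrix.SpecialLinearGroup.coe_mul, ← hc, scalar_apply, ← smul_one_eq_diagonal, Matrix.mul_smul,
      Matrix.mul_one]
  · rintro ⟨c, hc⟩
    refine ⟨c, ?_, ?_⟩
    · have h := congrArg Matrix.det hc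
      rw [det_smul, s'.det_coe, s.det_coe, mul_one] at h
      exact h.symm
    · rw [Matrix.SpecialLinearGroup.coe_mul, hc, Matrix.mul_smul, ← Matrix.SpecialLinearGroup.coe_mul, inv_mul_cancel,
        Matrix.SpecialLinearGroup.coe_one, scalar_apply, smul_one_eq_diagonal]

/-- An automorphism of `SL_n` descends to `PSL_n`. -/
def descend : MulAut SLn →* MulAut PSLn where
  toFun e := QuotientGroup.congr _ _ e
    (Subgroup.characteristic_iff_map_eq.1 inferInstance e)
  map_one' := by
    ext x
    obtain ⟨s, rfl⟩ := QuotientGroup.mk_surjective x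
    rfl
  map_mul' e e' := by
    ext x
    obtain ⟨s, rfl⟩ := QuotientGroup.mk_surjective x
    rfl

@[simp] theorem descend_mk (e : MulAut SLn) (s : SLn) :
    descend e (QuotientGroup.mk s : PSLn) = QuotientGroup.mk (e s) := rfl

/-- Conjugation of `SL_n` by one invertible matrix. -/
def conjEquiv (g : GL (Fin n) F) : MulAut SLn where
  toFun s := ⟨(g : Matrix (Fin n) (Fin n) F) * s * ((g⁻¹ : GL (Fin n) F) : Matrix (Fin n) (Fin n) F), by
    rw [det_mul, det_mul, s.det_coe, mul_one, ← det_mul, Units.mul_inv, det_one]⟩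
  invFun s := ⟨((g⁻¹ : GL (Fin n) F) : Matrix (Fin n) (Fin n) F) * s * (g : Matrix (Fin n) (Fin n) F), by
    rw [det_mul, det_mul, s.det_coe, mul_one, ← det_mul, Units.inv_mul, det_one]⟩
  left_inv s := Subtype.ext (by simp [Matrix.mul_assoc])
  right_inv s := Subtype.ext (by simp [Matrix.mul_assoc])
  map_mul' s t := Subtype.ext (by
    show (g : Matrix (Fin n) (Fin n) F) * ((s : Matrix (Fin n) (Fin n) F) * t) * _ = (_ * _ * _) * (_ * _ * _)
    simp [Matrix.mul_assoc])

theorem coe_conjEquiv (g : GL (Fin n) F) (s : SLn) :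
    ((conjEquiv g s : SLn) : Matrix (Fin n) (Fin n) F) =
      (g : Matrix (Fin n) (Fin n) F) * s * ((g⁻¹ : GL (Fin n) F) : Matrix (Fin n) (Fin n) F) := rfl

/-- Conjugation of `SL_n` by invertible matrices, as a homomorphism. -/
def conjSL : GL (Fin n) F →* MulAut SLn where
  toFun := conjEquiv
  map_one' := MulEquiv.ext fun s => Subtype.ext (by simp [coe_conjEquiv])
  map_mul' g h := MulEquiv.ext fun s => Subtype.ext (by
    simp [coe_conjEquiv, MulAut.mul_apply, Matrix.mul_assoc])

theorem coe_conjSL (g : GL (Fin n) F) (s : SLn) :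
    ((conjSL g s : SLn) : Matrix (Fin n) (Fin n) F) =
      (g : Matrix (Fin n) (Fin n) F) * s * ((g⁻¹ : GL (Fin n) F) : Matrix (Fin n) (Fin n) F) := rfl

/-- The automorphism of `PSL_n` induced by an invertible matrix. -/
def conjAut : GL (Fin n) F →* MulAut PSLn := descend.comp conjSL

@[simp] theorem conjAut_mk (g : GL (Fin n) F) (s : SLn) :
    conjAut g (QuotientGroup.mk s : PSLn) = QuotientGroup.mk (conjSL g s) := rfl

theorem conjSL_toGL (s : SLn) : conjSL (Matrix.SpecialLinearGroup.toGL s) = MulAut.conj s := by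
  refine MulEquiv.ext fun t => Subtype.ext ?_
  rw [coe_conjSL, ← map_inv, MulAut.conj_apply, Matrix.SpecialLinearGroup.coe_mul, Matrix.SpecialLinearGroup.coe_mul]
  rfl

theorem conjAut_toGL (s : SLn) :
    conjAut (Matrix.SpecialLinearGroup.toGL s) = MulAut.conj (QuotientGroup.mk s : PSLn) := by
  ext x
  obtain ⟨t, rfl⟩ := QuotientGroup.mk_surjective x
  rw [conjAut_mk, conjSL_toGL]
  simp [MulAut.conj_apply]

/-- A field automorphism on `SL_n`. -/
def fieldSL : (F ≃+* F) →* MulAut SLn where
  toFun σ :=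
    { toFun := Matrix.SpecialLinearGroup.map σ.toRingHom
      invFun := Matrix.SpecialLinearGroup.map σ.symm.toRingHom
      left_inv := fun s => Subtype.ext (Matrix.ext fun i j => by simp)
      right_inv := fun s => Subtype.ext (Matrix.ext fun i j => by simp)
      map_mul' := map_mul _ }
  map_one' := MulEquiv.ext fun s => Subtype.ext (Matrix.ext fun i j => rfl)
  map_mul' σ τ := MulEquiv.ext fun s => Subtype.ext (Matrix.ext fun i j => rfl)

theorem coe_fieldSL (σ : F ≃+* F) (s : SLn) :
    ((fieldSL σ s : SLn) : Matrix (Fin n) (Fin n) F) = (s : Matrix (Fin n) (Fin n) F).map σ := rfl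

/-- The automorphism of `PSL_n` induced by a field automorphism. -/
def fieldAut : (F ≃+* F) →* MulAut PSLn := descend.comp fieldSL

@[simp] theorem fieldAut_mk (σ : F ≃+* F) (s : SLn) :
    fieldAut σ (QuotientGroup.mk s : PSLn) = QuotientGroup.mk (fieldSL σ s) := rfl

/-- Inverse-transpose on `SL_n`. -/
def transInv : MulAut SLn where
  toFun s := (s⁻¹).transpose
  invFun s := (s⁻¹).transpose
  left_inv s := by
    have h : ((s⁻¹).transpose)⁻¹ = s.transpose := by
      apply inv_eq_of_mul_eq_one_left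
      apply Subtype.ext
      simp only [Matrix.SpecialLinearGroup.coe_mul, Matrix.SpecialLinearGroup.coe_transpose, Matrix.SpecialLinearGroup.coe_one]
      rw [← Matrix.transpose_mul, ← Matrix.SpecialLinearGroup.coe_mul, inv_mul_cancel, Matrix.SpecialLinearGroup.coe_one,
        Matrix.transpose_one]
    show ((s⁻¹).transpose⁻¹).transpose = s
    rw [h]
    exact Subtype.ext (Matrix.transpose_transpose _)
  right_inv s := by
    have h : ((s⁻¹).transpose)⁻¹ = s.transpose := by
      apply inv_eq_of_mul_eq_one_left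
      apply Subtype.ext
      simp only [Matrix.SpecialLinearGroup.coe_mul, Matrix.SpecialLinearGroup.coe_transpose, Matrix.SpecialLinearGroup.coe_one]
      rw [← Matrix.transpose_mul, ← Matrix.SpecialLinearGroup.coe_mul, inv_mul_cancel, Matrix.SpecialLinearGroup.coe_one,
        Matrix.transpose_one]
    show ((s⁻¹).transpose⁻¹).transpose = s
    rw [h]
    exact Subtype.ext (Matrix.transpose_transpose _)
  map_mul' s t := Subtype.ext (by
    rw [_root_.mul_inv_rev]
    simp only [Matrix.SpecialLinearGroup.coe_mul, Matrix.SpecialLinearGroup.coe_transpose, Matrix.transpose_mul])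

theorem transInv_apply (s : SLn) : transInv s = (s⁻¹).transpose := rfl

theorem coe_transInv (s : SLn) :
    ((transInv s : SLn) : Matrix (Fin n) (Fin n) F) = ((s⁻¹ : SLn) : Matrix (Fin n) (Fin n) F)ᵀ := rfl

theorem transInv_mul_self : transInv * transInv = (1 : MulAut SLn) :=
  MulEquiv.ext fun s => transInv.left_inv s

/-- The inverse-transpose automorphism of `PSL_n`. -/
def invT : MulAut PSLn := descend transInv

@[simp] theorem invT_mk (s : SLn) :
    invT (QuotientGroup.mk s : PSLn) = QuotientGroup.mk (transInv s) := rfl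

theorem invT_mul_self : invT * invT = (1 : MulAut PSLn) := by
  rw [invT, ← map_mul, transInv_mul_self, map_one]

/-- The inverse transpose of an invertible matrix. -/
def glInvT (g : GL (Fin n) F) : GL (Fin n) F :=
  ⟨((g⁻¹ : GL (Fin n) F) : Matrix (Fin n) (Fin n) F)ᵀ, (g : Matrix (Fin n) (Fin n) F)ᵀ,
    by rw [← Matrix.transpose_mul, Units.mul_inv, Matrix.transpose_one],
    by rw [← Matrix.transpose_mul, Units.inv_mul, Matrix.transpose_one]⟩

theorem invT_mul_conjAut (g : GL (Fin n) F) :
    (invT : MulAut PSLn) * conjAut g = conjAut (glInvT g) * invT := by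
  have h : (transInv : MulAut SLn) * conjSL g = conjSL (glInvT g) * transInv := by
    refine MulEquiv.ext fun s => Subtype.ext ?_
    simp only [MulAut.mul_apply, coe_transInv, ← map_inv, coe_conjSL, Matrix.transpose_mul]
    rw [Matrix.mul_assoc]
    rfl
  rw [invT, conjAut, MonoidHom.comp_apply, MonoidHom.comp_apply, ← map_mul, h, map_mul]

theorem fieldAut_mul_conjAut (σ : F ≃+* F) (g : GL (Fin n) F) :
    (fieldAut σ : MulAut PSLn) * conjAut g =
      conjAut (GeneralLinearGroup.map σ.toRingHom g) * fieldAut σ := by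
  have h : (fieldSL σ : MulAut SLn) * conjSL g =
      conjSL (GeneralLinearGroup.map σ.toRingHom g) * fieldSL σ := by
    refine MulEquiv.ext fun s => Subtype.ext ?_
    simp only [MulAut.mul_apply, coe_fieldSL, coe_conjSL, Matrix.map_mul]
    rw [← map_inv]
    rfl
  rw [fieldAut, conjAut, MonoidHom.comp_apply, MonoidHom.comp_apply, MonoidHom.comp_apply, ← map_mul, h,
    map_mul]

theorem fieldAut_mul_invT (σ : F ≃+* F) :
    (fieldAut σ : MulAut PSLn) * invT = invT * fieldAut σ := by
  have h : (fieldSL σ : MulAut SLn) * transInv = transInv * fieldSL σ := by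
    refine MulEquiv.ext fun s => Subtype.ext ?_
    simp only [MulAut.mul_apply, coe_fieldSL, coe_transInv, ← map_inv, Matrix.transpose_map]
  rw [invT, fieldAut, MonoidHom.comp_apply, ← map_mul, h, map_mul]

/-! ### Bridge to the predicates of the Prelude -/

theorem isInnerDiagonalAutPSL_iff (β : MulAut PSLn) :
    Cfsg.IsInnerDiagonalAutPSL β ↔ ∃ g : GL (Fin n) F, β = conjAut g := by
  constructor
  · rintro ⟨g, hg⟩
    refine ⟨g, MulEquiv.ext fun x => ?_⟩
    obtain ⟨s, rfl⟩ := QuotientGroup.mk_surjective x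
    rw [conjAut_mk]
    exact hg s _ (coe_conjSL g s)
  · rintro ⟨g, rfl⟩
    refine ⟨g, fun s s' h => ?_⟩
    rw [conjAut_mk, show conjSL g s = s' from Subtype.ext ((coe_conjSL g s).trans h.symm)]

theorem isStdFieldAutPSL_iff (σ : F ≃+* F) (β : MulAut PSLn) :
    Cfsg.IsStdFieldAutPSL σ β ↔ β = fieldAut σ := by
  constructor
  · intro h
    refine MulEquiv.ext fun x => ?_
    obtain ⟨s, rfl⟩ := QuotientGroup.mk_surjective x
    rw [fieldAut_mk]
    exact h s _ (coe_fieldSL σ s)
  · rintro rfl s s' h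
    rw [fieldAut_mk, show fieldSL σ s = s' from Subtype.ext ((coe_fieldSL σ s).trans h.symm)]

theorem isFieldAutPSL_iff (β : MulAut PSLn) :
    Cfsg.IsFieldAutPSL β ↔ ∃ σ, β = fieldAut σ :=
  exists_congr fun σ => isStdFieldAutPSL_iff σ β

theorem isInverseTransposeAutPSL_iff (β : MulAut PSLn) :
    Cfsg.IsInverseTransposeAutPSL β ↔ β = invT := by
  constructor
  · intro h
    refine MulEquiv.ext fun x => ?_
    obtain ⟨s, rfl⟩ := QuotientGroup.mk_surjective x
    rw [invT_mk]
    exact h s _ (coe_transInv s)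
  · rintro rfl s s' h
    rw [invT_mk, show transInv s = s' from Subtype.ext ((coe_transInv s).trans h.symm)]

theorem isInducedBySemilinearPSL_iff (g : GL (Fin n) F) (σ : F ≃+* F) (β : MulAut PSLn) :
    Cfsg.IsInducedBySemilinearPSL g σ β ↔ β = conjAut g * fieldAut σ := by
  constructor
  · intro h
    refine MulEquiv.ext fun x => ?_
    obtain ⟨s, rfl⟩ := QuotientGroup.mk_surjective x
    rw [MulAut.mul_apply, fieldAut_mk, conjAut_mk]
    exact h s _ (by rw [coe_conjSL, coe_fieldSL])
  · rintro rfl s s' h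
    rw [MulAut.mul_apply, fieldAut_mk, conjAut_mk,
      show conjSL g (fieldSL σ s) = s' from
        Subtype.ext ((by rw [coe_conjSL, coe_fieldSL] : _ = _).trans h.symm)]

theorem inndiagPSL_eq_range : Cfsg.inndiagPSL n F = (conjAut : GL (Fin n) F →* MulAut PSLn).range := by
  have h : {β : MulAut PSLn | Cfsg.IsInnerDiagonalAutPSL β} =
      ((conjAut : GL (Fin n) F →* MulAut PSLn).range : Set (MulAut PSLn)) := by
    ext β
    rw [Set.mem_setOf_eq, isInnerDiagonalAutPSL_iff]
    exact ⟨fun ⟨g, h⟩ => ⟨g, h.symm⟩, fun ⟨g, h⟩ => ⟨g, h.symm⟩⟩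
  show Subgroup.closure {β : MulAut PSLn | Cfsg.IsInnerDiagonalAutPSL β} = _
  rw [h, Subgroup.closure_eq]

theorem conjAut_mem_inndiag (g : GL (Fin n) F) : conjAut g ∈ Cfsg.inndiagPSL n F := by
  rw [inndiagPSL_eq_range]; exact ⟨g, rfl⟩

end Cfsg.Agent.Lib.AutPSL
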