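import Cfsg.Agent.Lib.AutPSL.FixField

/-!
The semilinear graph automorphism `g ↦ σ(g)⁻ᵀ` of `GL_n`: hermitian matrices are congruent to `1`.
-/

set_option autoImplicit false

namespace Cfsg.Agent.Lib.AutPSL

open Matrix

variable {n : ℕ} {F : Type*} [Field F]

local notation "PSLn" => Matrix.ProjectiveSpecialLinearGroup (Fin n) F
local notation "GLn" => GL (Fin n) F

/-- Inverse-transpose on `GL_n`, as an automorphism. -/
def invTGL : MulAut GLn where
  toFun := glInvT
  invFun := glInvT
  left_inv g := Units.ext (Matrix.transpose_transpose _)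
  right_inv g := Units.ext (Matrix.transpose_transpose _)
  map_mul' g h := Units.ext (by
    show ((((g * h)⁻¹ : GLn) : Matrix (Fin n) (Fin n) F))ᵀ = ((g⁻¹ : GLn) : Matrix (Fin n) (Fin n) F)ᵀ * ((h⁻¹ : GLn) : Matrix (Fin n) (Fin n) F)ᵀ
    rw [_root_.mul_inv_rev, Units.val_mul, Matrix.transpose_mul])

/-- `g ↦ σ(g)⁻ᵀ`. -/
def graphGL (σ : F ≃+* F) : MulAut GLn := mapGL σ * invTGL

theorem coe_graphGL (σ : F ≃+* F) (g : GLn) :
    ((graphGL σ g : GLn) : Matrix (Fin n) (Fin n) F) =
      (((g⁻¹ : GLn) : Matrix (Fin n) (Fin n) F).map σ)ᵀ :=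
  (Matrix.transpose_map ..).symm

theorem coe_graphGL_inv (σ : F ≃+* F) (g : GLn) :
    (((graphGL σ g)⁻¹ : GLn) : Matrix (Fin n) (Fin n) F) = ((g : Matrix (Fin n) (Fin n) F).map σ)ᵀ := by
  rw [← map_inv, coe_graphGL, inv_inv]

theorem graphGL_scalar (σ : F ≃+* F) (z : Fˣ) :
    graphGL σ (GeneralLinearGroup.scalar (Fin n) z) =
      GeneralLinearGroup.scalar (Fin n) (mapUnits σ z)⁻¹ := by
  apply Units.ext
  rw [coe_graphGL, ← map_inv (GeneralLinearGroup.scalar (Fin n)) z, ← map_inv (mapUnits σ),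
    GeneralLinearGroup.coe_scalar, GeneralLinearGroup.coe_scalar, coe_mapUnits, Matrix.scalar_apply,
    Matrix.scalar_apply, Matrix.diagonal_map (map_zero σ), Matrix.diagonal_transpose]

theorem det_graphGL (σ : F ≃+* F) (g : GLn) :
    GeneralLinearGroup.det (graphGL σ g) = (mapUnits σ (GeneralLinearGroup.det g))⁻¹ := by
  rw [← map_inv (mapUnits σ), ← map_inv]
  refine Units.ext ?_
  show Matrix.det ((graphGL σ g : GLn) : Matrix (Fin n) (Fin n) F) = _
  rw [coe_graphGL, Matrix.det_transpose]
  exact (RingHom.map_det σ.toRingHom _).symm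

theorem fieldAut_invT_conjAut (σ : F ≃+* F) (g : GLn) :
    (fieldAut σ * invT : MulAut PSLn) * conjAut g = conjAut (graphGL σ g) * (fieldAut σ * invT) := by
  rw [mul_assoc, invT_mul_conjAut, ← mul_assoc, fieldAut_conjAut, mul_assoc]
  rfl

theorem graphGL_graphGL {σ : F ≃+* F} (hσ : ∀ x, σ (σ x) = x) (g : GLn) :
    graphGL σ (graphGL σ g) = g := by
  apply Units.ext
  rw [coe_graphGL, coe_graphGL_inv]
  ext i j
  simp [hσ]

theorem fieldAut_invT_pow_two (σ : F ≃+* F) :
    (fieldAut σ * invT : MulAut PSLn) ^ 2 = fieldAut (σ ^ 2) := by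
  rw [pow_two, pow_two, map_mul, mul_assoc, ← mul_assoc invT, ← fieldAut_mul_invT, mul_assoc,
    invT_mul_self, mul_one]

/-- Hermitian matrices over a finite field are congruent to `1`. -/
theorem exists_congr_one [Finite F] {σ : F ≃+* F} (hσ : orderOf σ = 2) {g : GLn}
    (hg : g * graphGL σ g = 1) : ∃ h : GLn, g = h * (graphGL σ h)⁻¹ := by
  classical
  have hσ2 : ∀ x, σ (σ x) = x := fun x => by
    have : σ ^ 2 = 1 := by rw [← hσ]; exact pow_orderOf_eq_one σ
    exact (RingEquiv.congr_fun (pow_two σ).symm x).trans (RingEquiv.congr_fun this x)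
  obtain ⟨a, ha⟩ : ∃ a, σ a ≠ a := by
    by_contra h
    push Not at h
    have h1 : σ = 1 := RingEquiv.ext h
    rw [h1, orderOf_one] at hσ
    omega
  -- `g` is hermitian
  have hH : ((g : Matrix (Fin n) (Fin n) F).map σ)ᵀ = g := by
    rw [← coe_graphGL_inv, ← eq_inv_of_mul_eq_one_left hg]
  set H : Matrix (Fin n) (Fin n) F := (g : Matrix (Fin n) (Fin n) F) with hHdef
  have hHij : ∀ i j, σ (H i j) = H j i := fun i j => congrFun (congrFun hH j) i
  let B : (Fin n → F) → (Fin n → F) → F := fun u v => u ⬝ᵥ (H *ᵥ (⇑σ ∘ v))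
  have addl : ∀ u u' v, B (u + u') v = B u v + B u' v := fun u u' v => add_dotProduct ..
  have smull : ∀ (c : F) u v, B (c • u) v = c * B u v := fun c u v => smul_dotProduct ..
  have conjB : ∀ u v, σ (B u v) = B v u := by
    intro u v
    simp only [B, dotProduct, Matrix.mulVec, Function.comp_apply, map_sum, map_mul, Finset.mul_sum,
      hσ2, hHij]
    rw [Finset.sum_comm]
    exact Finset.sum_congr rfl fun i _ => Finset.sum_congr rfl fun j _ => by ring
  have addr : ∀ u v v', B u (v + v') = B u v + B u v' := fun u v v' => by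
    rw [← conjB, addl, map_add, conjB, conjB]
  have smulr : ∀ (c : F) u v, B u (c • v) = σ c * B u v := fun c u v => by
    rw [← conjB, smull, map_mul, conjB]
  have suml : ∀ {k : ℕ} (c : Fin k → F) (b : Fin k → Fin n → F) v,
      B (∑ i, c i • b i) v = ∑ i, c i * B (b i) v := by
    intro k c b v
    simp only [B, sum_dotProduct, smul_dotProduct, smul_eq_mul]
  have nondeg : ∀ w, (∀ v, B w v = 0) → w = 0 := by
    intro w hw
    refine dotProduct_eq_zero_iff.1 fun y => ?_
    have h1 := hw (⇑σ ∘ (((g⁻¹ : GLn) : Matrix (Fin n) (Fin n) F) *ᵥ y))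
    have h2 : ⇑σ ∘ ⇑σ ∘ (((g⁻¹ : GLn) : Matrix (Fin n) (Fin n) F) *ᵥ y) =
        ((g⁻¹ : GLn) : Matrix (Fin n) (Fin n) F) *ᵥ y := funext fun i => hσ2 _
    simp only [B, h2, hHdef, Matrix.mulVec_mulVec, Units.mul_inv, Matrix.one_mulVec] at h1
    exact h1
  have key : ∀ k ≤ n, ∃ b : Fin k → Fin n → F, ∀ i j, B (b i) (b j) = if i = j then 1 else 0 := by
    intro k hk
    induction k with
    | zero => exact ⟨fun i => i.elim0, fun i => i.elim0⟩
    | succ k ih =>
      obtain ⟨b, hb⟩ := ih (by omega)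
      obtain ⟨v₀, hv₀⟩ : ∃ v, v ∉ Submodule.span F (Set.range b) := by
        by_contra h
        push Not at h
        have := finrank_range_le_card (R := F) b
        rw [Set.finrank, show Submodule.span F (Set.range b) = ⊤ from eq_top_iff.2 fun x _ => h x,
          finrank_top, Module.finrank_fin_fun, Fintype.card_fin] at this
        omega
      let proj : (Fin n → F) → (Fin n → F) := fun v => v + ∑ i, (-B v (b i)) • b i
      have hproj : ∀ v j, B (proj v) (b j) = 0 := by
        intro v j
        show B (v + ∑ i, (-B v (b i)) • b i) (b j) = 0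
        rw [addl, suml]
        simp only [hb, mul_ite, mul_one, mul_zero, Finset.sum_ite_eq', Finset.mem_univ, if_true, add_neg_cancel]
      obtain ⟨w, hwb, hw⟩ : ∃ w, (∀ j, B w (b j) = 0) ∧ B w w ≠ 0 := by
        by_contra hcon
        push Not at hcon
        have hzero : ∀ x y, (∀ j, B x (b j) = 0) → (∀ j, B y (b j) = 0) → B x y = 0 := by
          intro x y hx hy
          have h : ∀ c : F, σ c * B x y + c * B y x = 0 := fun c => by
            have := hcon (x + c • y) fun j => by rw [addl, smull, hx, hy, mul_zero, add_zero]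
            rw [addl, smull, addr, addr, smulr, smulr, hcon x hx, hcon y hy] at this
            linear_combination this
          have h1 := h 1
          have h2 := h a
          rw [map_one] at h1
          have : (σ a - a) * B x y = 0 := by linear_combination h2 - a * h1
          exact (mul_eq_zero.1 this).resolve_left (sub_ne_zero.2 ha)
        refine hv₀ ?_
        have hp0 : proj v₀ = 0 := nondeg _ fun v => by
          have h1 := hzero _ _ (hproj v₀) (hproj v)
          have h2 : ∀ i, B (b i) (proj v₀) = 0 := fun i => by rw [← conjB, hproj, map_zero]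
          have hv : v = proj v + ∑ i, B v (b i) • b i := by
            simp [proj, add_assoc, ← Finset.sum_add_distrib, ← add_smul]
          rw [← conjB, hv, addl, suml, ← conjB (proj v₀), h1]
          simp [h2]
        have hv : v₀ = ∑ i, B v₀ (b i) • b i := by
          have : v₀ + ∑ i, (-B v₀ (b i)) • b i = 0 := hp0
          simpa [add_neg_eq_zero] using this
        rw [hv]
        exact Submodule.sum_mem _ fun i _ => Submodule.smul_mem _ _ (Submodule.subset_span ⟨i, rfl⟩)
      obtain ⟨z, hz⟩ := exists_tnorm_eq hσ (by norm_num) (c := (Units.mk0 _ hw)⁻¹) (by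
        rw [map_inv]
        exact congrArg (·⁻¹) (Units.ext (conjB w w)))
      have hz' : (z : F) * σ z * B w w = 1 := by
        have h1 := congrArg Units.val hz
        simp [tnorm_succ] at h1
        rw [h1, inv_mul_cancel₀ hw]
      refine ⟨Fin.cons ((z : F) • w) b, fun i j => ?_⟩
      refine Fin.cases ?_ (fun i' => ?_) i <;> refine Fin.cases ?_ (fun j' => ?_) j
      · rw [Fin.cons_zero, smull, smulr, if_pos rfl, ← mul_assoc, hz']
      · rw [Fin.cons_zero, Fin.cons_succ, smull, hwb, mul_zero, if_neg (Fin.succ_ne_zero j').symm]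
      · rw [Fin.cons_succ, Fin.cons_zero, smulr, ← conjB, hwb, map_zero, mul_zero,
          if_neg (Fin.succ_ne_zero i')]
      · rw [Fin.cons_succ, Fin.cons_succ, hb]
        exact if_congr (Fin.succ_inj).symm rfl rfl
  obtain ⟨b, hb⟩ := key n le_rfl
  let P : Matrix (Fin n) (Fin n) F := Matrix.of b
  have hP : P * H * (P.map σ)ᵀ = 1 := by
    ext i j
    rw [Matrix.one_apply, ← hb i j, Matrix.mul_assoc]
    simp [B, P, Matrix.mul_apply, dotProduct, Matrix.mulVec]
  have hu : IsUnit P :=
    (Matrix.isUnit_iff_isUnit_det _).2 (IsUnit.of_mul_eq_one ((H * (P.map σ)ᵀ).det) (by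
      rw [← Matrix.det_mul, ← Matrix.mul_assoc, hP, Matrix.det_one]))
  refine ⟨hu.unit⁻¹, ?_⟩
  have h1 : hu.unit * g * (graphGL σ hu.unit)⁻¹ = 1 := Units.ext (by
    rw [Units.val_mul, Units.val_mul, coe_graphGL_inv]
    exact hP)
  rw [map_inv, inv_inv]
  calc g = hu.unit⁻¹ * (hu.unit * g * (graphGL σ hu.unit)⁻¹) * graphGL σ hu.unit := by group
    _ = hu.unit⁻¹ * graphGL σ hu.unit := by rw [h1, mul_one]

end Cfsg.Agent.Lib.AutPSL
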