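import Cfsg.Agent.Lib.AutPSL.Split
import Cfsg.Agent.Lib.AutPSL.Hermitian

/-!
Standard representatives of the field and graph-field classes of automorphisms of `PSL_n(q)`.
-/

set_option autoImplicit false

namespace Cfsg.Agent.Lib.AutPSL

open Matrix

variable {n : ℕ} {F : Type*} [Field F]

local notation "PSLn" => Matrix.ProjectiveSpecialLinearGroup (Fin n) F
local notation "GLn" => GL (Fin n) F

theorem fieldAut_injective (hn : 2 ≤ n) :
    Function.Injective (fieldAut : (F ≃+* F) →* MulAut PSLn) := by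
  refine (injective_iff_map_eq_one _).2 fun σ h => ?_
  exact (eq_one_of_conj_field hn (g := 1) (σ := σ) (by rw [h, map_one, one_mul])).2

theorem exists_conjAut_of_commute [Fintype F] (hn : 2 ≤ n) {β x : MulAut PSLn}
    (h1 : ∀ τ : F ≃+* F, Commute (fieldAut τ : MulAut PSLn) β) (h2 : Commute (invT : MulAut PSLn) β)
    {α : MulAut PSLn} (h : α * x * α⁻¹ = β) :
    ∃ a : GLn, x = conjAut a * β * (conjAut a)⁻¹ := by
  obtain ⟨a, τ, γ, hγ, e⟩ := exists_decomp hn α⁻¹
  refine ⟨a, ?_⟩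
  have hc : Commute (fieldAut τ * γ : MulAut PSLn) β := by
    rcases hγ with rfl | ⟨-, rfl⟩
    · rw [mul_one]; exact h1 τ
    · exact (h1 τ).mul_left h2
  have hx : x = α⁻¹ * β * (α⁻¹)⁻¹ := by rw [← h]; group
  rw [hx, e, mul_assoc (conjAut a)]
  calc conjAut a * (fieldAut τ * γ) * β * (conjAut a * (fieldAut τ * γ))⁻¹
      = conjAut a * (fieldAut τ * γ * β) * (fieldAut τ * γ)⁻¹ * (conjAut a)⁻¹ := by group
    _ = conjAut a * (β * (fieldAut τ * γ)) * (fieldAut τ * γ)⁻¹ * (conjAut a)⁻¹ := by rw [hc.eq]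
    _ = conjAut a * β * (conjAut a)⁻¹ := by group

theorem commute_fieldAut [Finite F] (σ τ : F ≃+* F) :
    Commute (fieldAut τ : MulAut PSLn) (fieldAut σ) := by
  show _ = _
  rw [← map_mul, ← map_mul, fieldAut_comm]

theorem exists_std_field [Fintype F] (hn : 2 ≤ n) {x : MulAut PSLn} (hx : Cfsg.IsFieldAutClassPSL x) :
    ∃ (σ : F ≃+* F) (a : GLn), σ ≠ 1 ∧ x = conjAut a * fieldAut σ * (conjAut a)⁻¹ ∧
      orderOf x = orderOf σ := by
  obtain ⟨α, σ, hσ, hstd⟩ := hx
  rw [isStdFieldAutPSL_iff] at hstd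
  obtain ⟨a, ha⟩ := exists_conjAut_of_commute hn (fun τ => commute_fieldAut σ τ)
    (fieldAut_mul_invT σ).symm hstd
  refine ⟨σ, a, hσ, ha, ?_⟩
  rw [ha, ← MulAut.conj_apply, MulEquiv.orderOf_eq, orderOf_injective _ (fieldAut_injective hn)]

theorem exists_std_graphField [Fintype F] {x : MulAut PSLn} (hx : Cfsg.IsGraphFieldAutClassPSL x)
    {r : ℕ} (hr : r.Prime) (hxr : orderOf x = r) :
    r = 2 ∧ ∃ (σ : F ≃+* F) (a : GLn), orderOf σ = 2 ∧
      x = conjAut a * (fieldAut σ * invT) * (conjAut a)⁻¹ := by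
  obtain ⟨hn, α, φ, γ, σ, hσ, hφ, hγ, hstd⟩ := hx
  rw [(isStdFieldAutPSL_iff σ φ).1 hφ, (isInverseTransposeAutPSL_iff γ).1 hγ] at hstd
  have hn2 : 2 ≤ n := by omega
  obtain ⟨a, ha⟩ := exists_conjAut_of_commute hn2
    (fun τ => (commute_fieldAut σ τ).mul_right (fieldAut_mul_invT τ))
    (Commute.mul_right (fieldAut_mul_invT σ).symm (Commute.refl _)) hstd
  have hord : orderOf (fieldAut σ * invT : MulAut PSLn) = r := by
    rw [← hxr, ha, ← MulAut.conj_apply, MulEquiv.orderOf_eq]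
  have hc : Commute (fieldAut σ : MulAut PSLn) invT := fieldAut_mul_invT σ
  have hpow : (fieldAut (σ ^ r) * invT ^ r : MulAut PSLn) = 1 := by
    rw [map_pow, ← hc.mul_pow, ← hord, pow_orderOf_eq_one]
  have hr2 : r = 2 := by
    refine (hr.eq_two_or_odd').resolve_right fun hodd => ?_
    obtain ⟨k, rfl⟩ := hodd
    rw [pow_succ (invT : MulAut PSLn), pow_mul (invT : MulAut PSLn), pow_two, invT_mul_self, one_pow, one_mul] at hpow
    have h2 : (fieldAut (σ ^ (2 * k + 1)) : MulAut PSLn) = invT :=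
      calc (fieldAut (σ ^ (2 * k + 1)) : MulAut PSLn)
          = fieldAut (σ ^ (2 * k + 1)) * (invT * invT) := by rw [invT_mul_self, mul_one]
        _ = invT := by rw [← mul_assoc, hpow, one_mul]
    exact conj_field_ne_invT hn 1 (σ ^ (2 * k + 1)) (by rw [map_one, one_mul, h2])
  subst hr2
  rw [pow_two (invT : MulAut PSLn), invT_mul_self, mul_one] at hpow
  have h2 : σ ^ 2 = 1 := fieldAut_injective hn2 (by rw [hpow, map_one])
  exact ⟨rfl, σ, a, orderOf_eq_prime h2 hσ, ha⟩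

theorem invT_ne_fieldAut (hn : 3 ≤ n) (σ : F ≃+* F) (g : GLn) :
    (conjAut g * fieldAut σ : MulAut PSLn) ≠ invT := conj_field_ne_invT hn g σ

/-- An involution in the coset of a standard graph-field involution is conjugate to it. -/
theorem exists_conj_of_sq_eq_one [Finite F] (hn : 2 ≤ n) {σ : F ≃+* F} (hσ : orderOf σ = 2) {g : GLn}
    (hg : (conjAut g * (fieldAut σ * invT) : MulAut PSLn) ^ 2 = 1) :
    ∃ h : GLn, (conjAut g * (fieldAut σ * invT) : MulAut PSLn) =
      conjAut h * (fieldAut σ * invT) * (conjAut h)⁻¹ := by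
  have hσ2 : σ ^ 2 = 1 := by rw [← hσ]; exact pow_orderOf_eq_one σ
  have hσσ : ∀ x, σ (σ x) = x := fun x =>
    (RingEquiv.congr_fun (pow_two σ).symm x).trans (RingEquiv.congr_fun hσ2 x)
  set ψ : MulAut PSLn := fieldAut σ * invT
  have hψ : ψ * ψ = 1 := by rw [← pow_two, fieldAut_invT_pow_two, hσ2, map_one]
  have hg' : (conjAut (g * graphGL σ g) : MulAut PSLn) = 1 := by
    rw [pow_two, mul_assoc, ← mul_assoc ψ, fieldAut_invT_conjAut, mul_assoc, hψ, mul_one, ← map_mul] at hg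
    exact hg
  obtain ⟨c, hc⟩ := exists_scalar_of_conjAut_eq_one hn hg'
  have hcc : c * mapUnits σ c = 1 := by
    have h1 := congrArg (graphGL σ) hc
    rw [map_mul, graphGL_graphGL hσσ, graphGL_scalar] at h1
    have hgθ : graphGL σ g = g⁻¹ * GeneralLinearGroup.scalar (Fin n) c := by rw [← hc]; group
    rw [hgθ, mul_assoc, GeneralLinearGroup.scalar_commute c g, ← mul_assoc, inv_mul_cancel, one_mul] at h1
    exact mul_eq_one_iff_eq_inv.2 (scalar_injective (by omega) h1)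
  obtain ⟨w, hw⟩ := exists_div_of_tnorm_eq_one hσ (by norm_num) (z := c) (by simpa [tnorm_succ] using hcc)
  obtain ⟨z, hzw⟩ : ∃ z, z = mapUnits σ w := ⟨_, rfl⟩
  -- scale `g` so that it becomes hermitian
  have hN : GeneralLinearGroup.scalar (Fin n) z * g * graphGL σ (GeneralLinearGroup.scalar (Fin n) z * g) = 1 := by
    rw [map_mul, graphGL_scalar, mul_assoc, GeneralLinearGroup.scalar_commute _ (graphGL σ g), ← mul_assoc g, hc,
      ← map_mul, ← map_mul, ← map_one (GeneralLinearGroup.scalar (Fin n))]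
    refine congrArg _ ?_
    have hσw : mapUnits σ (mapUnits σ w) = w := Units.ext (hσσ w)
    rw [hzw, hσw, hw]
    simp [mul_comm, mul_left_comm]
  obtain ⟨h, hh⟩ := exists_congr_one hσ hN
  refine ⟨h, ?_⟩
  have h1 : (conjAut g : MulAut PSLn) = conjAut (h * (graphGL σ h)⁻¹) := by
    rw [← hh, map_mul, conjAut_scalar, one_mul]
  rw [h1, map_mul, mul_assoc (conjAut h) ψ, ← map_inv conjAut h, fieldAut_invT_conjAut, map_inv (graphGL σ),
    mul_assoc]

end Cfsg.Agent.Lib.AutPSL
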