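import Cfsg.Agent.Lib.AutPSL.Card

/-!
Twisted norms and Galois descent (Hilbert 90 for `GL_n`) for a field automorphism of finite order.
-/

set_option autoImplicit false

namespace Cfsg.Agent.Lib.AutPSL

open Matrix

/-! ### Twisted norms in a group -/

section TNorm

variable {G : Type*} [Group G] (e : MulAut G)

/-- `g * e g * ⋯ * e^(k-1) g`. -/
def tnorm (g : G) : ℕ → G
  | 0 => 1
  | k + 1 => g * e (tnorm g k)

@[simp] theorem tnorm_zero (g : G) : tnorm e g 0 = 1 := rfl

theorem tnorm_succ (g : G) (k : ℕ) : tnorm e g (k + 1) = g * e (tnorm e g k) := rfl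

theorem tnorm_succ' (g : G) : ∀ k : ℕ, tnorm e g (k + 1) = tnorm e g k * (e ^ k) g
  | 0 => by simp [tnorm_succ]
  | k + 1 => by
    conv_lhs => rw [tnorm_succ, tnorm_succ' g k, map_mul, ← mul_assoc, ← tnorm_succ]
    rw [pow_succ']
    rfl

theorem apply_tnorm_of_pow_eq_one (g : G) {r : ℕ} (hr : e ^ r = 1) :
    g * e (tnorm e g r) = tnorm e g r * g := by
  rw [← tnorm_succ, tnorm_succ', hr]; rfl

theorem tnorm_div_self (a : G) : ∀ k : ℕ, tnorm e (a * (e a)⁻¹) k = a * ((e ^ k) a)⁻¹
  | 0 => by simp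
  | k + 1 => by
    rw [tnorm_succ, tnorm_div_self a k, map_mul, map_inv, pow_succ', MulAut.mul_apply]
    simp [mul_assoc]

theorem map_tnorm {H : Type*} [Group H] (e' : MulAut H) (φ : G →* H) (h : ∀ x, φ (e x) = e' (φ x))
    (g : G) : ∀ k : ℕ, φ (tnorm e g k) = tnorm e' (φ g) k
  | 0 => map_one φ
  | k + 1 => by rw [tnorm_succ, tnorm_succ, map_mul, h, map_tnorm e' φ h g k]

theorem tnorm_mul (z g : G) : ∀ k : ℕ, (∀ i < k, ∀ x, Commute (e (tnorm e z i)) x) →
    tnorm e (z * g) k = tnorm e z k * tnorm e g k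
  | 0, _ => by simp
  | k + 1, h => by
    rw [tnorm_succ, tnorm_mul z g k fun i hi => h i (by omega), map_mul, tnorm_succ, tnorm_succ]
    have := (h k k.lt_succ_self g).eq
    simp only [mul_assoc]
    rw [← mul_assoc g, ← this, mul_assoc]

end TNorm

variable {n : ℕ} {F : Type*} [Field F]

local notation "PSLn" => Matrix.ProjectiveSpecialLinearGroup (Fin n) F
local notation "GLn" => GL (Fin n) F

/-- A field automorphism on units. -/
def mapUnits : (F ≃+* F) →* MulAut Fˣ where
  toFun σ := Units.mapEquiv σ.toMulEquiv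
  map_one' := MulEquiv.ext fun z => Units.ext rfl
  map_mul' σ τ := MulEquiv.ext fun z => Units.ext rfl

@[simp] theorem coe_mapUnits (σ : F ≃+* F) (z : Fˣ) : ((mapUnits σ z : Fˣ) : F) = σ z := rfl

/-- A field automorphism on `GL_n`. -/
def mapGL {ι : Type} [Fintype ι] [DecidableEq ι] : (F ≃+* F) →* MulAut (GL ι F) where
  toFun σ := Units.mapEquiv σ.mapMatrix.toMulEquiv
  map_one' := MulEquiv.ext fun g => Units.ext (Matrix.ext fun i j => rfl)
  map_mul' σ τ := MulEquiv.ext fun g => Units.ext (Matrix.ext fun i j => rfl)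

@[simp] theorem coe_mapGL {ι : Type} [Fintype ι] [DecidableEq ι] (σ : F ≃+* F) (g : GL ι F) :
    ((mapGL σ g : GL ι F) : Matrix ι ι F) = (g : Matrix ι ι F).map σ := rfl

theorem mapGL_scalar (σ : F ≃+* F) (z : Fˣ) :
    mapGL σ (GeneralLinearGroup.scalar (Fin n) z) = GeneralLinearGroup.scalar (Fin n) (mapUnits σ z) :=
  GeneralLinearGroup.map_scalar σ.toRingHom z

theorem det_mapGL (σ : F ≃+* F) (g : GLn) :
    GeneralLinearGroup.det (mapGL σ g) = mapUnits σ (GeneralLinearGroup.det g) :=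
  Units.ext (RingHom.map_det σ.toRingHom (g : Matrix (Fin n) (Fin n) F)).symm

theorem fieldAut_conjAut (σ : F ≃+* F) (g : GLn) :
    (fieldAut σ : MulAut PSLn) * conjAut g = conjAut (mapGL σ g) * fieldAut σ :=
  fieldAut_mul_conjAut σ g

theorem conjAut_scalar (z : Fˣ) :
    (conjAut (GeneralLinearGroup.scalar (Fin n) z) : MulAut PSLn) = 1 := by
  apply conjAut_eq_one_of_center
  rw [GeneralLinearGroup.center_eq_range_scalar]
  exact ⟨z, rfl⟩

theorem scalar_injective (hn : 0 < n) :
    Function.Injective (GeneralLinearGroup.scalar (Fin n) : Fˣ → GLn) := by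
  intro a b h
  have := congrArg (fun g : GLn => (g : Matrix (Fin n) (Fin n) F) ⟨0, hn⟩ ⟨0, hn⟩) h
  exact Units.ext (by simpa [GeneralLinearGroup.coe_scalar] using this)

theorem exists_scalar_of_conjAut_eq_one (hn : 2 ≤ n) {g : GLn} (h : (conjAut g : MulAut PSLn) = 1) :
    ∃ c : Fˣ, g = GeneralLinearGroup.scalar (Fin n) c := by
  have h1 := (eq_one_of_conj_field hn (g := g) (σ := 1) (by rw [h, map_one, mul_one])).1
  rw [GeneralLinearGroup.center_eq_range_scalar] at h1
  obtain ⟨c, hc⟩ := h1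
  exact ⟨c, hc.symm⟩

theorem conjAut_eq_iff (hn : 2 ≤ n) {g g' : GLn} :
    (conjAut g : MulAut PSLn) = conjAut g' ↔ ∃ c : Fˣ, g' = GeneralLinearGroup.scalar (Fin n) c * g := by
  constructor
  · intro h
    obtain ⟨c, hc⟩ := exists_scalar_of_conjAut_eq_one hn (g := g' * g⁻¹)
      (by rw [map_mul, map_inv, h, mul_inv_cancel])
    exact ⟨c, by rw [← hc, inv_mul_cancel_right]⟩
  · rintro ⟨c, rfl⟩
    rw [map_mul, conjAut_scalar, one_mul]

theorem conjAut_mul_fieldAut_pow (g : GLn) (σ : F ≃+* F) : ∀ k : ℕ,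
    (conjAut g * fieldAut σ : MulAut PSLn) ^ k = conjAut (tnorm (mapGL σ) g k) * fieldAut (σ ^ k)
  | 0 => by simp
  | k + 1 => by
    rw [pow_succ', conjAut_mul_fieldAut_pow g σ k, tnorm_succ, map_mul, pow_succ', map_mul fieldAut,
      ← mul_assoc, mul_assoc (conjAut g) (fieldAut σ), fieldAut_conjAut]
    simp only [mul_assoc]

/-- **Galois descent**: a matrix of twisted norm one is a twisted coboundary. -/
theorem exists_descent {ι : Type} [Fintype ι] [DecidableEq ι] {σ : F ≃+* F} {r : ℕ} (hr : orderOf σ = r) (hr0 : 0 < r) {g : GL ι F}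
    (hN : tnorm (mapGL σ) g r = 1) : ∃ h : GL ι F, g = h * (mapGL σ h)⁻¹ := by
  classical
  set S : Set (ι → F) := {w | (g : Matrix ι ι F) *ᵥ (⇑σ ∘ w) = w} with hS
  have hσr : σ ^ r = 1 := by rw [← hr]; exact pow_orderOf_eq_one σ
  have hfix : ∀ (v : ι → F) (c : F), ∑ i ∈ Finset.range r, (σ ^ i) c •
      ((tnorm (mapGL σ) g i : GL ι F) : Matrix ι ι F) *ᵥ (⇑(σ ^ i) ∘ v) ∈ S := by
    intro v c
    set a : ℕ → ι → F := fun i => (σ ^ i) c •
      ((tnorm (mapGL σ) g i : GL ι F) : Matrix ι ι F) *ᵥ (⇑(σ ^ i) ∘ v) with ha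
    have step : ∀ i, (g : Matrix ι ι F) *ᵥ (⇑σ ∘ a i) = a (i + 1) := by
      intro i
      have h1 : ⇑σ ∘ a i = (σ ^ (i + 1)) c •
          ((tnorm (mapGL σ) g i : GL ι F) : Matrix ι ι F).map σ *ᵥ (⇑(σ ^ (i + 1)) ∘ v) := by
        funext k
        simp only [ha, Function.comp_apply, Pi.smul_apply, smul_eq_mul, map_mul]
        congr 1
        · rw [pow_succ']; rfl
        · exact (RingHom.map_mulVec σ.toRingHom _ _ k).trans (by rw [pow_succ']; rfl)
      rw [h1, Matrix.mulVec_smul, Matrix.mulVec_mulVec, ← coe_mapGL, ← Units.val_mul, ← tnorm_succ]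
    show (g : Matrix ι ι F) *ᵥ (⇑σ ∘ ∑ i ∈ Finset.range r, a i) = ∑ i ∈ Finset.range r, a i
    have h2 : ⇑σ ∘ ∑ i ∈ Finset.range r, a i = ∑ i ∈ Finset.range r, ⇑σ ∘ a i := by
      funext k
      simp [Finset.sum_apply]
    have h3 : a r = a 0 := by
      simp only [ha]
      rw [hσr, hN, tnorm_zero, pow_zero]
    rw [h2, Matrix.mulVec_sum, Finset.sum_congr rfl fun i _ => step i]
    have h4 := Finset.sum_range_succ' a r
    rw [Finset.sum_range_succ, h3] at h4
    exact (add_right_cancel h4).symm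
  have hspan : Submodule.span F S = ⊤ := by
    by_contra hne
    obtain ⟨v, hv⟩ : ∃ v, v ∉ Submodule.span F S := by
      by_contra h
      push Not at h
      exact hne (eq_top_iff.2 fun x _ => h x)
    obtain ⟨φ, hφv, hφ⟩ := Submodule.exists_le_ker_of_notMem hv
    let χ : Fin r → (F →* F) := fun i => ((σ ^ i.val : F ≃+* F).toMonoidHom)
    have hχ : Function.Injective χ := by
      intro i j hij
      have h1 : (σ ^ i.val : F ≃+* F) = σ ^ j.val := RingEquiv.ext fun x => DFunLike.congr_fun hij x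
      exact Fin.ext (pow_injOn_Iio_orderOf (by simp [hr]) (by simp [hr]) h1)
    have hli : LinearIndependent F fun i : Fin r => (χ i : F → F) :=
      (linearIndependent_monoidHom F F).comp χ hχ
    have hsum : ∑ i : Fin r,
        φ (((tnorm (mapGL σ) g i.val : GL ι F) : Matrix ι ι F) *ᵥ (⇑(σ ^ i.val) ∘ v)) •
          (χ i : F → F) = 0 := by
      funext c
      have := LinearMap.mem_ker.1 (hφ (Submodule.subset_span (hfix v c)))
      rw [map_sum, Finset.sum_range fun i => φ ((σ ^ i) c •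
        ((tnorm (mapGL σ) g i : GL ι F) : Matrix ι ι F) *ᵥ (⇑(σ ^ i) ∘ v))] at this
      simp only [map_smul, smul_eq_mul] at this
      simpa [χ, mul_comm] using this
    have := Fintype.linearIndependent_iff.1 hli _ hsum ⟨0, hr0⟩
    simp at this
    exact hφv (by simpa using this)
  obtain ⟨b, hbS, hbspan, hbli⟩ := exists_linearIndependent F S
  rw [hspan] at hbspan
  let B : Module.Basis b F (ι → F) := Module.Basis.mk hbli (by rw [Subtype.range_coe, hbspan])
  let B' := B.reindex (B.indexEquiv (Pi.basisFun F ι))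
  have hB' : ∀ j, B' j ∈ S := fun j => hbS (by simp [B', B])
  let P : Matrix ι ι F := Matrix.of fun i j => B' j i
  have hP : IsUnit P := Matrix.linearIndependent_cols_iff_isUnit.1 B'.linearIndependent
  have hgP : (g : Matrix ι ι F) * P.map σ = P := by
    ext i j
    have := congrFun (hB' j) i
    simpa [P, Matrix.mul_apply, Matrix.mulVec, dotProduct] using this
  exact ⟨hP.unit, eq_mul_inv_of_mul_eq (Units.ext hgP)⟩

/-- Hilbert 90 for units. -/
theorem exists_div_of_tnorm_eq_one {σ : F ≃+* F} {r : ℕ} (hr : orderOf σ = r) (hr0 : 0 < r) {z : Fˣ}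
    (hz : tnorm (mapUnits σ) z r = 1) : ∃ w : Fˣ, z = w * (mapUnits σ w)⁻¹ := by
  obtain ⟨h, hh⟩ := exists_descent hr hr0 (g := GeneralLinearGroup.scalar (Fin 1) z) (by
    rw [← map_tnorm (mapUnits σ) (mapGL σ) (GeneralLinearGroup.scalar (Fin 1)) (fun x => (mapGL_scalar σ x).symm),
      hz, map_one])
  refine ⟨GeneralLinearGroup.det h, ?_⟩
  have := congrArg GeneralLinearGroup.det hh
  rwa [GeneralLinearGroup.det_scalar, Fintype.card_fin, pow_one, map_mul, map_inv, det_mapGL] at this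

theorem tnorm_units_mul (σ : F ≃+* F) (z w : Fˣ) (k : ℕ) :
    tnorm (mapUnits σ) (z * w) k = tnorm (mapUnits σ) z k * tnorm (mapUnits σ) w k :=
  tnorm_mul _ z w k fun _ _ x => Commute.all _ x

/-- The twisted norm on units. -/
def normHom (σ : F ≃+* F) (k : ℕ) : Fˣ →* Fˣ where
  toFun z := tnorm (mapUnits σ) z k
  map_one' := by
    induction k with
    | zero => rfl
    | succ k ih => rw [tnorm_succ, ih, map_one, one_mul]
  map_mul' z w := tnorm_units_mul σ z w k

@[simp] theorem normHom_apply (σ : F ≃+* F) (k : ℕ) (z : Fˣ) : normHom σ k z = tnorm (mapUnits σ) z k := rfl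

/-- The units fixed by a field automorphism. -/
def fixUnits (σ : F ≃+* F) : Subgroup Fˣ where
  carrier := {z | mapUnits σ z = z}
  one_mem' := map_one _
  mul_mem' := fun {a b} ha hb => show mapUnits σ (a * b) = a * b by
    rw [map_mul, (ha : mapUnits σ a = a), (hb : mapUnits σ b = b)]
  inv_mem' := fun {a} ha => show mapUnits σ a⁻¹ = a⁻¹ by rw [map_inv, (ha : mapUnits σ a = a)]

theorem mem_fixUnits {σ : F ≃+* F} {z : Fˣ} : z ∈ fixUnits σ ↔ mapUnits σ z = z := Iff.rfl

theorem range_normHom [Finite F] {σ : F ≃+* F} {r : ℕ} (hr : orderOf σ = r) (hr0 : 0 < r) :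
    (normHom σ r).range = fixUnits σ := by
  have hσr : mapUnits σ ^ r = (1 : MulAut Fˣ) := by
    rw [← map_pow, ← hr, pow_orderOf_eq_one, map_one]
  have hle : (normHom σ r).range ≤ fixUnits σ := by
    rintro _ ⟨z, rfl⟩
    have := apply_tnorm_of_pow_eq_one (mapUnits σ) z hσr
    rw [mul_comm z] at this
    exact mul_right_cancel this
  let D : Fˣ →* Fˣ :=
    { toFun := fun z => z * (mapUnits σ z)⁻¹
      map_one' := by simp
      map_mul' := fun z w => by rw [map_mul, mul_inv, mul_mul_mul_comm] }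
  have hD : D.ker = fixUnits σ := by
    ext z
    rw [MonoidHom.mem_ker, mem_fixUnits]
    exact mul_inv_eq_one.trans eq_comm
  have hker : (normHom σ r).ker ≤ D.range := fun z hz => by
    obtain ⟨w, hw⟩ := exists_div_of_tnorm_eq_one hr hr0 (MonoidHom.mem_ker.1 hz)
    exact ⟨w, hw.symm⟩
  refine Subgroup.eq_of_le_of_card_ge hle ?_
  rw [← hD]
  have h1 := (normHom σ r).ker.card_mul_index
  have h2 := D.ker.card_mul_index
  rw [Subgroup.index_ker] at h1 h2
  have h3 : Nat.card (normHom σ r).ker ≤ Nat.card D.range :=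
    Nat.card_le_card_of_injective _ (Subgroup.inclusion_injective hker)
  refine Nat.le_of_mul_le_mul_left ?_ (Nat.card_pos (α := D.range))
  calc Nat.card D.range * Nat.card D.ker = Nat.card Fˣ := by rw [mul_comm, h2]
    _ = Nat.card (normHom σ r).ker * Nat.card (normHom σ r).range := h1.symm
    _ ≤ Nat.card D.range * Nat.card (normHom σ r).range := Nat.mul_le_mul_right _ h3

theorem exists_tnorm_eq [Finite F] {σ : F ≃+* F} {r : ℕ} (hr : orderOf σ = r) (hr0 : 0 < r) {c : Fˣ}
    (hc : mapUnits σ c = c) : ∃ z, tnorm (mapUnits σ) z r = c := by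
  have : c ∈ (normHom σ r).range := by rw [range_normHom hr hr0]; exact hc
  exact this

/-- An element of order dividing `r` in the coset of a field automorphism of order `r` is conjugate
to the field automorphism. -/
theorem exists_conj_of_pow_eq_one [Finite F] (hn : 2 ≤ n) {σ : F ≃+* F} {r : ℕ} (hr : orderOf σ = r)
    (hr0 : 0 < r) {g : GLn} (hg : (conjAut g * fieldAut σ : MulAut PSLn) ^ r = 1) :
    ∃ h : GLn, (conjAut g * fieldAut σ : MulAut PSLn) = conjAut h * fieldAut σ * (conjAut h)⁻¹ := by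
  have hσr : σ ^ r = 1 := by rw [← hr]; exact pow_orderOf_eq_one σ
  rw [conjAut_mul_fieldAut_pow, hσr, map_one, mul_one] at hg
  obtain ⟨c, hc⟩ := exists_scalar_of_conjAut_eq_one hn hg
  have hσc : mapUnits σ c = c := by
    have h := apply_tnorm_of_pow_eq_one (mapGL σ) g (r := r) (by rw [← map_pow, hσr, map_one])
    rw [hc, mapGL_scalar, (GeneralLinearGroup.scalar_commute c g)] at h
    exact scalar_injective (by omega) (mul_left_cancel h)
  obtain ⟨z, hz⟩ := exists_tnorm_eq hr hr0 hσc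
  have hN : tnorm (mapGL σ) (GeneralLinearGroup.scalar (Fin n) z⁻¹ * g) r = 1 := by
    have hm : ∀ x, GeneralLinearGroup.scalar (Fin n) (mapUnits σ x) =
        mapGL σ (GeneralLinearGroup.scalar (Fin n) x) := fun x => (mapGL_scalar σ x).symm
    rw [tnorm_mul, hc, ← map_tnorm (mapUnits σ) (mapGL σ) (GeneralLinearGroup.scalar (Fin n)) hm, ← map_mul]
    · rw [← hz, ← tnorm_units_mul, inv_mul_cancel, ← normHom_apply, map_one, map_one]
    · intro i _ x
      rw [← map_tnorm (mapUnits σ) (mapGL σ) (GeneralLinearGroup.scalar (Fin n)) hm, mapGL_scalar]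
      exact GeneralLinearGroup.scalar_commute _ x
  obtain ⟨h, hh⟩ := exists_descent hr hr0 hN
  refine ⟨h, ?_⟩
  have h1 : (conjAut g : MulAut PSLn) = conjAut (h * (mapGL σ h)⁻¹) := by
    rw [← hh, map_mul, conjAut_scalar, one_mul]
  rw [h1, map_mul, mul_assoc, mul_assoc, ← map_inv conjAut h, fieldAut_conjAut, map_inv (mapGL σ)]

end Cfsg.Agent.Lib.AutPSL
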