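import Cfsg.Agent.Lib.Cores.Basic
import Cfsg.Agent.Lib.AutPSL.Out

/-!
An abstract criterion for the triviality of `O_{p'}` of a centraliser in an almost simple group, and the
group of field automorphisms fixing the fixed field of a given one.
-/

set_option autoImplicit false

namespace Cfsg.Agent.Lib.AutPSL

open Cfsg

variable {X : Type*} [Group X]

/-- If `p` does not divide the nontrivial normal subgroup `D` of `C`, then `O_{p'}(C) ≠ 1`. -/
theorem pPrimeCore_ne_bot_of {p : ℕ} [Fact p.Prime] {C D : Subgroup X} (hDC : D ≤ C)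
    (hnorm : ∀ c ∈ C, ∀ d ∈ D, c * d * c⁻¹ ∈ D) (hD : D ≠ ⊥) (hp : ¬ p ∣ Nat.card D) :
    pPrimeCore p C ≠ ⊥ := by
  haveI : (D.subgroupOf C).Normal := ⟨fun d hd c => hnorm c c.2 d hd⟩
  have hle : D.subgroupOf C ≤ pPrimeCore p C := by
    refine Lib.Cores.le_pPrimeCore_of_not_dvd ?_
    rwa [Nat.card_congr (Subgroup.subgroupOfEquivOfLe hDC).toEquiv]
  intro h
  rw [h, le_bot_iff, Subgroup.subgroupOf_eq_bot] at hle
  exact hD (by simpa [hDC] using disjoint_iff.1 hle)

/-- The criterion for `O_{p'}(C) = 1`. -/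
theorem pPrimeCore_eq_bot_of [Finite X] {p : ℕ} [hp : Fact p.Prime] {C N D : Subgroup X} {x : X}
    (hND : N ≤ D) (hDC : D ≤ C) (hDN : ∀ d ∈ D, ∀ n ∈ N, d * n * d⁻¹ ∈ N)
    (hCD : ∀ c ∈ C, ∀ d ∈ D, c * d * c⁻¹ ∈ D)
    (hcent : ∀ c ∈ C, ¬ p ∣ orderOf c → (∀ n ∈ N, c * n = n * c) → c ∈ Subgroup.zpowers x)
    (hx : orderOf x = p) (hxD : x ∉ D)
    (hN : ∀ W : Subgroup X, W ≤ N → (∀ n ∈ N, ∀ w ∈ W, n * w * n⁻¹ ∈ W) → ¬ p ∣ Nat.card W → W = ⊥) :
    pPrimeCore p C = ⊥ := by
  set W₀ := pPrimeCore p C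
  set W := W₀.map C.subtype with hW
  have hWC : W ≤ C := Subgroup.map_subtype_le _
  have hWn : ∀ c ∈ C, ∀ w ∈ W, c * w * c⁻¹ ∈ W := by
    rintro c hc _ ⟨w, hw, rfl⟩
    exact ⟨⟨c, hc⟩ * w * (⟨c, hc⟩ : C)⁻¹, (pPrimeCore_normal p C).conj_mem w hw _, rfl⟩
  have hWp : ¬ p ∣ Nat.card W := by
    rw [hW, Subgroup.card_map_of_injective C.subtype_injective]
    exact Lib.Cores.not_dvd_card_pPrimeCore p
  have hNC : N ≤ C := hND.trans hDC
  have h1 : W ⊓ N = ⊥ := by
    refine hN _ inf_le_right (fun n hn w hw => ⟨hWn n (hNC hn) w hw.1, ?_⟩) fun h => hWp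
      (h.trans (Subgroup.card_dvd_of_le inf_le_left))
    exact N.mul_mem (N.mul_mem hn hw.2) (N.inv_mem hn)
  have hWo : ∀ w ∈ W, ¬ p ∣ orderOf w := fun w hw h => hWp (h.trans (Subgroup.orderOf_dvd_natCard W hw))
  have hzp : ∀ c ∈ Subgroup.zpowers x, c ∈ D → c = 1 := by
    intro c hc hcD
    by_contra hc1
    have h0 : Subgroup.zpowers c = Subgroup.zpowers x := by
      refine Subgroup.eq_of_le_of_card_ge (Subgroup.zpowers_le.2 hc) (le_of_eq ?_)
      have h2 : orderOf c ∣ orderOf x := by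
        obtain ⟨k, rfl⟩ := Subgroup.mem_zpowers_iff.1 hc
        exact orderOf_dvd_of_pow_eq_one (by rw [← zpow_natCast, ← zpow_mul, mul_comm, zpow_mul, zpow_natCast,
          pow_orderOf_eq_one, one_zpow])
      rw [hx, Nat.dvd_prime hp.out, orderOf_eq_one_iff, or_iff_right hc1] at h2
      rw [Nat.card_zpowers, Nat.card_zpowers, h2, hx]
    exact hxD (Subgroup.zpowers_le.2 hcD (h0 ▸ Subgroup.mem_zpowers x))
  have h2 : ∀ w ∈ W, w ∈ D → w = 1 := by
    intro w hw hwD
    refine hzp w (hcent w (hWC hw) (hWo w hw) fun n hn => ?_) hwD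
    have ha : w * n * w⁻¹ * n⁻¹ ∈ N := mul_mem (hDN w hwD n hn) (inv_mem hn)
    have hb : w * n * w⁻¹ * n⁻¹ ∈ W := by
      have := mul_mem hw (hWn n (hNC hn) _ (inv_mem hw))
      simpa only [mul_assoc] using this
    have : w * n * w⁻¹ * n⁻¹ ∈ W ⊓ N := ⟨hb, ha⟩
    rw [h1, Subgroup.mem_bot, mul_inv_eq_one, mul_inv_eq_iff_eq_mul] at this
    exact this
  have h3 : W ≤ Subgroup.zpowers x := by
    intro w hw
    refine hcent w (hWC hw) (hWo w hw) fun n hn => ?_
    have ha : w * n * w⁻¹ * n⁻¹ ∈ D := mul_mem (hCD w (hWC hw) n (hND hn)) (inv_mem (hND hn))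
    have hb : w * n * w⁻¹ * n⁻¹ ∈ W := by
      have := mul_mem hw (hWn n (hNC hn) _ (inv_mem hw))
      simpa only [mul_assoc] using this
    have := h2 _ hb ha
    rw [mul_inv_eq_one, mul_inv_eq_iff_eq_mul] at this
    exact this
  have h4 : Nat.card W = 1 := by
    have := Subgroup.card_dvd_of_le h3
    rw [Nat.card_zpowers, hx, Nat.dvd_prime hp.out] at this
    exact this.resolve_right fun h => hWp (h ▸ dvd_refl _)
  rw [hW, Subgroup.card_map_of_injective C.subtype_injective] at h4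
  exact Subgroup.eq_bot_of_card_eq _ h4

theorem map_conj_normal (H : Subgroup X) [hH : H.Normal] (a : X) :
    H.map (MulAut.conj a).toMonoidHom = H := by
  ext y
  rw [Subgroup.mem_map_equiv, MulAut.conj_symm_apply]
  exact ⟨fun h => by simpa [mul_assoc] using hH.conj_mem _ h a,
    fun h => by simpa [mul_assoc] using hH.conj_mem _ h a⁻¹⟩

/-- The centraliser of a conjugate inside a subgroup. -/
theorem nonempty_inf_centralizer_equiv (A : Subgroup X) (x a : X) :
    Nonempty (↥(A ⊓ Subgroup.centralizer {a * x * a⁻¹}) ≃*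
      ↥(A.map (MulAut.conj a⁻¹).toMonoidHom ⊓ Subgroup.centralizer {x})) := by
  have h : (A ⊓ Subgroup.centralizer {a * x * a⁻¹}).map (MulAut.conj a⁻¹).toMonoidHom =
      A.map (MulAut.conj a⁻¹).toMonoidHom ⊓ Subgroup.centralizer {x} := by
    rw [Subgroup.map_inf _ _ _ (MulAut.conj a⁻¹).injective]
    congr 1
    ext y
    rw [Subgroup.mem_map_equiv, MulAut.conj_symm_apply, inv_inv, Subgroup.mem_centralizer_singleton_iff,
      Subgroup.mem_centralizer_singleton_iff]
    refine ⟨fun h => ?_, fun h => ?_⟩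
    · have := congrArg (fun z => a⁻¹ * z * a) h
      simpa [mul_assoc] using this
    · calc a * y * a⁻¹ * (a * x * a⁻¹) = a * (y * x) * a⁻¹ := by group
        _ = a * (x * y) * a⁻¹ := by rw [h]
        _ = a * x * a⁻¹ * (a * y * a⁻¹) := by group
  exact ⟨((A ⊓ Subgroup.centralizer {a * x * a⁻¹}).equivMapOfInjective _ (MulAut.conj a⁻¹).injective).trans
    (MulEquiv.subgroupCongr h)⟩

theorem pPrimeCore_eq_bot_iff_of_equiv {Y : Type*} [Group Y] {p : ℕ} {G : Type*} [Group G] (e : G ≃* Y) :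
    pPrimeCore p G = ⊥ ↔ pPrimeCore p Y = ⊥ := by
  rw [← Lib.Cores.map_pPrimeCore_equiv e, Subgroup.map_eq_bot_iff_of_injective _ e.injective]

/-- A field automorphism fixing the fixed field of `σ` is a power of `σ`. -/
theorem mem_zpowers_of_fix {F : Type*} [Field F] [Fintype F] {r f : ℕ} [Fact r.Prime]
    (hF : Fintype.card F = r ^ f) (σ τ : F ≃+* F) (h : ∀ t, σ t = t → τ t = t) :
    τ ∈ Subgroup.zpowers σ := by
  classical
  haveI := isCyclic_fieldAuts (F := F)
  haveI : Finite (F ≃+* F) := Finite.of_injective (fun τ : F ≃+* F => (τ : F → F)) DFunLike.coe_injective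
  let H : Subgroup (F ≃+* F) :=
    { carrier := {ρ | ∀ t, σ t = t → ρ t = t}
      one_mem' := fun t _ => rfl
      mul_mem' := fun {a b} ha hb t ht => by rw [RingAut.mul_apply, hb t ht, ha t ht]
      inv_mem' := fun {a} ha t ht => by
        have h1 := ha t ht
        exact a.injective ((RingEquiv.apply_symm_apply a t).trans h1.symm) }
  obtain ⟨⟨ρ, hρ⟩, hgen⟩ := IsCyclic.exists_generator (α := H)
  have hHρ : H ≤ Subgroup.zpowers ρ := fun z hz => by
    obtain ⟨k, hk⟩ := Subgroup.mem_zpowers_iff.1 (hgen ⟨z, hz⟩)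
    exact Subgroup.mem_zpowers_iff.2 ⟨k, congrArg Subtype.val hk⟩
  have hσH : σ ∈ H := fun t ht => ht
  obtain ⟨hρf, hρc⟩ := card_fixField hF (σ := ρ) rfl
  obtain ⟨hσf, hσc⟩ := card_fixField hF (σ := σ) rfl
  have hle : Nat.card (fixField σ) ≤ Nat.card (fixField ρ) :=
    Nat.card_mono (Set.toFinite _) fun t (ht : σ t = t) => (hρ t ht : ρ t = t)
  rw [hρc, hσc, Nat.pow_le_pow_iff_right (Fact.out : r.Prime).one_lt] at hle
  have hf0 : f ≠ 0 := by
    rintro rfl
    rw [pow_zero] at hF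
    exact absurd hF (ne_of_gt (Fintype.one_lt_card (α := F)))
  have hoσ : 0 < orderOf σ := orderOf_pos σ
  have hle2 : orderOf ρ ≤ orderOf σ := by
    obtain ⟨a, ha⟩ := hσf
    obtain ⟨b, hb⟩ := hρf
    have hρ0 : 0 < orderOf ρ := orderOf_pos ρ
    rw [show f / orderOf σ = a by rw [ha, Nat.mul_div_cancel_left _ hoσ],
      show f / orderOf ρ = b by rw [hb, Nat.mul_div_cancel_left _ hρ0]] at hle
    by_contra hlt
    push Not at hlt
    rcases Nat.eq_zero_or_pos a with rfl | ha0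
    · simp at ha; exact hf0 ha
    · nlinarith
  have heq : Subgroup.zpowers σ = Subgroup.zpowers ρ :=
    Subgroup.eq_of_le_of_card_ge (Subgroup.zpowers_le.2 (hHρ hσH)) (by rwa [Nat.card_zpowers, Nat.card_zpowers])
  rw [heq]
  exact hHρ (fun t ht => h t ht)

/-- For a centreless group the fixed points of an automorphism correspond to the inner automorphisms
commuting with it. -/
theorem card_eqLocus {K : Type*} [Group K] (hK : Subgroup.center K = ⊥) (x : MulAut K) :
    Nat.card (MonoidHom.eqLocus x.toMonoidHom (MonoidHom.id K)) =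
      Nat.card ↥(Cfsg.Inn K ⊓ Subgroup.centralizer {x}) := by
  have hinj : Function.Injective (MulAut.conj : K →* MulAut K) := by
    refine (injective_iff_map_eq_one _).2 fun k hk => ?_
    rw [← Subgroup.mem_bot, ← hK, Subgroup.mem_center_iff]
    intro g
    have := DFunLike.congr_fun hk g
    rw [MulAut.conj_apply, MulAut.one_apply, mul_inv_eq_iff_eq_mul] at this
    exact this.symm
  have hset : (MonoidHom.eqLocus x.toMonoidHom (MonoidHom.id K)).map MulAut.conj =
      Cfsg.Inn K ⊓ Subgroup.centralizer {x} := by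
    have key : ∀ k, x * MulAut.conj k = MulAut.conj (x k) * x := fun k => by
      ext g
      simp [MulAut.mul_apply, MulAut.conj_apply]
    ext c
    constructor
    · rintro ⟨k, hk, rfl⟩
      refine ⟨⟨k, rfl⟩, Subgroup.mem_centralizer_singleton_iff.2 ?_⟩
      rw [key, show x k = k from hk]
    · rintro ⟨⟨k, rfl⟩, hc⟩
      have hc := Subgroup.mem_centralizer_singleton_iff.1 hc
      rw [key] at hc
      exact ⟨k, (hinj (mul_right_cancel hc)).symm, rfl⟩
  rw [← hset, Subgroup.card_map_of_injective hinj]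

/-- The inner part of the centraliser only depends on the conjugacy class. -/
theorem card_inn_centralizer_conj {K : Type*} [Group K] (x a : MulAut K) :
    Nat.card ↥(Cfsg.Inn K ⊓ Subgroup.centralizer {a * x * a⁻¹}) =
      Nat.card ↥(Cfsg.Inn K ⊓ Subgroup.centralizer {x}) := by
  haveI := Cfsg.innNormal K
  obtain ⟨e⟩ := nonempty_inf_centralizer_equiv (Cfsg.Inn K) x a
  rw [Nat.card_congr e.toEquiv]
  rw [map_conj_normal (Cfsg.Inn K) a⁻¹]


end Cfsg.Agent.Lib.AutPSL
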