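import Cfsg.Agent.Lib.AutPSL.Classes
import Cfsg.Agent.Lib.AutPSL.LocalCore
import Cfsg.Agent.Lib.Linear.Simple

/-!
The centraliser of a field automorphism of `PSL_n(q)`: the subgroup `PSL_n(q₀)`.
-/

set_option autoImplicit false

namespace Cfsg.Agent.Lib.AutPSL

open Matrix MulAction
open scoped LinearAlgebra.Projectivization

variable {n : ℕ} {F : Type*} [Field F]

local notation "SLn" => Matrix.SpecialLinearGroup (Fin n) F
local notation "PSLn" => Matrix.ProjectiveSpecialLinearGroup (Fin n) F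
local notation "GLn" => GL (Fin n) F
local notation "Mn" => Matrix (Fin n) (Fin n) F

/-- A normal subgroup of `SL_n(F)` containing the centre is central or contains the commutator. -/
theorem normal_sl_cases (hn : 2 ≤ n) (M : Subgroup SLn) [hM : M.Normal]
    (hc : Subgroup.center SLn ≤ M) : M ≤ Subgroup.center SLn ∨ commutator SLn ≤ M := by
  haveI : Nontrivial (Fin n) := Fin.nontrivial_iff_two_le.2 hn
  let π := QuotientGroup.mk' (Subgroup.center SLn)
  have hπ : Function.Surjective π := QuotientGroup.mk'_surjective _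
  haveI : (M.map π).Normal := hM.map _ hπ
  by_cases hfix : fixedPoints (M.map π) (ℙ F (Fin n → F)) = Set.univ
  · left
    intro g hg
    rw [← QuotientGroup.eq_one_iff]
    refine eq_of_smul_eq_smul (α := ℙ F (Fin n → F)) fun q => ?_
    rw [one_smul]
    exact (Set.eq_univ_iff_forall.mp hfix q) ⟨π g, ⟨g, hg, rfl⟩⟩
  · right
    have h := (Lib.Linear.iwasawaPSL (F := F) (ι := Fin n)).commutator_le (M.map π) hfix
    intro g hg
    have h2 := Subgroup.mem_map_of_mem π hg
    rw [commutator_def, Subgroup.map_commutator, Subgroup.map_top_of_surjective _ hπ, ← commutator_def] at h2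
    obtain ⟨k, hk, hkg⟩ := h h2
    have h3 : k⁻¹ * g ∈ M := hc ((QuotientGroup.eq (s := Subgroup.center SLn)).1 hkg)
    simpa using mul_mem hk h3

/-- The quotient of `SL_n(F)` by a normal subgroup containing the commutator is an `r`-group. -/
theorem isPGroup_sl_quotient (hn : 2 ≤ n) (r : ℕ) [CharP F r] (M : Subgroup SLn) [M.Normal]
    (h : commutator SLn ≤ M) : IsPGroup r (SLn ⧸ M) := by
  haveI : Nontrivial (Fin n) := Fin.nontrivial_iff_two_le.2 hn
  have key : ∀ g : SLn, (Abelianization.of g) ^ r = 1 := fun g => by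
    induction g using transvection_induction with
    | htr i j hij c =>
      have hpow : ∀ k : ℕ, Matrix.SpecialLinearGroup.transvection hij c ^ k =
          Matrix.SpecialLinearGroup.transvection hij ((k : F) * c) := by
        intro k
        induction k with
        | zero =>
          apply Subtype.ext
          simp [Matrix.SpecialLinearGroup.transvection_coe]
        | succ k ih =>
          rw [pow_succ, ih]
          apply Subtype.ext
          simp only [Matrix.SpecialLinearGroup.coe_mul, Matrix.SpecialLinearGroup.transvection_coe,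
            Matrix.add_mul, Matrix.mul_add, Matrix.one_mul, Matrix.mul_one,
            Matrix.single_mul_single_of_ne _ _ _ _ hij.symm, add_zero]
          rw [add_assoc, ← Matrix.single_add]
          congr 2
          push_cast
          ring
      rw [← map_pow, hpow, CharP.cast_eq_zero F r, zero_mul,
        show Matrix.SpecialLinearGroup.transvection hij (0 : F) = 1 from
          Subtype.ext (by simp [Matrix.SpecialLinearGroup.transvection_coe]), map_one]
    | hmul A B hA hB => rw [map_mul, mul_pow, hA, hB, one_mul]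
  intro x
  obtain ⟨g, rfl⟩ := QuotientGroup.mk_surjective x
  refine ⟨1, ?_⟩
  rw [pow_one, ← QuotientGroup.mk_pow, QuotientGroup.eq_one_iff]
  refine h ?_
  rw [← Abelianization.ker_of, MonoidHom.mem_ker, map_pow]
  exact key g

variable (σ : F ≃+* F)

/-- `GL_n(q₀) → GL_n(q)`. -/
def incGL : GL (Fin n) (fixField σ) →* GLn := GeneralLinearGroup.map (fixField σ).subtype

theorem mapGL_incGL (h : GL (Fin n) (fixField σ)) : mapGL σ (incGL σ h) = incGL σ h :=
  Units.ext (Matrix.ext fun i j => ((h : Matrix (Fin n) (Fin n) (fixField σ)) i j).2)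

/-- `GL_n(q₀)` acting on `PSL_n(q)`. -/
def incAut : GL (Fin n) (fixField σ) →* MulAut PSLn := conjAut.comp (incGL σ)

/-- `SL_n(q₀)` acting on `PSL_n(q)`. -/
def subAut : Matrix.SpecialLinearGroup (Fin n) (fixField σ) →* MulAut PSLn :=
  (incAut σ).comp Matrix.SpecialLinearGroup.toGL

theorem subAut_eq_conj (s : Matrix.SpecialLinearGroup (Fin n) (fixField σ)) :
    subAut σ s = MulAut.conj
      (QuotientGroup.mk (Matrix.SpecialLinearGroup.map (fixField σ).subtype s) : PSLn) := by
  rw [← conjAut_toGL]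
  exact congrArg conjAut (Units.ext rfl)

theorem subAut_range_le :
    (subAut (n := n) σ).range ≤ Cfsg.Inn PSLn ⊓ Subgroup.centralizer {fieldAut σ} := by
  rintro _ ⟨s, rfl⟩
  refine ⟨⟨_, (subAut_eq_conj σ s).symm⟩, Subgroup.mem_centralizer_singleton_iff.2 ?_⟩
  show conjAut (incGL σ _) * _ = _ * conjAut (incGL σ _)
  rw [fieldAut_conjAut, mapGL_incGL]

theorem conj_mem_subAut_range (h : GL (Fin n) (fixField σ)) :
    ∀ k ∈ (subAut (n := n) σ).range, incAut σ h * k * (incAut σ h)⁻¹ ∈ (subAut (n := n) σ).range := by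
  rintro _ ⟨s, rfl⟩
  refine ⟨conjSL h s, ?_⟩
  show incAut σ (Matrix.SpecialLinearGroup.toGL (conjSL h s)) =
    incAut σ h * incAut σ (Matrix.SpecialLinearGroup.toGL s) * _
  rw [← map_inv, ← map_mul, ← map_mul]
  exact congrArg _ (Units.ext (coe_conjSL h s))

theorem inn_le_inndiagPSL : Cfsg.Inn PSLn ≤ Cfsg.inndiagPSL n F := by
  rintro _ ⟨y, rfl⟩
  obtain ⟨s, rfl⟩ := QuotientGroup.mk_surjective y
  rw [← conjAut_toGL]
  exact conjAut_mem_inndiag _

/-- The centraliser of a field automorphism in `Inndiag`. -/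
theorem inndiag_centralizer_le [Finite F] (hn : 2 ≤ n) :
    Cfsg.inndiagPSL n F ⊓ Subgroup.centralizer {fieldAut σ} ≤ (incAut (n := n) σ).range := by
  classical
  rw [inndiagPSL_eq_range]
  rintro _ ⟨⟨g, rfl⟩, hg⟩
  have hg := Subgroup.mem_centralizer_singleton_iff.1 hg
  rw [fieldAut_conjAut] at hg
  obtain ⟨c, hc⟩ := (conjAut_eq_iff hn).1 (mul_right_cancel hg)
  have hent : ∀ i j, σ ((g : Mn) i j) = (c : F) * (g : Mn) i j := by
    intro i j
    have := congrArg (fun A : GLn => (A : Mn) i j) hc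
    simpa [GeneralLinearGroup.coe_scalar] using this
  haveI : Nonempty (Fin n) := ⟨⟨0, by omega⟩⟩
  obtain ⟨i₀, j₀, h0⟩ : ∃ i j, (g : Mn) i j ≠ 0 := by
    by_contra h
    push Not at h
    exact g.ne_zero (Matrix.ext h)
  set z : Fˣ := Units.mk0 _ h0
  have hfix : ∀ i j, σ ((z : F)⁻¹ * (g : Mn) i j) = (z : F)⁻¹ * (g : Mn) i j := fun i j => by
    rw [map_mul, map_inv₀, Units.val_mk0, hent, hent, _root_.mul_inv_rev, mul_assoc,
      inv_mul_cancel_left₀ c.ne_zero]
  let Y : Matrix (Fin n) (Fin n) (fixField σ) :=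
    Matrix.of fun i j => ⟨(z : F)⁻¹ * (g : Mn) i j, hfix i j⟩
  have hY : Y.map (fixField σ).subtype = (z : F)⁻¹ • (g : Mn) := Matrix.ext fun i j => rfl
  have hdet : IsUnit Y := by
    rw [Matrix.isUnit_iff_isUnit_det, isUnit_iff_ne_zero]
    intro h
    have h2 := (fixField σ).subtype.map_det Y
    rw [RingHom.mapMatrix_apply, hY, h, map_zero, Matrix.det_smul] at h2
    exact mul_ne_zero (pow_ne_zero _ (inv_ne_zero z.ne_zero))
      ((Matrix.isUnit_iff_isUnit_det _).1 g.isUnit).ne_zero h2.symm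
  refine ⟨hdet.unit, ?_⟩
  show conjAut (incGL σ hdet.unit) = conjAut g
  refine (conjAut_eq_iff hn).2 ⟨z, Units.ext ?_⟩
  show _ = (GeneralLinearGroup.scalar (Fin n) z : Mn) * Y.map (fixField σ).subtype
  rw [GeneralLinearGroup.coe_scalar, hY, Matrix.mul_smul, scalar_apply, ← smul_one_eq_diagonal, Matrix.smul_mul,
    Matrix.one_mul, smul_smul, inv_mul_cancel₀ z.ne_zero, one_smul]

theorem subAut_eq_one_iff (hn : 2 ≤ n) (s : Matrix.SpecialLinearGroup (Fin n) (fixField σ)) :
    subAut σ s = 1 ↔ s ∈ Subgroup.center (Matrix.SpecialLinearGroup (Fin n) (fixField σ)) := by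
  rw [Matrix.SpecialLinearGroup.mem_center_iff]
  constructor
  · intro h
    obtain ⟨c, hc⟩ := exists_scalar_of_conjAut_eq_one hn h
    have hent : ∀ i j, (((s : Matrix (Fin n) (Fin n) (fixField σ)) i j : fixField σ) : F) =
        if i = j then (c : F) else 0 := fun i j => by
      have := congrArg (fun A : GLn => (A : Mn) i j) hc
      simpa [incGL, GeneralLinearGroup.coe_scalar, Matrix.scalar_apply, Matrix.diagonal_apply] using this
    set z := (s : Matrix (Fin n) (Fin n) (fixField σ)) ⟨0, by omega⟩ ⟨0, by omega⟩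
    have hs : Matrix.scalar (Fin n) z = (s : Matrix (Fin n) (Fin n) (fixField σ)) := by
      refine Matrix.ext fun i j => Subtype.ext ?_
      rw [Matrix.scalar_apply, Matrix.diagonal_apply, hent]
      split_ifs with hij
      · rw [hent, if_pos rfl]
      · rfl
    refine ⟨z, ?_, hs⟩
    have := congrArg Matrix.det hs
    rw [Matrix.scalar_apply, Matrix.det_diagonal, Finset.prod_const, Finset.card_univ, Fintype.card_fin,
      s.det_coe] at this
    rwa [Fintype.card_fin]
  · rintro ⟨c, -, hc⟩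
    refine conjAut_eq_one_of_center (mem_center_GL_of_scalar (c := (c : F)) ?_)
    show (s : Matrix (Fin n) (Fin n) (fixField σ)).map (fixField σ).subtype = _
    ext i j
    have h1 := congrArg (fun y : fixField σ => (y : F)) (congrFun (congrFun hc i) j)
    rw [Matrix.scalar_apply, Matrix.diagonal_apply] at h1
    rw [Matrix.map_apply, Matrix.smul_apply, Matrix.one_apply]
    rcases eq_or_ne i j with rfl | hij
    · rw [if_pos rfl] at h1 ⊢
      rw [smul_eq_mul, mul_one]
      exact h1.symm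
    · rw [if_neg hij] at h1 ⊢
      rw [smul_zero]
      exact h1.symm

/-- `PSL_n(q₀)` has even order. -/
theorem two_dvd_card_subAut_range [Finite F] (hn : 2 ≤ n) :
    2 ∣ Nat.card (subAut (n := n) σ).range := by
  classical
  let i₀ : Fin n := ⟨0, by omega⟩
  let i₁ : Fin n := ⟨1, by omega⟩
  have h01 : i₀ ≠ i₁ := by simp [i₀, i₁]
  let K := fixField σ
  let d : Fin n → K := fun i => if i = i₀ then -1 else 1
  let A : Matrix (Fin n) (Fin n) K := diagonal d * (Equiv.swap i₀ i₁).permMatrix K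
  have hd : ∀ i, d i * d i = 1 := fun i => by simp only [d]; split_ifs <;> simp
  have hdetd : (diagonal d).det = -1 := by
    rw [det_diagonal, Finset.prod_eq_single i₀ (fun i _ hi => if_neg hi) (fun h => absurd (Finset.mem_univ _) h)]
    exact if_pos rfl
  have hdet : A.det = 1 := by
    rw [det_mul, hdetd, det_permutation, Equiv.Perm.sign_swap h01]
    simp
  let s : Matrix.SpecialLinearGroup (Fin n) K := ⟨A, hdet⟩
  have hperm : ∀ (u : Fin n → K), (Equiv.swap i₀ i₁).permMatrix K * diagonal u * (Equiv.swap i₀ i₁).permMatrix K =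
      diagonal fun i => u (Equiv.swap i₀ i₁ i) := by
    intro u
    ext i j
    rw [Matrix.mul_apply]
    rw [Finset.sum_eq_single (Equiv.swap i₀ i₁ i)]
    · rw [Matrix.mul_diagonal]
      rcases eq_or_ne i j with rfl | hij
      · simp [Equiv.Perm.permMatrix, PEquiv.toMatrix_apply]
      · simp [Equiv.Perm.permMatrix, PEquiv.toMatrix_apply, hij]
    · intro k _ hk
      simp [Matrix.mul_diagonal, Equiv.Perm.permMatrix, PEquiv.toMatrix_apply, hk.symm]
    · intro h; exact absurd (Finset.mem_univ _) h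
  have hAA : A * A = diagonal fun i => d i * d (Equiv.swap i₀ i₁ i) := by
    show diagonal d * _ * (diagonal d * _) = _
    rw [Matrix.mul_assoc (diagonal d), ← Matrix.mul_assoc ((Equiv.swap i₀ i₁).permMatrix K), hperm,
      diagonal_mul_diagonal]
  have h4 : s ^ 4 = 1 := by
    apply Subtype.ext
    rw [Matrix.SpecialLinearGroup.coe_pow, show (4 : ℕ) = 2 * 2 from rfl, pow_mul, Matrix.SpecialLinearGroup.coe_one]
    show (A ^ 2) ^ 2 = 1
    rw [pow_two A]
    rw [hAA, pow_two, diagonal_mul_diagonal, ← diagonal_one]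
    congr 1
    funext i
    rw [mul_mul_mul_comm, hd, hd, one_mul]
  have hs1 : subAut σ s ≠ 1 := by
    intro h
    obtain ⟨c, -, hc⟩ := Matrix.SpecialLinearGroup.mem_center_iff.1 ((subAut_eq_one_iff σ hn s).1 h)
    have := congrFun (congrFun hc i₀) i₁
    simp [s, A, d, h01, Matrix.diagonal_mul, Equiv.Perm.permMatrix, PEquiv.toMatrix_apply,
      Matrix.scalar_apply] at this
  have ho : orderOf (subAut σ s) ∣ 2 ^ 2 := orderOf_dvd_of_pow_eq_one (by
    rw [← map_pow, show (2 : ℕ) ^ 2 = 4 from rfl, h4, map_one])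
  obtain ⟨k, -, hk⟩ := (Nat.dvd_prime_pow Nat.prime_two).1 ho
  have hk0 : k ≠ 0 := by
    rintro rfl
    exact hs1 (orderOf_eq_one_iff.1 hk)
  refine dvd_trans ?_ (Subgroup.orderOf_dvd_natCard _ (MonoidHom.mem_range.2 ⟨s, rfl⟩))
  rw [hk]
  exact dvd_pow_self 2 hk0

/-- For odd `p ≤ n`, `p` divides `|PSL_n(q₀)|`. -/
theorem dvd_card_subAut_range_of_le [Finite F] (hn : 2 ≤ n) {p : ℕ} [hp : Fact p.Prime] (hodd : Odd p)
    (hpn : p ≤ n) : p ∣ Nat.card (subAut (n := n) σ).range := by
  classical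
  let K := fixField σ
  have hdvd : p ∣ Nat.card (Equiv.Perm (Fin n)) := by
    rw [Nat.card_perm, Nat.card_fin]
    exact Nat.dvd_factorial hp.out.pos hpn
  obtain ⟨π, hπ⟩ := exists_prime_orderOf_dvd_card' p hdvd
  have hsign : Equiv.Perm.sign π = 1 := by
    have h := congrArg Equiv.Perm.sign (pow_orderOf_eq_one π)
    rw [hπ, map_pow, map_one] at h
    obtain ⟨k, rfl⟩ := hodd
    rcases Int.units_eq_one_or (Equiv.Perm.sign π) with h' | h'
    · exact h'
    · rw [h', pow_succ, pow_mul] at h; simp at h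
  let s : Matrix.SpecialLinearGroup (Fin n) K :=
    ⟨π.permMatrix K, by rw [det_permutation, hsign]; simp⟩
  have hpow : ∀ k : ℕ, ((s ^ k : Matrix.SpecialLinearGroup (Fin n) K) : Matrix (Fin n) (Fin n) K) =
      (π ^ k).permMatrix K := by
    intro k
    induction k with
    | zero => simp
    | succ k ih => rw [pow_succ, Matrix.SpecialLinearGroup.coe_mul, ih, pow_succ', Matrix.permMatrix_mul]
  have hsp : s ^ p = 1 := Subtype.ext (by
    rw [hpow, ← hπ, pow_orderOf_eq_one, Matrix.permMatrix_one]; rfl)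
  obtain ⟨i, hi⟩ : ∃ i, π i ≠ i := by
    by_contra h
    push Not at h
    rw [show π = 1 from Equiv.ext h, orderOf_one] at hπ
    exact hp.out.one_lt.ne hπ
  have hs1 : subAut σ s ≠ 1 := by
    intro h
    obtain ⟨c, -, hc⟩ := Matrix.SpecialLinearGroup.mem_center_iff.1 ((subAut_eq_one_iff σ hn s).1 h)
    have := congrFun (congrFun hc i) (π i)
    simp [s, Equiv.Perm.permMatrix, PEquiv.toMatrix_apply, Matrix.scalar_apply, hi.symm] at this
  rw [← orderOf_eq_prime (show subAut σ s ^ p = 1 by rw [← map_pow, hsp, map_one]) hs1]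
  exact Subgroup.orderOf_dvd_natCard _ (MonoidHom.mem_range.2 ⟨s, rfl⟩)

/-- If `p` divides the order of a subgroup of `PGL_n(q₀)`, it divides `|PSL_n(q₀)|`. -/
theorem dvd_card_subAut_range [Finite F] (hn : 2 ≤ n) {p : ℕ} [hp : Fact p.Prime]
    {D : Subgroup (MulAut PSLn)} (hD : D ≤ (incAut (n := n) σ).range) (hpD : p ∣ Nat.card D) :
    p ∣ Nat.card (subAut (n := n) σ).range := by
  rcases hp.out.eq_two_or_odd' with rfl | hodd
  · exact two_dvd_card_subAut_range σ hn
  by_cases hpn : p ∣ n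
  · exact dvd_card_subAut_range_of_le σ hn hodd (Nat.le_of_dvd (by omega) hpn)
  obtain ⟨⟨y, hy⟩, hoy⟩ := exists_prime_orderOf_dvd_card' p hpD
  rw [Subgroup.orderOf_mk] at hoy
  obtain ⟨h, rfl⟩ := hD hy
  set δ := GeneralLinearGroup.det h
  have hpw : incAut σ h ^ n ∈ (subAut (n := n) σ).range := by
    set g := (GeneralLinearGroup.scalar (Fin n) δ)⁻¹ * h ^ n
    have hg : GeneralLinearGroup.det g = 1 := by
      rw [map_mul, map_inv, map_pow, GeneralLinearGroup.det_scalar, Fintype.card_fin, inv_mul_cancel]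
    refine ⟨⟨(g : Matrix (Fin n) (Fin n) (fixField σ)), congrArg Units.val hg⟩, ?_⟩
    have hsc : incAut σ (GeneralLinearGroup.scalar (Fin n) δ) = 1 := by
      show conjAut _ = 1
      rw [incGL, GeneralLinearGroup.map_scalar, conjAut_scalar]
    have e : (Matrix.SpecialLinearGroup.toGL ⟨(g : Matrix (Fin n) (Fin n) (fixField σ)), congrArg Units.val hg⟩ :
        GL (Fin n) (fixField σ)) = g := Units.ext rfl
    show incAut σ _ = _
    rw [e, map_mul, map_inv, hsc, inv_one, one_mul, map_pow]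
  obtain ⟨t, ht⟩ : ∃ t : ℕ, (incAut σ h ^ n) ^ t = incAut σ h := by
    refine exists_pow_eq_self_of_coprime ?_
    rw [hoy]
    exact ((hp.out.coprime_iff_not_dvd).2 hpn).symm
  have hy' : incAut σ h ∈ (subAut (n := n) σ).range := ht ▸ pow_mem hpw t
  rw [← hoy]
  exact Subgroup.orderOf_dvd_natCard _ hy'

/-- Normal `p'`-subgroups of `PSL_n(q₀)` are trivial. -/
theorem eq_bot_of_le_subAut_range [Finite F] (hn : 2 ≤ n) (r : ℕ) [Fact r.Prime] [CharP F r] {p : ℕ}
    [hp : Fact p.Prime] (hpr : p ≠ r) (hpN : p ∣ Nat.card (subAut (n := n) σ).range)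
    (W : Subgroup (MulAut PSLn)) (hW : W ≤ (subAut (n := n) σ).range)
    (hWn : ∀ k ∈ (subAut (n := n) σ).range, ∀ w ∈ W, k * w * k⁻¹ ∈ W) (hWp : ¬ p ∣ Nat.card W) :
    W = ⊥ := by
  set θ := subAut (n := n) σ
  haveI : CharP (fixField σ) r := (fixField σ).charP r
  haveI : (W.comap θ).Normal := ⟨fun w hw g => by
    rw [Subgroup.mem_comap, map_mul, map_mul, map_inv]
    exact hWn _ ⟨g, rfl⟩ _ hw⟩
  have hcW : Subgroup.center _ ≤ W.comap θ := fun s hs => by
    rw [Subgroup.mem_comap, (subAut_eq_one_iff σ hn s).2 hs]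
    exact one_mem W
  rcases normal_sl_cases hn (W.comap θ) hcW with h | h
  · rw [eq_bot_iff]
    intro w hw
    obtain ⟨s, rfl⟩ := hW hw
    rw [Subgroup.mem_bot]
    exact (subAut_eq_one_iff σ hn s).2 (h hw)
  · exfalso
    obtain ⟨k, hk⟩ := IsPGroup.iff_card.1 (isPGroup_sl_quotient hn r (W.comap θ) h)
    have h1 := Subgroup.relIndex_mul_relIndex (⊥ : Subgroup (MulAut PSLn)) W θ.range bot_le hW
    rw [Subgroup.relIndex_bot_left, Subgroup.relIndex_bot_left, ← Subgroup.index_comap,
      show (W.comap θ).index = r ^ k from hk] at h1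
    rw [← h1] at hpN
    rcases hp.out.dvd_mul.1 hpN with h2 | h2
    · exact hWp h2
    · exact hpr ((Nat.prime_dvd_prime_iff_eq hp.out Fact.out).1 (hp.out.dvd_of_dvd_pow h2))

/-- An automorphism centralising `PSL_n(q₀)` is a field automorphism fixing `F₀`. -/
theorem eq_fieldAut_of_fix_xr [Fintype F] (hn : 2 ≤ n) {c : MulAut PSLn}
    (h : ∀ i j, i ≠ j → ∀ t, σ t = t → c (xr i j t) = xr i j t) :
    ∃ τ : F ≃+* F, c = fieldAut τ ∧ ∀ t, σ t = t → τ t = t := by
  classical
  obtain ⟨g, τ, γ, hγ, rfl⟩ := exists_decomp hn c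
  rcases hγ with rfl | ⟨h3, rfl⟩
  swap
  · exfalso
    have hpar : ∀ i j, i ≠ j → Par ((g : Mn) *ᵥ Pi.single j 1) (Pi.single i 1) := by
      intro i j hij
      refine conj_fieldAut_image hn (σ := τ) hij.symm hij (t := -1) ?_
      have h1 := h i j hij (-1) (by rw [map_neg, map_one])
      rw [MulAut.mul_apply, xr, invT_rootElt (isPair_single hij).orth, neg_neg] at h1
      exact h1
    obtain ⟨j, hj⟩ := exists_other hn (⟨0, by omega⟩ : Fin n)
    obtain ⟨k, hk0, hkj⟩ := exists_third h3 (⟨0, by omega⟩ : Fin n) j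
    exact not_par_single hkj.symm (((hpar j _ hj).symm (by simp)).trans (hpar k _ hk0))
  simp only [mul_one] at h ⊢
  choose o ho using exists_other (n := n) hn
  have hdiag : ∀ i k, k ≠ i → (g : Mn) k i = 0 := by
    intro i k hki
    obtain ⟨c, hc⟩ := conj_fieldAut_image hn (t := 1) (ho i).symm (ho i).symm
      (g := g) (σ := τ) (h i (o i) (ho i).symm 1 (map_one σ))
    have hc0 : c ≠ 0 := Par.scalar_ne_zero hc (by simp)
    have := congrFun hc k
    simpa [hki, hc0, Matrix.mulVec_single] using this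
  have hne : ∀ i, (g : Mn) i i ≠ 0 := by
    intro i h0
    have hu := ((Matrix.isUnit_iff_isUnit_det _).1 g.isUnit).ne_zero
    refine hu (Matrix.det_eq_zero_of_column_eq_zero i fun k => ?_)
    by_cases hki : k = i
    · rw [hki, h0]
    · exact hdiag i k hki
  let d : Fin n → Fˣ := fun i => Units.mk0 _ (hne i)
  have hg : g = ⟨diagonal fun k => (d k : F), diagonal fun k => ((d k)⁻¹ : Fˣ), by simp, by simp⟩ := by
    apply Units.ext
    ext k i
    by_cases hki : k = i
    · subst hki; simp [d]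
    · simp [d, hki, hdiag i k hki]
  have key : ∀ i j, i ≠ j → ∀ t, σ t = t → (d i : F) * τ t * ((d j)⁻¹ : Fˣ) = t := by
    intro i j hij t ht
    apply xr_injective hn hij
    rw [← conjAut_diag_xr d hij, ← hg, ← fieldAut_xr τ hij, ← MulAut.mul_apply, h i j hij t ht]
  have hdd : ∀ i j, d i = d j := by
    intro i j
    by_cases hij : i = j
    · rw [hij]
    · have := key i j hij 1 (map_one σ)
      rw [map_one, mul_one, ← Units.val_mul] at this
      exact mul_inv_eq_one.1 (Units.ext this)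
  refine ⟨τ, ?_, fun t ht => ?_⟩
  · rw [conjAut_eq_one_of_center (mem_center_GL_of_scalar (c := (d ⟨0, by omega⟩ : F)) ?_), one_mul]
    rw [hg, smul_one_eq_diagonal]
    exact congrArg diagonal (funext fun k => by rw [hdd k ⟨0, by omega⟩])
  · have := key ⟨0, by omega⟩ (o ⟨0, by omega⟩) (ho _).symm t ht
    rw [← hdd ⟨0, by omega⟩ (o ⟨0, by omega⟩), mul_comm ((d _ : F)) (τ t), mul_assoc, ← Units.val_mul,
      mul_inv_cancel, Units.val_one, mul_one] at this
    exact this

theorem conj_xr_mem_subAut_range {i j : Fin n} (hij : i ≠ j) {t : F} (ht : σ t = t) :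
    MulAut.conj (xr i j t : PSLn) ∈ (subAut (n := n) σ).range := by
  refine ⟨Matrix.SpecialLinearGroup.transvection hij ⟨t, ht⟩, ?_⟩
  rw [subAut_eq_conj, xr_eq_mk hij]
  refine congrArg _ (congrArg _ (Subtype.ext (Matrix.ext fun a b => ?_)))
  rw [Matrix.SpecialLinearGroup.map_apply_coe, Matrix.SpecialLinearGroup.transvection_coe,
    Matrix.SpecialLinearGroup.transvection_coe, RingHom.mapMatrix_apply, Matrix.map_apply]
  by_cases h1 : i = a ∧ j = b <;> by_cases h2 : a = b <;> simp_all [Matrix.one_apply, Matrix.single_apply]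

end Cfsg.Agent.Lib.AutPSL
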