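import Cfsg.Agent.Lib.AutPSL.Descent

/-!
The fixed field of a field automorphism of a finite field; indices of subgroups of cyclic groups.
-/

set_option autoImplicit false

namespace Cfsg.Agent.Lib.AutPSL

variable {F : Type*} [Field F]

/-- The fixed field of a field automorphism. -/
def fixField (σ : F ≃+* F) : Subfield F := σ.toRingHom.eqLocusField (RingHom.id F)

theorem mem_fixField {σ : F ≃+* F} {x : F} : x ∈ fixField σ ↔ σ x = x := Iff.rfl

/-- Field automorphisms of a finite field commute. -/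
theorem fieldAut_comm [Finite F] (σ τ : F ≃+* F) : σ * τ = τ * σ := by
  obtain ⟨g, hg⟩ := IsCyclic.exists_generator (α := Fˣ)
  obtain ⟨a, ha⟩ := Subgroup.mem_zpowers_iff.1 (hg (mapUnits σ g))
  obtain ⟨b, hb⟩ := Subgroup.mem_zpowers_iff.1 (hg (mapUnits τ g))
  have key : mapUnits σ (mapUnits τ g) = mapUnits τ (mapUnits σ g) := by
    rw [← hb, map_zpow, ← ha, map_zpow, ← hb, ← zpow_mul, ← zpow_mul, mul_comm]
  refine RingEquiv.ext fun x => ?_
  rcases eq_or_ne x 0 with rfl | hx
  · simp
  obtain ⟨k, hk⟩ := Subgroup.mem_zpowers_iff.1 (hg (Units.mk0 x hx))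
  have : mapUnits σ (mapUnits τ (Units.mk0 x hx)) = mapUnits τ (mapUnits σ (Units.mk0 x hx)) := by
    rw [← hk, map_zpow, map_zpow, key, map_zpow, map_zpow]
  exact congrArg Units.val this

variable {p f : ℕ}

/-- The fixed field of an automorphism of order `r` of `GF(p^f)` has `p^(f/r)` elements. -/
theorem card_fixField [Fintype F] [Fact p.Prime] (hF : Fintype.card F = p ^ f) {σ : F ≃+* F} {r : ℕ}
    (hr : orderOf σ = r) : r ∣ f ∧ Nat.card (fixField σ) = p ^ (f / r) := by
  classical
  have hfin : IsOfFinOrder σ := by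
    haveI : Finite (F ≃+* F) := Finite.of_injective (fun τ : F ≃+* F => (τ : F → F)) DFunLike.coe_injective
    exact isOfFinOrder_of_finite σ
  haveI : Finite (Subgroup.zpowers σ) := by
    rw [← Nat.card_pos_iff.trans (and_iff_right ⟨1⟩), Nat.card_zpowers]
    exact hfin.orderOf_pos
  letI := Fintype.ofFinite (Subgroup.zpowers σ)
  have h1 := FixedPoints.finrank_eq_card (Subgroup.zpowers σ) F
  rw [← Nat.card_eq_fintype_card, Nat.card_zpowers, hr] at h1
  have hmem : ∀ x : F, x ∈ FixedPoints.subfield (Subgroup.zpowers σ) F ↔ x ∈ fixField σ := by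
    intro x
    rw [mem_fixField]
    constructor
    · intro h; exact h ⟨σ, Subgroup.mem_zpowers σ⟩
    · intro h g
      have : Subgroup.zpowers σ ≤ MulAction.stabilizer (F ≃+* F) x := Subgroup.zpowers_le.2 h
      exact this g.2
  have hc : Nat.card (FixedPoints.subfield (Subgroup.zpowers σ) F) = Nat.card (fixField σ) :=
    Nat.card_congr (Equiv.subtypeEquivRight hmem)
  have h2 := Module.natCard_eq_pow_finrank (K := FixedPoints.subfield (Subgroup.zpowers σ) F) (V := F)
  rw [h1, hc, Nat.card_eq_fintype_card (α := F), hF] at h2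
  have hp : p.Prime := Fact.out
  have hr0 : 0 < r := by rw [← hr]; exact hfin.orderOf_pos
  obtain ⟨m, -, hm⟩ := (Nat.dvd_prime_pow hp).1 (h2 ▸ dvd_pow_self (Nat.card (fixField σ)) hr0.ne')
  rw [hm, ← pow_mul] at h2
  have hfm : f = m * r := Nat.pow_right_injective hp.two_le h2
  exact ⟨Dvd.intro_left m hfm.symm, by rw [hm, hfm, Nat.mul_div_cancel m hr0]⟩

/-- The units of the fixed field. -/
def fixUnitsEquiv (σ : F ≃+* F) : fixUnits σ ≃* (fixField σ)ˣ where
  toFun z := ⟨⟨(z.1 : F), congrArg Units.val z.2⟩,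
    ⟨((z.1⁻¹ : Fˣ) : F), congrArg Units.val ((fixUnits σ).inv_mem z.2)⟩,
    Subtype.ext z.1.mul_inv, Subtype.ext z.1.inv_mul⟩
  invFun z := ⟨Units.map (fixField σ).subtype.toMonoidHom z, Units.ext (z : fixField σ).2⟩
  left_inv z := Subtype.ext (Units.ext rfl)
  right_inv z := Units.ext (Subtype.ext rfl)
  map_mul' z w := Units.ext (Subtype.ext rfl)

theorem card_fixUnits [Finite F] (σ : F ≃+* F) :
    Nat.card (fixUnits σ) = Nat.card (fixField σ) - 1 := by
  rw [Nat.card_congr (fixUnitsEquiv σ).toEquiv, Nat.card_units]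

/-- Fixed elements are the roots of `x^q₀ = x`, with `q₀` the order of the fixed field. -/
theorem mem_fixField_iff_pow [Finite F] (σ : F ≃+* F) (x : F) :
    σ x = x ↔ x ^ Nat.card (fixField σ) = x := by
  classical
  letI := Fintype.ofFinite F
  letI : Fintype (fixField σ) := Fintype.ofFinite _
  constructor
  · intro h
    have := FiniteField.pow_card (⟨x, h⟩ : fixField σ)
    rw [Nat.card_eq_fintype_card]
    exact congrArg Subtype.val this
  · intro h
    rcases eq_or_ne x 0 with rfl | hx
    · simp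
    have h1 : 1 < Nat.card (fixField σ) := Finite.one_lt_card
    let u := Units.mk0 x hx
    have hu : u ^ Nat.card (fixUnits σ) = 1 := by
      rw [card_fixUnits]
      refine Units.ext ?_
      have : x * x ^ (Nat.card (fixField σ) - 1) = x * 1 := by
        rw [← pow_succ', Nat.sub_add_cancel h1.le, h, mul_one]
      simpa [u] using mul_left_cancel₀ hx this
    have hS : (fixUnits σ : Set Fˣ).toFinset ⊆
        Finset.univ.filter fun z : Fˣ => z ^ Nat.card (fixUnits σ) = 1 := by
      intro z hz
      simp only [Set.mem_toFinset, SetLike.mem_coe] at hz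
      simp only [Finset.mem_filter, Finset.mem_univ, true_and]
      exact congrArg Subtype.val (pow_card_eq_one' (x := (⟨z, hz⟩ : fixUnits σ)))
    have heq := Finset.eq_of_subset_of_card_le hS (by
      refine (IsCyclic.card_pow_eq_one_le Nat.card_pos).trans (le_of_eq ?_)
      rw [Set.toFinset_card, Nat.card_eq_fintype_card]
      rfl)
    have : u ∈ (fixUnits σ : Set Fˣ).toFinset := by rw [heq]; exact Finset.mem_filter.2 ⟨Finset.mem_univ _, hu⟩
    exact congrArg Units.val (Set.mem_toFinset.1 this : u ∈ fixUnits σ)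

/-- An involutory automorphism is `x ↦ x^q₀`. -/
theorem apply_eq_pow [Fintype F] [Fact p.Prime] (hF : Fintype.card F = p ^ f) {σ : F ≃+* F}
    (hσ : orderOf σ = 2) (x : F) : σ x = x ^ p ^ (f / 2) := by
  obtain ⟨-, hc⟩ := card_fixField hF hσ
  haveI : CharP F p := charP_of_card_eq_prime_pow hF
  set φ : F →+* F := iterateFrobenius F p (f / 2)
  have hφ : ∀ y, φ y = y ^ p ^ (f / 2) := fun y => iterateFrobenius_def p (f / 2) y
  have hfix : ∀ y, σ y = y → φ y = y := fun y h => by
    rw [hφ, ← hc]; exact (mem_fixField_iff_pow σ y).1 h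
  have hσ2 : ∀ y, σ (σ y) = y := fun y => by
    have : σ ^ 2 = 1 := by rw [← hσ]; exact pow_orderOf_eq_one σ
    exact (RingEquiv.congr_fun (pow_two σ).symm y).trans (RingEquiv.congr_fun this y)
  have hs : σ (x + σ x) = x + σ x := by rw [map_add, hσ2, add_comm]
  have hm : σ (x * σ x) = x * σ x := by rw [map_mul, hσ2, mul_comm]
  rw [← hφ]
  have h0 : (φ x - x) * (φ x - σ x) = 0 := by
    have h1 := hfix _ hs
    have h2 := hfix _ hm
    rw [map_add] at h1
    rw [map_mul] at h2
    linear_combination (φ x) * h1 - h2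
  rcases mul_eq_zero.1 h0 with h | h
  · have h1 : σ x = x := by
      rw [mem_fixField_iff_pow, hc, ← hφ]; exact sub_eq_zero.1 h
    rw [h1]; exact (sub_eq_zero.1 h).symm
  · exact (sub_eq_zero.1 h).symm

/-- Two involutory automorphisms of a finite field coincide. -/
theorem involution_unique [Fintype F] [Fact p.Prime] (hF : Fintype.card F = p ^ f) {σ τ : F ≃+* F}
    (hσ : orderOf σ = 2) (hτ : orderOf τ = 2) : σ = τ :=
  RingEquiv.ext fun x => by rw [apply_eq_pow hF hσ, apply_eq_pow hF hτ]

theorem exists_fixField_hom [Fintype F] [Fact p.Prime] (hF : Fintype.card F = p ^ f) {σ : F ≃+* F} {r : ℕ}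
    (hr : orderOf σ = r) (F₀ : Type*) [Field F₀] [Fintype F₀] (hF₀ : Fintype.card F₀ = p ^ (f / r)) :
    ∃ ι : F₀ →+* F, ∀ x, σ x = x ↔ x ∈ Set.range ι := by
  classical
  letI : Fintype (fixField σ) := Fintype.ofFinite _
  have hc : Fintype.card F₀ = Fintype.card (fixField σ) := by
    rw [hF₀, ← Nat.card_eq_fintype_card (α := fixField σ), (card_fixField hF hr).2]
  let e := FiniteField.ringEquivOfCardEq hc
  refine ⟨(fixField σ).subtype.comp e.toRingHom, fun x => ⟨fun h => ⟨e.symm ⟨x, h⟩, by simp⟩, ?_⟩⟩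
  rintro ⟨y, rfl⟩
  exact (e y).2

/-- Joins with the subgroup of `n`-th powers in a finite cyclic group. -/
theorem index_range_pow_sup {G : Type*} [CommGroup G] [Finite G] [IsCyclic G] (n : ℕ) (U : Subgroup G) :
    ((powMonoidHom n : G →* G).range ⊔ U).index = Nat.gcd n U.index := by
  set P := (powMonoidHom n : G →* G).range
  set d := Nat.gcd n U.index
  have hM : U.index ∣ Nat.card G := U.index_dvd_card
  apply Nat.dvd_antisymm
  · have h1 : (P ⊔ U).index ∣ P.index := Subgroup.index_dvd_of_le le_sup_left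
    rw [IsCyclic.index_powMonoidHom_range] at h1
    exact Nat.dvd_gcd (h1.trans (Nat.gcd_dvd_right _ _)) (Subgroup.index_dvd_of_le le_sup_right)
  · obtain ⟨k, hk⟩ : d ∣ Nat.card G := (Nat.gcd_dvd_right n U.index).trans hM
    have hd0 : 0 < d := by
      rcases Nat.eq_zero_or_pos d with h | h
      · rw [h, zero_mul] at hk; exact absurd hk Nat.card_pos.ne'
      · exact h
    have hle : P ⊔ U ≤ (powMonoidHom k : G →* G).ker := by
      refine sup_le ?_ ?_
      · rintro _ ⟨a, rfl⟩
        obtain ⟨m, hm⟩ := Nat.gcd_dvd_left n U.index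
        rw [MonoidHom.mem_ker, powMonoidHom_apply, powMonoidHom_apply, ← pow_mul, hm, mul_right_comm,
          ← hk, pow_mul, pow_card_eq_one', one_pow]
      · intro z hz
        obtain ⟨m, hm⟩ := Nat.gcd_dvd_right n U.index
        have hU : Nat.card U * m = k := by
          have := U.card_mul_index
          rw [hk, hm, mul_left_comm] at this
          exact Nat.eq_of_mul_eq_mul_left hd0 this
        rw [MonoidHom.mem_ker, powMonoidHom_apply, ← hU, pow_mul,
          show z ^ Nat.card U = 1 from congrArg Subtype.val (pow_card_eq_one' (x := (⟨z, hz⟩ : U))), one_pow]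
    refine dvd_trans (dvd_of_eq ?_) (Subgroup.index_dvd_of_le hle)
    rw [Subgroup.index_ker]
    have h2 := (powMonoidHom k : G →* G).ker.card_mul_index
    rw [IsCyclic.card_powMonoidHom_ker, Subgroup.index_ker, hk, Nat.gcd_mul_left_left, mul_comm d k] at h2
    exact (Nat.eq_of_mul_eq_mul_left (Nat.pos_of_ne_zero (by rintro rfl; rw [mul_zero] at hk; exact Nat.card_pos.ne' hk)) h2).symm

end Cfsg.Agent.Lib.AutPSL
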