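import Cfsg.Agent.Lib.AutPSL.Sylow

/-!
After multiplying by an inner-diagonal automorphism and possibly inverse-transpose, every automorphism
of `PSL_n` fixes all coordinate root subgroups.
-/

set_option autoImplicit false

namespace Cfsg.Agent.Lib.AutPSL

open Matrix
open scoped MatrixGroups

variable {n : ℕ} {F : Type*} [Field F]

local notation "PSLn" => Matrix.ProjectiveSpecialLinearGroup (Fin n) F

/-- The coordinate root subgroup. -/
noncomputable def coordSet (n : ℕ) (F : Type*) [Field F] (i j : Fin n) :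
    Set (Matrix.ProjectiveSpecialLinearGroup (Fin n) F) :=
  rootSet (Pi.single i 1) (Pi.single j 1)

theorem isPair_single {i j : Fin n} (h : i ≠ j) :
    IsPair (Pi.single i 1 : Fin n → F) (Pi.single j 1) :=
  ⟨by simp, by simp, by simp [h.symm]⟩

theorem not_par_single {i j : Fin n} (h : i ≠ j) :
    ¬ Par (Pi.single i 1 : Fin n → F) (Pi.single j 1) := by
  rintro ⟨a, ha⟩
  have := congrFun ha j
  simp [h.symm] at this

theorem comm_image (α : MulAut PSLn) {R R' : Set PSLn} : Comm (α '' R) (α '' R') ↔ Comm R R' := by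
  constructor
  · intro h x hx y hy
    exact α.injective (by rw [map_mul, map_mul]; exact h _ ⟨x, hx, rfl⟩ _ ⟨y, hy, rfl⟩)
  · rintro h _ ⟨x, hx, rfl⟩ _ ⟨y, hy, rfl⟩
    rw [← map_mul, h x hx y hy, map_mul]

theorem adj_image [Fintype F] (hn : 2 ≤ n) (α : MulAut PSLn) {R R' : Set PSLn} (h : Adj R R') :
    Adj (α '' R) (α '' R') := by
  obtain ⟨hne, hc, w, h', hwh, hne1, hne2, x, hx, hx1, a, ha, b, hb, rfl⟩ := h
  obtain ⟨w₂, h₂, hwh₂, he⟩ := exists_image_rootSet hn α hwh
  refine ⟨fun e => hne ((Set.image_injective.2 α.injective) e), (comm_image α).2 hc, w₂, h₂, hwh₂,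
    ?_, ?_, α (a * b), he ▸ ⟨_, hx, rfl⟩, ?_, α a, ⟨a, ha, rfl⟩, α b, ⟨b, hb, rfl⟩, map_mul α a b⟩
  · rw [← he]
    exact fun e => hne1 ((Set.image_injective.2 α.injective) e)
  · rw [← he]
    exact fun e => hne2 ((Set.image_injective.2 α.injective) e)
  · exact fun e => hx1 (α.injective (e.trans (map_one α).symm))

theorem adj_of_adj_image [Fintype F] (hn : 2 ≤ n) (α : MulAut PSLn) {R R' : Set PSLn}
    (h : Adj (α '' R) (α '' R')) : Adj R R' := by
  have h' := adj_image hn α⁻¹ h
  simpa [Set.image_image] using h'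

theorem adj_coord (hn : 3 ≤ n) {i j k l : Fin n} (hij : i ≠ j) (hkl : k ≠ l) :
    Adj (coordSet n F i j) (coordSet n F k l) ↔ (i = k ∧ j ≠ l) ∨ (i ≠ k ∧ j = l) := by
  have hpar : ∀ a b : Fin n, Par (Pi.single a 1 : Fin n → F) (Pi.single b 1) ↔ a = b := fun a b =>
    ⟨fun h => by_contra fun hne => not_par_single hne h, fun h => h ▸ ⟨1, (one_smul _ _).symm⟩⟩
  rw [coordSet, coordSet, adj_iff hn (isPair_single hij) (isPair_single hkl), hpar, hpar]

/-- Images of the coordinate root subgroups organised as a frame. -/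
def IsFrame (α : MulAut PSLn) (V W : Fin n → (Fin n → F)) : Prop :=
  (∀ i j, i ≠ j → IsPair (V i) (W j) ∧ α '' coordSet n F i j = rootSet (V i) (W j)) ∧
    ∀ j, W j ⬝ᵥ V j ≠ 0

theorem orth_ne_zero_of_images (hn : 3 ≤ n) (α : MulAut PSLn) {V W : Fin n → (Fin n → F)}
    (h : ∀ i j, i ≠ j → IsPair (V i) (W j) ∧ α '' coordSet n F i j = rootSet (V i) (W j)) (j : Fin n) :
    W j ⬝ᵥ V j ≠ 0 := by
  intro h0
  obtain ⟨i, hi⟩ : ∃ i : Fin n, i ≠ j := by
    haveI : Nontrivial (Fin n) := Fin.nontrivial_iff_two_le.2 (by omega)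
    exact exists_ne j
  obtain ⟨k, hk⟩ : ∃ k : Fin n, k ≠ j ∧ k ≠ i := by
    by_contra hcon
    simp only [not_exists, not_and, not_not] at hcon
    have h2 : (Finset.univ : Finset (Fin n)) ⊆ {i, j} := fun x _ => by
      by_cases hx : x = j
      · simp [hx]
      · simp [hcon x hx]
    have := (Finset.card_le_card h2).trans Finset.card_le_two
    rw [Finset.card_univ, Fintype.card_fin] at this
    omega
  obtain ⟨hp1, he1⟩ := h i j hi
  obtain ⟨hp2, he2⟩ := h j k hk.1.symm
  have hc : Comm (α '' coordSet n F i j) (α '' coordSet n F j k) := by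
    rw [he1, he2]
    exact comm_of_orth hp1.orth hp2.orth h0 (h i k hk.2.symm).1.orth
  rw [comm_image] at hc
  have := (orth_of_comm hn (isPair_single hi) (isPair_single hk.1.symm) hc (not_par_single hi)).1
  simp at this

theorem exists_other (hn : 2 ≤ n) (i : Fin n) : ∃ j : Fin n, j ≠ i := by
  haveI : Nontrivial (Fin n) := Fin.nontrivial_iff_two_le.2 hn
  exact exists_ne i

theorem exists_third (hn : 3 ≤ n) (i j : Fin n) : ∃ k : Fin n, k ≠ i ∧ k ≠ j := by
  by_contra hcon
  simp only [not_exists, not_and, not_not] at hcon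
  have h2 : (Finset.univ : Finset (Fin n)) ⊆ {i, j} := fun x _ => by
    by_cases hx : x = i
    · simp [hx]
    · simp [hcon x hx]
  have := (Finset.card_le_card h2).trans Finset.card_le_two
  rw [Finset.card_univ, Fintype.card_fin] at this
  omega

theorem exists_frame_of_typed (hn : 3 ≤ n) (α : MulAut PSLn) (a b : Fin n → Fin n → (Fin n → F))
    (hab : ∀ i j, i ≠ j → IsPair (a i j) (b i j) ∧ α '' coordSet n F i j = rootSet (a i j) (b i j))
    (hrow : ∀ i j k, i ≠ j → i ≠ k → Par (a i j) (a i k))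
    (hcol : ∀ i k j, i ≠ j → k ≠ j → Par (b i j) (b k j)) : ∃ V W, IsFrame α V W := by
  choose o ho using exists_other (n := n) (by omega)
  refine ⟨fun i => a i (o i), fun j => b (o j) j, ?_, ?_⟩
  all_goals
    have main : ∀ i j, i ≠ j → IsPair (a i (o i)) (b (o j) j) ∧
        α '' coordSet n F i j = rootSet (a i (o i)) (b (o j) j) := by
      intro i j hij
      obtain ⟨hp, he⟩ := hab i j hij
      have hv : Par (a i j) (a i (o i)) := hrow i j (o i) hij (ho i).symm
      have hf : Par (b i j) (b (o j) j) := hcol i (o j) j hij (ho j)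
      obtain ⟨s, hs⟩ := id hv
      obtain ⟨t, ht⟩ := id hf
      have hs0 := Par.scalar_ne_zero hs (hab i (o i) (ho i).symm).1.ne_v
      have ht0 := Par.scalar_ne_zero ht (hab (o j) j (ho j)).1.ne_f
      have hp' : IsPair (a i (o i)) (b (o j) j) := by rw [hs, ht]; exact hp.smul hs0 ht0
      exact ⟨hp', he.trans (rootSet_eq_of_par hp hp' hv hf).symm⟩
  · exact main
  · exact orth_ne_zero_of_images hn α main

theorem exists_frame_three [Fintype F] (hn : 3 ≤ n) (α : MulAut PSLn) :
    ∃ γ : MulAut PSLn, (γ = 1 ∨ γ = invT) ∧ ∃ V W, IsFrame (γ * α) V W := by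
  have hn2 : 2 ≤ n := by omega
  have hc : ∀ i j : Fin n, ∃ v f : Fin n → F, i ≠ j →
      IsPair v f ∧ α '' coordSet n F i j = rootSet v f := by
    intro i j
    by_cases h : i = j
    · exact ⟨0, 0, fun h' => absurd h h'⟩
    · obtain ⟨v, f, hv, he⟩ := exists_image_rootSet hn2 α (isPair_single (F := F) h)
      exact ⟨v, f, fun _ => ⟨hv, he⟩⟩
  choose a b hab using hc
  have hadj : ∀ i j k l, i ≠ j → k ≠ l →
      ((Par (a i j) (a k l) ∧ ¬ Par (b i j) (b k l)) ∨ (¬ Par (a i j) (a k l) ∧ Par (b i j) (b k l)) ↔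
        (i = k ∧ j ≠ l) ∨ (i ≠ k ∧ j = l)) := by
    intro i j k l hij hkl
    rw [← adj_iff hn (hab i j hij).1 (hab k l hkl).1, ← (hab i j hij).2, ← (hab k l hkl).2,
      ← adj_coord (F := F) hn hij hkl]
    exact ⟨adj_of_adj_image hn2 α, adj_image hn2 α⟩
  have hinj : ∀ i j k l, i ≠ j → k ≠ l → Par (a i j) (a k l) → Par (b i j) (b k l) → i = k := by
    intro i j k l hij hkl h1 h2
    have he := rootSet_eq_of_par (hab i j hij).1 (hab k l hkl).1 h1 h2
    rw [← (hab i j hij).2, ← (hab k l hkl).2] at he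
    have h3 := par_of_rootSet_eq hn2 (isPair_single hkl) (isPair_single hij) (Set.image_injective.2 α.injective he)
    by_contra hne
    exact not_par_single (Ne.symm hne) h3.1
  have local_ : ∀ i j k l, i ≠ j → i ≠ k → k ≠ j → l ≠ j → l ≠ i →
      (Par (a i j) (a i k) ↔ ¬ Par (a i j) (a l j)) := by
    intro i j k l hij hik hkj hlj hli
    have r1 := (hadj i j i k hij hik).2 (Or.inl ⟨rfl, hkj.symm⟩)
    have r2 := (hadj i j l j hij hlj).2 (Or.inr ⟨hli.symm, rfl⟩)
    have hn3 : ¬ ((i = l ∧ k ≠ j) ∨ (i ≠ l ∧ k = j)) := by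
      rintro (⟨h, -⟩ | ⟨-, h⟩)
      · exact hli h.symm
      · exact hkj h
    have r3 : ¬ ((Par (a i k) (a l j) ∧ ¬ Par (b i k) (b l j)) ∨ (¬ Par (a i k) (a l j) ∧ Par (b i k) (b l j))) :=
      fun h => hn3 ((hadj i k l j hik hlj).1 h)
    constructor
    · intro h1 h2
      have h12 : Par (a i k) (a l j) := (h1.symm (hab i k hik).1.ne_v).trans h2
      refine hli.symm (hinj i k l j hik hlj h12 ?_)
      by_contra hb
      exact r3 (Or.inl ⟨h12, hb⟩)
    · intro h2
      by_contra h1
      have hb1 : Par (b i j) (b i k) := by tauto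
      have hb2 : Par (b i j) (b l j) := by tauto
      have h12 : Par (b i k) (b l j) := (hb1.symm (hab i k hik).1.ne_f).trans hb2
      refine hli.symm (hinj i k l j hik hlj ?_ h12)
      by_contra ha
      exact r3 (Or.inr ⟨ha, h12⟩)
  let T : Fin n → Fin n → Prop := fun i j => ∀ k, k ≠ i → k ≠ j → Par (a i j) (a i k)
  have hT : ∀ i j k, i ≠ j → k ≠ i → k ≠ j → (T i j ↔ Par (a i j) (a i k)) := by
    intro i j k hij hki hkj
    refine ⟨fun h => h k hki hkj, fun h k' hk'i hk'j => ?_⟩
    obtain ⟨l, hli, hlj⟩ := exists_third hn i j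
    rw [local_ i j k' l hij hk'i.symm hk'j hlj hli, ← local_ i j k l hij hki.symm hkj hlj hli]
    exact h
  have hTrow : ∀ i j k, i ≠ j → k ≠ i → (T i j ↔ T i k) := by
    intro i j k hij hki
    by_cases hkj : k = j
    · rw [hkj]
    · rw [hT i j k hij hki hkj, hT i k j hki.symm hij.symm (Ne.symm hkj)]
      exact ⟨fun h => h.symm (hab i k hki.symm).1.ne_v, fun h => h.symm (hab i j hij).1.ne_v⟩
  have hTcol : ∀ i l j, i ≠ j → l ≠ j → (T i j ↔ T l j) := by
    intro i l j hij hlj
    by_cases hli : l = i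
    · rw [hli]
    · rw [hT i j l hij hli hlj, local_ i j l l hij (Ne.symm hli) hlj hlj hli,
        hT l j i hlj (Ne.symm hli) hij, local_ l j i i hlj hli hij hij (Ne.symm hli)]
      exact not_congr ⟨fun h => h.symm (hab l j hlj).1.ne_v, fun h => h.symm (hab i j hij).1.ne_v⟩
  have hTconst : ∀ i j k l, i ≠ j → k ≠ l → (T i j ↔ T k l) := by
    intro i j k l hij hkl
    obtain ⟨m, hmi, hmk⟩ := exists_third hn i k
    exact (hTrow i j m hij hmi).trans ((hTcol i k m hmi.symm hmk.symm).trans (hTrow k m l hmk.symm hkl.symm))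
  have hrow_of : ∀ i j k, i ≠ j → i ≠ k → (Par (a i j) (a i k) ↔ j = k ∨ T i j) := by
    intro i j k hij hik
    by_cases hjk : j = k
    · subst hjk
      exact iff_of_true ⟨1, (one_smul _ _).symm⟩ (Or.inl rfl)
    · rw [hT i j k hij hik.symm (Ne.symm hjk)]
      tauto
  have hcol_of : ∀ i k j, i ≠ j → k ≠ j → (Par (b i j) (b k j) ↔ i = k ∨ T i j) := by
    intro i k j hij hkj
    by_cases hik : i = k
    · subst hik
      exact iff_of_true ⟨1, (one_smul _ _).symm⟩ (Or.inl rfl)
    · have r := (hadj i j k j hij hkj).2 (Or.inr ⟨hik, rfl⟩)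
      obtain ⟨m, hmi, hmj⟩ := exists_third hn i j
      have hl := local_ i j m k hij hmi.symm hmj hkj (Ne.symm hik)
      rw [← hT i j m hij hmi hmj] at hl
      tauto
  obtain ⟨i₀, j₀, h₀⟩ : ∃ i j : Fin n, i ≠ j := ⟨⟨0, by omega⟩, ⟨1, by omega⟩, by simp [Fin.ext_iff]⟩
  by_cases hT0 : T i₀ j₀
  · refine ⟨1, Or.inl rfl, exists_frame_of_typed hn _ a b
      (fun i j hij => ⟨(hab i j hij).1, by rw [one_mul]; exact (hab i j hij).2⟩) ?_ ?_⟩
    · exact fun i j k hij hik => (hrow_of i j k hij hik).2 (Or.inr ((hTconst i j i₀ j₀ hij h₀).2 hT0))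
    · exact fun i k j hij hkj => (hcol_of i k j hij hkj).2 (Or.inr ((hTconst i j i₀ j₀ hij h₀).2 hT0))
  · refine ⟨invT, Or.inr rfl, exists_frame_of_typed hn _ b a (fun i j hij => ⟨(hab i j hij).1.swap, ?_⟩) ?_ ?_⟩
    · show (fun x => invT (α x)) '' coordSet n F i j = _
      rw [← Set.image_image, (hab i j hij).2, invT_rootSet (hab i j hij).1.orth]
    · intro i j k hij hik
      by_cases hjk : j = k
      · subst hjk; exact ⟨1, (one_smul _ _).symm⟩
      · have r := (hadj i j i k hij hik).2 (Or.inl ⟨rfl, hjk⟩)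
        have hh := hrow_of i j k hij hik
        have ht := hTconst i j i₀ j₀ hij h₀
        tauto
    · intro i k j hij hkj
      by_cases hik : i = k
      · subst hik; exact ⟨1, (one_smul _ _).symm⟩
      · have r := (hadj i j k j hij hkj).2 (Or.inr ⟨hik, rfl⟩)
        have hh := hcol_of i k j hij hkj
        have ht := hTconst i j i₀ j₀ hij h₀
        tauto

theorem exists_frame_two [Fintype F] (α : MulAut (Matrix.ProjectiveSpecialLinearGroup (Fin 2) F)) :
    ∃ V W, IsFrame α V W := by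
  have h01 : (0 : Fin 2) ≠ 1 := by decide
  obtain ⟨v, f, hp, he⟩ := exists_image_rootSet (le_refl 2) α (isPair_single (F := F) h01)
  obtain ⟨v', f', hp', he'⟩ := exists_image_rootSet (le_refl 2) α (isPair_single (F := F) h01.symm)
  have hnp : ∀ w, IsPair v w → ¬ Par v v' := by
    intro _ _ hv
    obtain ⟨c, hc⟩ := id hv
    have hc0 := Par.scalar_ne_zero hc hp'.ne_v
    have hf : Par f f' := by
      by_contra hnf
      obtain ⟨y, hy, hy'⟩ := exists_dual_pair hp.ne_f hnf
      have o1 := hp.orth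
      have o2 : f' ⬝ᵥ v = 0 := by
        have := hp'.orth
        rw [hc, dotProduct_smul, smul_eq_mul] at this
        exact (mul_eq_zero.1 this).resolve_left hc0
      simp only [dotProduct, Fin.sum_univ_two] at o1 o2 hy hy'
      have hD : f 0 * f' 1 - f 1 * f' 0 ≠ 0 := fun hD => by
        have hf'0 : f' 0 = 0 := by linear_combination (-f' 0) * hy + f 0 * hy' - y 1 * hD
        have hf'1 : f' 1 = 0 := by linear_combination (-f' 1) * hy + f 1 * hy' + y 0 * hD
        exact hp'.ne_f (funext fun i => by fin_cases i <;> simp [hf'0, hf'1])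
      apply hp.ne_v
      funext i
      fin_cases i
      · have h : (f 0 * f' 1 - f 1 * f' 0) * v 0 = 0 := by linear_combination f' 1 * o1 - f 1 * o2
        exact (mul_eq_zero.1 h).resolve_left hD
      · have h : (f 0 * f' 1 - f 1 * f' 0) * v 1 = 0 := by linear_combination f 0 * o2 - f' 0 * o1
        exact (mul_eq_zero.1 h).resolve_left hD
    have := rootSet_eq_of_par hp hp' hv hf
    rw [← he, ← he'] at this
    exact not_par_single h01.symm
      (par_of_rootSet_eq (le_refl 2) (isPair_single h01.symm) (isPair_single h01)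
        (Set.image_injective.2 α.injective this)).1
  have key : ∀ g : Fin 2 → F, g ≠ 0 → g ⬝ᵥ v = 0 → g ⬝ᵥ v' = 0 → False := by
    intro g hg o1 o2
    have hD : v 0 * v' 1 - v 1 * v' 0 ≠ 0 := by
      intro hD
      apply hnp f hp
      obtain ⟨i, hi⟩ := Function.ne_iff.1 hp.ne_v
      refine ⟨v' i / v i, funext fun j => ?_⟩
      simp only [Pi.zero_apply] at hi
      simp only [Pi.smul_apply, smul_eq_mul]
      field_simp
      fin_cases i <;> fin_cases j <;> simp <;>
        first | (linear_combination hD) | (linear_combination -hD) | ring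
    simp only [dotProduct, Fin.sum_univ_two] at o1 o2
    apply hg
    funext i
    fin_cases i
    · have h : (v 0 * v' 1 - v 1 * v' 0) * g 0 = 0 := by linear_combination v' 1 * o1 - v 1 * o2
      exact (mul_eq_zero.1 h).resolve_left hD
    · have h : (v 0 * v' 1 - v 1 * v' 0) * g 1 = 0 := by linear_combination v 0 * o2 - v' 0 * o1
      exact (mul_eq_zero.1 h).resolve_left hD
  refine ⟨![v, v'], ![f', f], ?_, ?_⟩
  · intro i j hij
    fin_cases i <;> fin_cases j
    · exact absurd rfl hij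
    · exact ⟨by simpa using hp, by simpa [coordSet] using he⟩
    · exact ⟨by simpa using hp', by simpa [coordSet] using he'⟩
    · exact absurd rfl hij
  · intro j h0
    fin_cases j
    · exact key f' hp'.ne_f (by simpa using h0) hp'.orth
    · exact key f hp.ne_f hp.orth (by simpa using h0)

/-- A frame gives a matrix whose conjugation straightens the automorphism. -/
theorem exists_conj_of_frame {α : MulAut PSLn} {V W : Fin n → (Fin n → F)} (h : IsFrame α V W) :
    ∃ P : GL (Fin n) F, ∀ i j, i ≠ j → (conjAut P * α) '' coordSet n F i j = coordSet n F i j := by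
  classical
  set d : Fin n → F := fun j => W j ⬝ᵥ V j with hd
  let Vm : Matrix (Fin n) (Fin n) F := Matrix.of fun k i => V i k
  let Wm : Matrix (Fin n) (Fin n) F := Matrix.of fun j k => (d j)⁻¹ * W j k
  have hWV : Wm * Vm = 1 := by
    ext j i
    have : ∑ k, (d j)⁻¹ * W j k * V i k = (d j)⁻¹ * (W j ⬝ᵥ V i) := by
      simp only [dotProduct, Finset.mul_sum, mul_assoc]
    simp only [Matrix.mul_apply, Wm, Vm, Matrix.of_apply, this]
    by_cases hij : i = j
    · subst hij
      rw [Matrix.one_apply_eq]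
      exact inv_mul_cancel₀ (h.2 i)
    · rw [(h.1 i j hij).1.orth, mul_zero, Matrix.one_apply_ne (Ne.symm hij)]
  let P : GL (Fin n) F := ⟨Wm, Vm, hWV, mul_eq_one_comm.1 hWV⟩
  refine ⟨P, fun i j hij => ?_⟩
  have hgoal : conjAut P⁻¹ '' coordSet n F i j = α '' coordSet n F i j := by
    rw [coordSet, conjAut_rootSet _ (isPair_single hij).orth, inv_inv]
    have e1 : (Vm : Matrix (Fin n) (Fin n) F) *ᵥ Pi.single i 1 = V i := by
      ext k; simp [Vm, Matrix.mulVec_single]
    have e2 : Pi.single j 1 ᵥ* (Wm : Matrix (Fin n) (Fin n) F) = (d j)⁻¹ • W j := by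
      ext k; simp [Wm, Matrix.single_vecMul]
    show rootSet (Vm *ᵥ Pi.single i 1) (Pi.single j 1 ᵥ* Wm) = _
    rw [e1, e2]
    have := rootSet_smul (v := V i) (f := W j) (one_ne_zero (α := F)) (inv_ne_zero (h.2 j)) (h.1 i j hij).1.orth
    rw [one_smul] at this
    rw [this]
    exact (h.1 i j hij).2.symm
  show (fun x => conjAut P (α x)) '' _ = _
  rw [← Set.image_image, ← hgoal, Set.image_image]
  have : ∀ x, conjAut P (conjAut P⁻¹ x) = x := fun x => by
    rw [← MulAut.mul_apply, ← map_mul, mul_inv_cancel, map_one]; rfl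
  simp [this]

/-- Every automorphism fixes all coordinate root subgroups after standard corrections. -/
theorem exists_fix_coord [Fintype F] (hn : 2 ≤ n) (α : MulAut PSLn) :
    ∃ γ : MulAut PSLn, (γ = 1 ∨ (3 ≤ n ∧ γ = invT)) ∧ ∃ P : GL (Fin n) F,
      ∀ i j, i ≠ j → (conjAut P * (γ * α)) '' coordSet n F i j = coordSet n F i j := by
  rcases Nat.eq_or_lt_of_le hn with h2 | h3
  · subst h2
    obtain ⟨V, W, h⟩ := exists_frame_two α
    exact ⟨1, Or.inl rfl, by rw [one_mul]; exact exists_conj_of_frame h⟩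
  · obtain ⟨γ, hγ, V, W, h⟩ := exists_frame_three h3 α
    exact ⟨γ, hγ.imp id (fun h => ⟨h3, h⟩), exists_conj_of_frame h⟩

end Cfsg.Agent.Lib.AutPSL
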