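import Cfsg.Agent.Lib.AutPSL.Reflection
import Cfsg.Agent.Lib.AutPSL.FieldCentralizer

/-!
Centralisers of graph and graph-field involutions of `PSL_n(q)`, `q` odd, given by a symmetric or
hermitian form: no normal subgroup of odd order, and the products of two reflections have trivial
centraliser of odd order.
-/

set_option autoImplicit false

namespace Cfsg.Agent.Lib.AutPSL

open Matrix

variable {n : ℕ} {F : Type*} [Field F]

local notation "PSLn" => Matrix.ProjectiveSpecialLinearGroup (Fin n) F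
local notation "GLn" => GL (Fin n) F
local notation "Mn" => Matrix (Fin n) (Fin n) F
local notation "Vn" => (Fin n → F)

/-- The graph-type automorphism of a matrix `G`. -/
noncomputable def gph (G : GLn) (σ : F ≃+* F) : MulAut PSLn := conjAut G * (fieldAut σ * invT)

theorem conjAut_commute_gph (hn : 2 ≤ n) (G : GLn) (σ : F ≃+* F) (h : GLn) :
    conjAut h * gph G σ = gph G σ * conjAut h ↔
      ∃ c : Fˣ, G * graphGL σ h = GeneralLinearGroup.scalar (Fin n) c * (h * G) := by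
  rw [gph, mul_assoc (conjAut G), fieldAut_invT_conjAut, ← mul_assoc (conjAut h), ← mul_assoc (conjAut G) (conjAut (graphGL σ h)), ← map_mul, ← map_mul,
    mul_left_inj, conjAut_eq_iff hn]

/-- The form `(σ x)ᵀ G⁻¹ y`. -/
def frm (G : GLn) (σ : F ≃+* F) (x y : Vn) : F := (⇑σ ∘ x) ⬝ᵥ (((G⁻¹ : GLn) : Mn) *ᵥ y)

theorem comp_mulVec (σ : F ≃+* F) (A : Mn) (x : Vn) : ⇑σ ∘ (A *ᵥ x) = A.map σ *ᵥ (⇑σ ∘ x) :=
  funext fun i => RingHom.map_mulVec σ.toRingHom A x i

theorem frm_mulVec (G : GLn) (σ : F ≃+* F) (h : Mn) (x y : Vn) :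
    frm G σ (h *ᵥ x) (h *ᵥ y) = (⇑σ ∘ x) ⬝ᵥ (((h.map σ)ᵀ * ((G⁻¹ : GLn) : Mn) * h) *ᵥ y) := by
  rw [frm, comp_mulVec, ← Matrix.mulVec_mulVec, ← Matrix.mulVec_mulVec,
    Matrix.dotProduct_mulVec (⇑σ ∘ x) (h.map σ)ᵀ, Matrix.vecMul_transpose]

theorem gram_graphGL_iff (G : GLn) (σ : F ≃+* F) (h : GLn) (c : Fˣ) :
    ((h : Mn).map σ)ᵀ * ((G⁻¹ : GLn) : Mn) * (h : Mn) = (((c⁻¹ : Fˣ) : Fˣ) : F) • ((G⁻¹ : GLn) : Mn) ↔
      G * graphGL σ h = GeneralLinearGroup.scalar (Fin n) c * (h * G) := by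
  have hcz : ∀ z : Fˣ, ∀ A : Mn, (z : F) • A = (GeneralLinearGroup.scalar (Fin n) z : Mn) * A := fun z A => by
    rw [GeneralLinearGroup.coe_scalar, scalar_apply, ← smul_one_eq_diagonal, Matrix.smul_mul, Matrix.one_mul]
  rw [← coe_graphGL_inv, hcz, ← Units.val_mul, ← Units.val_mul, ← Units.val_mul, ← Units.ext_iff]
  set θ := graphGL σ h
  have hs : ∀ z : Fˣ, ∀ A : GLn, GeneralLinearGroup.scalar (Fin n) z * A = A * GeneralLinearGroup.scalar (Fin n) z :=
    fun z A => GeneralLinearGroup.scalar_commute z A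
  constructor
  · intro e
    have e1 : θ⁻¹ = GeneralLinearGroup.scalar (Fin n) c⁻¹ * G⁻¹ * h⁻¹ * G := by
      calc θ⁻¹ = (θ⁻¹ * G⁻¹ * h) * (h⁻¹ * G) := by group
        _ = _ := by rw [e]; group
    have e2 : θ = G⁻¹ * h * G * GeneralLinearGroup.scalar (Fin n) c := by
      rw [← inv_inv θ, e1, map_inv]; group
    rw [e2, hs]
    group
  · intro e
    have e2 : θ = G⁻¹ * (GeneralLinearGroup.scalar (Fin n) c * (h * G)) := by rw [← e]; group
    rw [e2, hs c, map_inv]
    group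

variable {G : GL (Fin n) F} {σ : F ≃+* F}

theorem gram_of_frm (h : Mn) (μ : F) (e : ∀ x y, frm G σ (h *ᵥ x) (h *ᵥ y) = μ * frm G σ x y) :
    (h.map σ)ᵀ * ((G⁻¹ : GLn) : Mn) * h = μ • ((G⁻¹ : GLn) : Mn) := by
  refine Matrix.ext fun i j => ?_
  have h1 := e (Pi.single i 1) (Pi.single j 1)
  have hs : ⇑σ ∘ (Pi.single i (1 : F) : Vn) = Pi.single i 1 := by
    funext k; simp [Pi.single_apply, apply_ite σ]
  rw [frm_mulVec, frm, hs] at h1
  simpa [Matrix.mulVec_single_one, single_one_dotProduct] using h1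

section Herm

variable (hσ : ∀ a, σ (σ a) = a) (h2 : (2 : F) ≠ 0) (hG : ((G : Matrix (Fin n) (Fin n) F).map σ)ᵀ = (G : Matrix (Fin n) (Fin n) F))

include hσ h2 hG

theorem isHermForm_frm : IsHermForm σ (frm G σ) := by
  have hH : (((G⁻¹ : GLn) : Mn).map σ)ᵀ = ((G⁻¹ : GLn) : Mn) := by
    have h1 : ((G : Mn).map σ)ᵀ * (((G⁻¹ : GLn) : Mn).map σ)ᵀ = 1 := by
      rw [← Matrix.transpose_mul, ← Matrix.map_mul, Units.inv_mul, Matrix.map_one _ (map_zero σ) (map_one σ),
        Matrix.transpose_one]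
    rw [hG] at h1
    calc _ = ((G⁻¹ : GLn) : Mn) * ((G : Mn) * (((G⁻¹ : GLn) : Mn).map σ)ᵀ) := by
          rw [← Matrix.mul_assoc, Units.inv_mul, Matrix.one_mul]
      _ = _ := by rw [h1, Matrix.mul_one]
  refine ⟨hσ, h2, fun x y z => ?_, fun a x y => ?_, fun x y => ?_, fun x hx => ?_⟩
  · rw [frm, Matrix.mulVec_add, dotProduct_add]; rfl
  · rw [frm, Matrix.mulVec_smul, dotProduct_smul, smul_eq_mul]; rfl
  · have hxx : ⇑σ ∘ (⇑σ ∘ x) = x := funext fun i => hσ _
    have key : σ (frm G σ x y) = (⇑σ ∘ (⇑σ ∘ x)) ⬝ᵥ (⇑σ ∘ (((G⁻¹ : GLn) : Mn) *ᵥ y)) := by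
      rw [frm]
      exact RingHom.map_dotProduct σ.toRingHom _ _
    rw [key, hxx, comp_mulVec, Matrix.dotProduct_mulVec, ← Matrix.mulVec_transpose, hH, dotProduct_comm]
    rfl
  · have h0 : (⇑σ ∘ x) ᵥ* ((G⁻¹ : GLn) : Mn) = 0 := funext fun j => by
      have := hx (Pi.single j 1)
      rw [frm, Matrix.dotProduct_mulVec] at this
      simpa using this
    have hsx : ⇑σ ∘ x = 0 := by
      have := congrArg (fun v => v ᵥ* (G : Mn)) h0
      simpa [Matrix.vecMul_vecMul] using this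
    funext i
    exact σ.injective ((congrFun hsx i).trans (map_zero σ).symm)

omit hσ h2 hG in
/-- The reflection matrix. -/
def reflMat (G : GLn) (σ : F ≃+* F) (w : Vn) : Mn :=
  1 - (2 / frm G σ w w) • vecMulVec w ((⇑σ ∘ w) ᵥ* ((G⁻¹ : GLn) : Mn))

omit hσ h2 hG in
theorem reflMat_mulVec (w x : Vn) : reflMat G σ w *ᵥ x = hrefl (frm G σ) w x := by
  have h : ((⇑σ ∘ w) ᵥ* ((G⁻¹ : GLn) : Mn)) ⬝ᵥ x = frm G σ w x := (Matrix.dotProduct_mulVec _ _ _).symm
  rw [reflMat, Matrix.sub_mulVec, Matrix.one_mulVec, Matrix.smul_mulVec, vecMulVec_mulVec', h, smul_smul, hrefl]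
  congr 2
  ring

theorem reflMat_mul_self {w : Vn} (hw : frm G σ w w ≠ 0) : reflMat G σ w * reflMat G σ w = 1 := by
  have hb := isHermForm_frm hσ h2 hG
  refine Matrix.mulVec_injective (funext fun x => ?_)
  show (reflMat G σ w * reflMat G σ w) *ᵥ x = (1 : Mn) *ᵥ x
  rw [← Matrix.mulVec_mulVec, reflMat_mulVec, reflMat_mulVec, Matrix.one_mulVec, hrefl, hrefl, hb.sub_right,
    hb.smul_right, div_mul_cancel₀ _ hw, sub_sub, ← add_smul,
    show 2 * frm G σ w x / frm G σ w w + 2 * (frm G σ w x - 2 * frm G σ w x) / frm G σ w w = 0 by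
      field_simp; ring, zero_smul, sub_zero]

omit hσ h2 hG in
/-- The reflection as an invertible matrix. -/
noncomputable def reflGL (G : GLn) (σ : F ≃+* F) (w : Vn) : GLn := by
  classical
  exact if h : reflMat G σ w * reflMat G σ w = 1 then ⟨reflMat G σ w, reflMat G σ w, h, h⟩ else 1

theorem coe_reflGL {w : Vn} (hw : frm G σ w w ≠ 0) : (reflGL G σ w : Mn) = reflMat G σ w := by
  rw [reflGL, dif_pos (reflMat_mul_self hσ h2 hG hw)]

theorem reflGL_mulVec {w : Vn} (hw : frm G σ w w ≠ 0) (x : Vn) :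
    (reflGL G σ w : Mn) *ᵥ x = hrefl (frm G σ) w x := by
  rw [coe_reflGL hσ h2 hG hw, reflMat_mulVec]

theorem reflGL_mul_self {w : Vn} (hw : frm G σ w w ≠ 0) : reflGL G σ w * reflGL G σ w = 1 := by
  apply Units.ext
  rw [Units.val_mul, coe_reflGL hσ h2 hG hw]
  exact reflMat_mul_self hσ h2 hG hw

theorem det_reflGL {w : Vn} (hw : frm G σ w w ≠ 0) : (reflGL G σ w : Mn).det = -1 := by
  rw [coe_reflGL hσ h2 hG hw, reflMat, sub_eq_add_neg, ← neg_smul, ← Matrix.smul_vecMulVec, vecMulVec_eq Unit,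
    det_one_add_replicateCol_mul_replicateRow, dotProduct_smul,
    show ((⇑σ ∘ w) ᵥ* ((G⁻¹ : GLn) : Mn)) ⬝ᵥ w = frm G σ w w from (Matrix.dotProduct_mulVec _ _ _).symm,
    smul_eq_mul, neg_mul, div_mul_cancel₀ _ hw]
  ring

theorem frm_hrefl {w : Vn} (hw : frm G σ w w ≠ 0) (x y : Vn) :
    frm G σ (hrefl (frm G σ) w x) (hrefl (frm G σ) w y) = frm G σ x y := by
  have hb := isHermForm_frm hσ h2 hG
  rw [hrefl, hrefl, hb.sub_left, hb.sub_right, hb.sub_right, hb.smul_left, hb.smul_left, hb.smul_right,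
    hb.smul_right, map_div₀, map_mul, map_ofNat, hb.fix_self, ← hb.symm]
  field_simp
  ring

theorem reflGL_commute_gph (hn : 2 ≤ n) {w : Vn} (hw : frm G σ w w ≠ 0) :
    conjAut (reflGL G σ w) * gph G σ = gph G σ * conjAut (reflGL G σ w) := by
  refine (conjAut_commute_gph hn G σ _).2 ⟨1, (gram_graphGL_iff G σ _ 1).1 ?_⟩
  rw [inv_one, Units.val_one]
  refine gram_of_frm _ 1 fun x y => ?_
  rw [reflGL_mulVec hσ h2 hG hw, reflGL_mulVec hσ h2 hG hw, frm_hrefl hσ h2 hG hw, one_mul]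

theorem reflGL_mem_centralizer (hn : 2 ≤ n) {w : Vn} (hw : frm G σ w w ≠ 0) :
    conjAut (reflGL G σ w) ∈ Cfsg.inndiagPSL n F ⊓ Subgroup.centralizer {gph G σ} :=
  ⟨conjAut_mem_inndiag _, Subgroup.mem_centralizer_singleton_iff.2 (reflGL_commute_gph hσ h2 hG hn hw)⟩

theorem reflGL_neg {w : Vn} (hw : frm G σ w w ≠ 0) : reflGL G σ (-w) = reflGL G σ w := by
  have hb := isHermForm_frm hσ h2 hG
  have hw' : frm G σ (-w) (-w) ≠ 0 := by rwa [hb.neg_left, hb.neg_right, neg_neg]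
  apply Units.ext
  refine Matrix.mulVec_injective (funext fun x => ?_)
  show (reflGL G σ (-w) : Mn) *ᵥ x = (reflGL G σ w : Mn) *ᵥ x
  rw [reflGL_mulVec hσ h2 hG hw', reflGL_mulVec hσ h2 hG hw, hrefl, hrefl, hb.neg_left, hb.neg_left, hb.neg_right,
    neg_neg, smul_neg, ← neg_smul, mul_neg, neg_div, neg_neg]

theorem similitude_mul_reflGL {h : GLn} {μ : F} (hμ : μ ≠ 0)
    (hh : ∀ x y, frm G σ ((h : Mn) *ᵥ x) ((h : Mn) *ᵥ y) = μ * frm G σ x y) {w : Vn} (hw : frm G σ w w ≠ 0) :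
    h * reflGL G σ w = reflGL G σ ((h : Mn) *ᵥ w) * h := by
  apply Units.ext
  refine Matrix.mulVec_injective (funext fun x => ?_)
  show ((h * reflGL G σ w : GLn) : Mn) *ᵥ x = ((reflGL G σ ((h : Mn) *ᵥ w) * h : GLn) : Mn) *ᵥ x
  rw [Units.val_mul, Units.val_mul, ← Matrix.mulVec_mulVec, ← Matrix.mulVec_mulVec, reflGL_mulVec hσ h2 hG hw,
    reflGL_mulVec hσ h2 hG (by rw [hh]; exact mul_ne_zero hμ hw), hrefl, hrefl, Matrix.mulVec_sub,
    Matrix.mulVec_smul, hh, hh]
  congr 2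
  field_simp

/-- A third vector orthogonal to two. -/
theorem exists_third_perp (hn : 3 ≤ n) {u v : Vn} (hu : frm G σ u u ≠ 0) (hv : frm G σ v v ≠ 0)
    (huv : frm G σ u v = 0) : ∃ w, frm G σ u w = 0 ∧ frm G σ v w = 0 ∧ frm G σ w w ≠ 0 := by
  have hb := isHermForm_frm hσ h2 hG
  obtain ⟨w, hw, hww⟩ := hb.exists_anis_perp ![u, v] (fun i => by fin_cases i <;> simp [hu, hv])
    (fun i j h => by fin_cases i <;> fin_cases j <;> simp [huv, hb.perp_symm huv] at h ⊢)
    (by rw [Module.finrank_fin_fun]; omega)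
  exact ⟨w, hw 0, hw 1, hww⟩

theorem conjAut_refl_pair_ne_one (hn : 3 ≤ n) {u v : Vn} (hu : frm G σ u u ≠ 0) (hv : frm G σ v v ≠ 0)
    (huv : frm G σ u v = 0) : (conjAut (reflGL G σ u * reflGL G σ v) : MulAut PSLn) ≠ 1 := by
  have hb := isHermForm_frm hσ h2 hG
  intro h
  obtain ⟨c, hc⟩ := exists_scalar_of_conjAut_eq_one (by omega) h
  obtain ⟨w, huw, hvw, hww⟩ := exists_third_perp hσ h2 hG hn hu hv huv
  have hsc : ∀ x, (c : F) • x = hrefl (frm G σ) u (hrefl (frm G σ) v x) := fun x => by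
    rw [← reflGL_mulVec hσ h2 hG hv, ← reflGL_mulVec hσ h2 hG hu, Matrix.mulVec_mulVec, ← Units.val_mul, hc,
      GeneralLinearGroup.coe_scalar, scalar_apply, ← smul_one_eq_diagonal, Matrix.smul_mulVec, Matrix.one_mulVec]
  have h1 := hsc w
  rw [hrefl, hrefl, hvw, mul_zero, zero_div, zero_smul, sub_zero, huw, mul_zero, zero_div, zero_smul,
    sub_zero] at h1
  have hw0 : w ≠ 0 := fun h0 => hww (by rw [h0, hb.zero_left])
  have hu0 : u ≠ 0 := fun h0 => hu (by rw [h0, hb.zero_left])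
  have hc1 : (c : F) = 1 := smul_left_injective F hw0 (h1.trans (one_smul F w).symm)
  have h3 := hsc u
  rw [hc1, one_smul, hrefl, hrefl, hb.perp_symm huv, mul_zero, zero_div, zero_smul, sub_zero, mul_div_assoc,
    div_self hu, mul_one] at h3
  have : (2 : F) • u = 0 := sub_eq_self.1 h3.symm
  exact (smul_ne_zero h2 hu0) this

/-- A nonzero isotropic vector. -/
theorem exists_isotropic [Fintype F] (hn : 3 ≤ n) : ∃ e : Vn, e ≠ 0 ∧ frm G σ e e = 0 := by
  classical
  have hb := isHermForm_frm hσ h2 hG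
  have hdim : Module.finrank F Vn = n := Module.finrank_fin_fun F
  obtain ⟨u, -, hu⟩ := hb.exists_anis_perp (k := 0) Fin.elim0 (fun i => i.elim0) (fun i => i.elim0) (by omega)
  obtain ⟨v, hv', hv⟩ := hb.exists_anis_perp ![u] (fun i => by fin_cases i; exact hu)
    (fun i j h => absurd (Subsingleton.elim i j) h) (by omega)
  have huv : frm G σ u v = 0 := hv' 0
  obtain ⟨w, huw, hvw, hw⟩ := exists_third_perp hσ h2 hG hn hu hv huv
  by_cases hσ1 : σ = 1
  · subst hσ1
    have hodd : Fintype.card F % 2 = 1 :=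
      FiniteField.odd_card_of_char_ne_two fun h => h2 (by
        haveI := ringChar.of_eq h
        exact CharTwo.two_eq_zero)
    obtain ⟨a, c, hac⟩ := FiniteField.exists_root_sum_quadratic
      (f := Polynomial.C (frm G 1 u u) * Polynomial.X ^ 2 + Polynomial.C (frm G 1 w w))
      (g := Polynomial.C (frm G 1 v v) * Polynomial.X ^ 2)
      (by
        rw [Polynomial.degree_add_C (by rw [Polynomial.degree_C_mul_X_pow 2 hu]; norm_num),
          Polynomial.degree_C_mul_X_pow 2 hu]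
        rfl)
      (by rw [Polynomial.degree_C_mul_X_pow 2 hv]; rfl) hodd
    simp at hac
    refine ⟨a • u + c • v + w, fun h0 => hw ?_, ?_⟩
    · have h1 := congrArg (frm G 1 w) h0
      rwa [hb.add_right, hb.add_right, hb.smul_right, hb.smul_right, hb.perp_symm huw, hb.perp_symm hvw,
        hb.zero_right, mul_zero, mul_zero, zero_add, zero_add] at h1
    · simp only [hb.add_left, hb.add_right, hb.smul_left, hb.smul_right, huv, huw, hvw, hb.perp_symm huv,
        hb.perp_symm huw, hb.perp_symm hvw, RingAut.one_apply]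
      linear_combination hac
  · have hσ2 : orderOf σ = 2 := orderOf_eq_prime (RingEquiv.ext fun a => by
      rw [pow_two, RingAut.mul_apply, hσ]; rfl) hσ1
    set k : F := -frm G σ v v / frm G σ u u with hk
    have hk0 : k ≠ 0 := div_ne_zero (neg_ne_zero.2 hv) hu
    have hkfix : mapUnits σ (Units.mk0 k hk0) = Units.mk0 k hk0 := by
      apply Units.ext
      rw [coe_mapUnits, Units.val_mk0, hk, map_div₀, map_neg, hb.fix_self, hb.fix_self]
    obtain ⟨z, hz⟩ := exists_tnorm_eq hσ2 (by norm_num) hkfix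
    have hz' : (z : F) * σ z = k := by
      have := congrArg Units.val hz
      simpa [tnorm_succ] using this
    refine ⟨(z : F) • u + v, fun h0 => hv ?_, ?_⟩
    · have h1 := congrArg (frm G σ v) h0
      rwa [hb.add_right, hb.smul_right, hb.perp_symm huv, hb.zero_right, mul_zero, zero_add] at h1
    · simp only [hb.add_left, hb.add_right, hb.smul_left, hb.smul_right, huv, hb.perp_symm huv]
      rw [show σ (z : F) * ((z : F) * frm G σ u u) = (z : F) * σ z * frm G σ u u by ring, hz', hk,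
        div_mul_cancel₀ _ hu]
      ring

/-- No nontrivial subgroup of odd order is normalised by the reflections. -/
theorem eq_bot_of_normalized [Fintype F] (hn : 3 ≤ n) (X : Subgroup (MulAut PSLn))
    (hX : X ≤ Cfsg.inndiagPSL n F ⊓ Subgroup.centralizer {gph G σ})
    (hnorm : ∀ c ∈ Cfsg.inndiagPSL n F ⊓ Subgroup.centralizer {gph G σ}, ∀ x ∈ X, c * x * c⁻¹ ∈ X)
    (hodd : ¬ 2 ∣ Nat.card X) : X = ⊥ := by
  classical
  have hb := isHermForm_frm hσ h2 hG
  have hn2 : 2 ≤ n := by omega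
  have hdim : 3 ≤ Module.finrank F Vn := by rw [Module.finrank_fin_fun]; exact hn
  rw [eq_bot_iff]
  intro x hx
  rw [Subgroup.mem_bot]
  have hxc := hX hx
  rw [inndiagPSL_eq_range] at hxc
  obtain ⟨⟨h, rfl⟩, hxc⟩ := hxc
  obtain ⟨c, hc⟩ := (conjAut_commute_gph hn2 G σ h).1 (Subgroup.mem_centralizer_singleton_iff.1 hxc)
  have hgram := (gram_graphGL_iff G σ h c).2 hc
  set μ : F := ((c⁻¹ : Fˣ) : F)
  have hμ : μ ≠ 0 := Units.ne_zero _
  have hh : ∀ a b, frm G σ ((h : Mn) *ᵥ a) ((h : Mn) *ᵥ b) = μ * frm G σ a b := fun a b => by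
    rw [frm_mulVec, hgram, Matrix.smul_mulVec, dotProduct_smul, smul_eq_mul]
    rfl
  let R : Vn → MulAut PSLn := fun w => conjAut (reflGL G σ w)
  have hR2 : ∀ {w : Vn}, frm G σ w w ≠ 0 → R w * R w = 1 := fun hw => by
    show conjAut _ * conjAut _ = 1
    rw [← map_mul, reflGL_mul_self hσ h2 hG hw, map_one]
  have hRi : ∀ {w : Vn}, frm G σ w w ≠ 0 → (R w)⁻¹ = R w := fun hw => inv_eq_of_mul_eq_one_right (hR2 hw)
  let Rel : Vn → Vn → Prop := fun a b => R a * R b ∈ X
  by_contra hne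
  -- the anisotropic vectors with an isotropic perpendicular are eigenvectors
  refine hne ?_
  obtain ⟨e₀, he₀, hee₀⟩ := exists_isotropic hσ h2 hG hn
  obtain ⟨-, a, ha⟩ := hb.eq_scalar_of_eigen hdim he₀ hee₀ 1 (fun v => (h : Mn) *ᵥ v)
    (fun a b => Matrix.mulVec_add _ a b) (fun a v => Matrix.mulVec_smul _ a v) (fun v hv => by
      have := congrArg (fun y => ((h⁻¹ : GLn) : Mn) *ᵥ y) hv
      simpa [Matrix.mulVec_mulVec] using this) (fun u e hu he hee hue => by
    have hhu : frm G σ ((h : Mn) *ᵥ u) ((h : Mn) *ᵥ u) ≠ 0 := by rw [hh]; exact mul_ne_zero hμ hu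
    have hRel : Rel u ((h : Mn) *ᵥ u) := by
      have h1 : R ((h : Mn) *ᵥ u) = conjAut h * R u * (conjAut h)⁻¹ := by
        show conjAut _ = conjAut h * conjAut _ * _
        rw [← map_inv, ← map_mul, ← map_mul, similitude_mul_reflGL hσ h2 hG hμ hh hu, mul_inv_cancel_right]
      have h3 : R u * conjAut h * (R u)⁻¹ ∈ X := hnorm _ (reflGL_mem_centralizer hσ h2 hG hn2 hu) _ hx
      show R u * R ((h : Mn) *ᵥ u) ∈ X
      rw [h1]
      have h4 := mul_mem h3 (inv_mem hx)
      have e5 : R u * (conjAut h * R u * (conjAut h)⁻¹) = R u * conjAut h * (R u)⁻¹ * (conjAut h)⁻¹ := by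
        rw [hRi hu]; group
      rw [e5]; exact h4
    have hhe0 : (h : Mn) *ᵥ e ≠ 0 := fun h0 => he (by
      have := congrArg (fun y => ((h⁻¹ : GLn) : Mn) *ᵥ y) h0
      simpa [Matrix.mulVec_mulVec] using this)
    obtain ⟨k, hk⟩ := hb.no_equivalence Rel
      (fun a b ha hb' hab => by
        have := inv_mem (show R a * R b ∈ X from hab)
        rwa [_root_.mul_inv_rev, hRi ha, hRi hb'] at this)
      (fun a b d _ hb' _ hab hbd => by
        have := mul_mem (show R a * R b ∈ X from hab) (show R b * R d ∈ X from hbd)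
        rwa [mul_assoc, ← mul_assoc (R b), hR2 hb', one_mul] at this)
      (fun a b _ hb' hab => by
        show R a * R (-b) ∈ X
        rwa [show R (-b) = R b from congrArg conjAut (reflGL_neg hσ h2 hG hb')])
      (fun w a b hw ha hb' hab => by
        have hiso : ∀ p q, frm G σ ((reflGL G σ w : Mn) *ᵥ p) ((reflGL G σ w : Mn) *ᵥ q) = 1 * frm G σ p q :=
          fun p q => by rw [reflGL_mulVec hσ h2 hG hw, reflGL_mulVec hσ h2 hG hw, frm_hrefl hσ h2 hG hw, one_mul]
        have hc' : ∀ {p : Vn}, frm G σ p p ≠ 0 → R (hrefl (frm G σ) w p) = R w * R p * (R w)⁻¹ := by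
          intro p hp
          show conjAut _ = conjAut _ * conjAut _ * (conjAut _)⁻¹
          rw [← map_inv, ← map_mul, ← map_mul, similitude_mul_reflGL hσ h2 hG one_ne_zero hiso hp,
            mul_inv_cancel_right, reflGL_mulVec hσ h2 hG hw]
        show R (hrefl (frm G σ) w a) * R (hrefl (frm G σ) w b) ∈ X
        rw [hc' ha, hc' hb']
        have := hnorm _ (reflGL_mem_centralizer hσ h2 hG hn2 hw) _ hab
        have e5 : R w * R a * (R w)⁻¹ * (R w * R b * (R w)⁻¹) = R w * (R a * R b) * (R w)⁻¹ := by group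
        rw [e5]; exact this)
      (fun a b ha hb' hab hrel => by
        have hcomm : reflGL G σ a * reflGL G σ b = reflGL G σ b * reflGL G σ a := by
          apply Units.ext
          refine Matrix.mulVec_injective (funext fun p => ?_)
          show ((reflGL G σ a * reflGL G σ b : GLn) : Mn) *ᵥ p = ((reflGL G σ b * reflGL G σ a : GLn) : Mn) *ᵥ p
          simp only [Units.val_mul, ← Matrix.mulVec_mulVec, reflGL_mulVec hσ h2 hG ha, reflGL_mulVec hσ h2 hG hb',
            hrefl, hb.sub_right, hb.smul_right, hab, hb.perp_symm hab, mul_zero, sub_zero]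
          abel
        have hsq : (R a * R b) ^ 2 = 1 := by
          show (conjAut _ * conjAut _) ^ 2 = 1
          rw [← map_mul, ← map_pow, pow_two, mul_assoc, ← mul_assoc (reflGL G σ b), ← hcomm,
            mul_assoc (reflGL G σ a), reflGL_mul_self hσ h2 hG hb', mul_one,
            reflGL_mul_self hσ h2 hG ha, map_one]
        have hne1 : R a * R b ≠ 1 := by
          show conjAut _ * conjAut _ ≠ 1
          rw [← map_mul]; exact conjAut_refl_pair_ne_one hσ h2 hG hn ha hb' hab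
        haveI : Fact (Nat.Prime 2) := ⟨Nat.prime_two⟩
        refine hodd ?_
        rw [← orderOf_eq_prime hsq hne1]
        exact Subgroup.orderOf_dvd_natCard X hrel)
      hu hhu hRel (show frm G σ ((h : Mn) *ᵥ u) ((h : Mn) *ᵥ e) = 0 by rw [hh, hue, mul_zero])
      (show frm G σ ((h : Mn) *ᵥ e) ((h : Mn) *ᵥ e) = 0 by rw [hh, hee, mul_zero]) hhe0
    have hk0 : k ≠ 0 := fun h0 => hu (by rw [hk, h0, zero_smul, hb.zero_left])
    exact ⟨k⁻¹, (eq_inv_smul_iff₀ hk0).2 hk.symm⟩)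
  refine conjAut_eq_one_of_center (mem_center_GL_of_scalar (c := a) (Matrix.mulVec_injective (funext fun v => ?_)))
  show (h : Mn) *ᵥ v = (a • (1 : Mn)) *ᵥ v
  rw [Matrix.smul_mulVec, Matrix.one_mulVec]
  exact ha v

/-- An automorphism of odd order commuting with the products of two reflections is trivial. -/
theorem eq_one_of_centralizes [Fintype F] (hn : 3 ≤ n) {c : MulAut PSLn} {j : ℕ} (hc : c ^ (2 * j + 1) = 1)
    (hcomm : ∀ u v, frm G σ u u ≠ 0 → frm G σ v v ≠ 0 → frm G σ u v = 0 →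
      c * conjAut (reflGL G σ u * reflGL G σ v) = conjAut (reflGL G σ u * reflGL G σ v) * c) : c = 1 := by
  classical
  have hb := isHermForm_frm hσ h2 hG
  have hn2 : 2 ≤ n := by omega
  have hdim : 3 ≤ Module.finrank F Vn := by rw [Module.finrank_fin_fun]; exact hn
  obtain ⟨k, τ, hkτ⟩ : ∃ (k : GLn) (τ : F ≃+* F), c ^ 2 = conjAut k * fieldAut τ := by
    obtain ⟨g, ρ, γ, hγ, rfl⟩ := exists_decomp hn2 c
    rcases hγ with rfl | ⟨-, rfl⟩
    · exact ⟨tnorm (mapGL ρ) g 2, ρ ^ 2, by rw [mul_one, conjAut_mul_fieldAut_pow]⟩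
    · refine ⟨g * graphGL ρ g, ρ ^ 2, ?_⟩
      rw [mul_assoc, pow_two, mul_assoc, ← mul_assoc (fieldAut ρ * invT : MulAut PSLn), fieldAut_invT_conjAut,
        mul_assoc, ← pow_two (fieldAut ρ * invT : MulAut PSLn), fieldAut_invT_pow_two, ← mul_assoc, ← map_mul]
  have hc4 : c ^ 4 = conjAut (k * mapGL τ k) * fieldAut (τ * τ) := by
    rw [show (4 : ℕ) = 2 + 2 from rfl, pow_add, hkτ, mul_assoc, ← mul_assoc (fieldAut τ : MulAut PSLn),
      fieldAut_conjAut, mul_assoc, ← map_mul fieldAut, ← mul_assoc, ← map_mul]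
  set k₄ := k * mapGL τ k
  set τ₄ := τ * τ
  have hexact : ∀ u v, frm G σ u u ≠ 0 → frm G σ v v ≠ 0 → frm G σ u v = 0 →
      k₄ * mapGL τ₄ (reflGL G σ u * reflGL G σ v) = reflGL G σ u * reflGL G σ v * k₄ := by
    intro u v hu hv huv
    set M := reflGL G σ u * reflGL G σ v
    have hM : M * M = 1 := by
      have hcomm' : reflGL G σ u * reflGL G σ v = reflGL G σ v * reflGL G σ u := by
        apply Units.ext
        refine Matrix.mulVec_injective (funext fun p => ?_)
        show ((reflGL G σ u * reflGL G σ v : GLn) : Mn) *ᵥ p = ((reflGL G σ v * reflGL G σ u : GLn) : Mn) *ᵥ p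
        simp only [Units.val_mul, ← Matrix.mulVec_mulVec, reflGL_mulVec hσ h2 hG hu, reflGL_mulVec hσ h2 hG hv,
          hrefl, hb.sub_right, hb.smul_right, huv, hb.perp_symm huv, mul_zero, sub_zero]
        abel
      show reflGL G σ u * reflGL G σ v * (reflGL G σ u * reflGL G σ v) = 1
      rw [mul_assoc, ← mul_assoc (reflGL G σ v), ← hcomm', mul_assoc (reflGL G σ u),
        reflGL_mul_self hσ h2 hG hv, mul_one, reflGL_mul_self hσ h2 hG hu]
    have h1 : c ^ 2 * conjAut M = conjAut M * c ^ 2 :=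
      ((show Commute c (conjAut M) from hcomm u v hu hv huv).pow_left 2).eq
    rw [hkτ, mul_assoc, fieldAut_conjAut, ← mul_assoc, ← mul_assoc, ← map_mul, ← map_mul, mul_left_inj,
      conjAut_eq_iff hn2] at h1
    obtain ⟨l, hl⟩ := h1
    have hsc : ∀ (z : Fˣ) (A : GLn), GeneralLinearGroup.scalar (Fin n) z * A = A * GeneralLinearGroup.scalar (Fin n) z :=
      fun z A => GeneralLinearGroup.scalar_commute z A
    -- hl : M * k = l • (k * τ M)
    have hl2 : l * l = 1 := by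
      have h5 : GeneralLinearGroup.scalar (Fin n) (l * l) * k = GeneralLinearGroup.scalar (Fin n) 1 * k := by
        rw [map_one, one_mul]
        calc GeneralLinearGroup.scalar (Fin n) (l * l) * k
            = GeneralLinearGroup.scalar (Fin n) (l * l) * (k * mapGL τ (M * M)) := by rw [hM, map_one, mul_one]
          _ = GeneralLinearGroup.scalar (Fin n) l * (GeneralLinearGroup.scalar (Fin n) l * (k * mapGL τ M)) *
              mapGL τ M := by rw [map_mul, map_mul]; simp only [mul_assoc]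
          _ = M * (GeneralLinearGroup.scalar (Fin n) l * (k * mapGL τ M)) := by
              rw [← hl, ← mul_assoc, hsc l M]; simp only [mul_assoc]; rw [hl]
          _ = k := by rw [← hl, ← mul_assoc, hM, one_mul]
      exact scalar_injective (by omega) (mul_right_cancel h5)
    have hτl : mapUnits τ l = l := by
      have h6 : (l : F) = 1 ∨ (l : F) = -1 := mul_self_eq_one_iff.1 (by rw [← Units.val_mul, hl2, Units.val_one])
      apply Units.ext
      rw [coe_mapUnits]
      rcases h6 with h6 | h6 <;> simp [h6]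
    show k * mapGL τ k * mapGL (τ * τ) M = M * (k * mapGL τ k)
    have h7 : mapGL (τ * τ) M = mapGL τ (mapGL τ M) := (DFunLike.congr_fun (map_mul (mapGL (ι := Fin n)) τ τ) M).trans rfl
    have h8 : k * mapGL τ M = GeneralLinearGroup.scalar (Fin n) l * (M * k) := by
      rw [hl, ← mul_assoc, ← map_mul, hl2, map_one, one_mul]
    rw [h7, mul_assoc, ← map_mul, h8, map_mul, map_mul, mapGL_scalar, hτl, ← mul_assoc, ← mul_assoc,
      ← hsc l k, mul_assoc (GeneralLinearGroup.scalar (Fin n) l), h8, ← mul_assoc (GeneralLinearGroup.scalar (Fin n) l),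
      ← map_mul, hl2, map_one, one_mul, mul_assoc]
  obtain ⟨e₀, he₀, hee₀⟩ := exists_isotropic hσ h2 hG hn
  let L : Vn → Vn := fun x => (k₄ : Mn) *ᵥ (⇑τ₄ ∘ x)
  have hLadd : ∀ x y, L (x + y) = L x + L y := fun x y => by
    show _ *ᵥ _ = _
    rw [show ⇑τ₄ ∘ (x + y) = ⇑τ₄ ∘ x + ⇑τ₄ ∘ y from funext fun i => map_add τ₄ _ _, Matrix.mulVec_add]
  have hLsmul : ∀ (a : F) x, L (a • x) = τ₄ a • L x := fun a x => by
    show _ *ᵥ _ = _
    rw [show ⇑τ₄ ∘ (a • x) = τ₄ a • (⇑τ₄ ∘ x) from funext fun i => map_mul τ₄ _ _, Matrix.mulVec_smul]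
  obtain ⟨hτ, a, ha⟩ := hb.eq_scalar_of_eigen hdim he₀ hee₀ τ₄ L hLadd hLsmul (fun x hx => by
    have h9 := congrArg (fun y => ((k₄⁻¹ : GLn) : Mn) *ᵥ y) hx
    simp only [L, Matrix.mulVec_mulVec, ← Units.val_mul, inv_mul_cancel, Units.val_one, Matrix.one_mulVec,
      Matrix.mulVec_zero] at h9
    funext i
    exact τ₄.injective ((congrFun h9 i).trans (map_zero τ₄).symm))
    (fun u e hu _ _ _ => hb.exists_eigen_of_commute hdim L (fun u v hu hv huv => by
      have h10 := congrArg (fun A : GLn => (A : Mn) *ᵥ (⇑τ₄ ∘ u)) (hexact u v hu hv huv)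
      have hMu : ((reflGL G σ u * reflGL G σ v : GLn) : Mn) *ᵥ u = -u := by
        rw [Units.val_mul, ← Matrix.mulVec_mulVec, reflGL_mulVec hσ h2 hG hv, reflGL_mulVec hσ h2 hG hu,
          hrefl, hrefl, hb.perp_symm huv, mul_zero, zero_div, zero_smul, sub_zero, mul_div_assoc, div_self hu,
          mul_one]
        module
      simp only [Units.val_mul, ← Matrix.mulVec_mulVec, coe_mapGL] at h10
      rw [← comp_mulVec, ← Units.val_mul, hMu, reflGL_mulVec hσ h2 hG hv, reflGL_mulVec hσ h2 hG hu] at h10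
      rw [← h10, show ⇑τ₄ ∘ (-u) = -(⇑τ₄ ∘ u) from funext fun i => map_neg τ₄ _, Matrix.mulVec_neg]) hu)
  have hc4' : c ^ 4 = 1 := by
    rw [hc4, hτ, map_one, mul_one]
    refine conjAut_eq_one_of_center (mem_center_GL_of_scalar (c := a) (Matrix.mulVec_injective (funext fun v => ?_)))
    show (k₄ : Mn) *ᵥ v = (a • (1 : Mn)) *ᵥ v
    rw [Matrix.smul_mulVec, Matrix.one_mulVec]
    have := ha v
    simp only [L, hτ] at this
    exact this
  have hord : orderOf c ∣ Nat.gcd (2 * j + 1) 4 :=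
    Nat.dvd_gcd (orderOf_dvd_of_pow_eq_one hc) (orderOf_dvd_of_pow_eq_one hc4')
  have hcop : Nat.gcd (2 * j + 1) 4 = 1 := by
    rw [show (4 : ℕ) = 2 ^ 2 from rfl]
    exact Nat.Coprime.pow_right 2 (Nat.coprime_two_right.2 ⟨j, rfl⟩)
  rw [hcop, Nat.dvd_one, orderOf_eq_one_iff] at hord
  exact hord

theorem conjAut_refl_pair_mem (hn : 2 ≤ n) {u v : Vn} (hu : frm G σ u u ≠ 0) (hv : frm G σ v v ≠ 0) :
    conjAut (reflGL G σ u * reflGL G σ v) ∈ Cfsg.Inn PSLn ⊓ Subgroup.centralizer {gph G σ} := by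
  constructor
  · have hdet : ((reflGL G σ u * reflGL G σ v : GLn) : Mn).det = 1 := by
      rw [Units.val_mul, Matrix.det_mul, det_reflGL hσ h2 hG hu, det_reflGL hσ h2 hG hv, neg_mul_neg, one_mul]
    refine ⟨QuotientGroup.mk (⟨((reflGL G σ u * reflGL G σ v : GLn) : Mn), hdet⟩ : Matrix.SpecialLinearGroup (Fin n) F), ?_⟩
    exact (conjAut_toGL _).symm.trans (congrArg conjAut (Units.ext rfl))
  · rw [map_mul]
    exact Subgroup.mul_mem _ (reflGL_mem_centralizer hσ h2 hG hn hu).2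
      (reflGL_mem_centralizer hσ h2 hG hn hv).2

end Herm

end Cfsg.Agent.Lib.AutPSL
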