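import Mathlib

/-!
Reflections of a nondegenerate hermitian or symmetric form in odd characteristic: there is no equivalence
relation on anisotropic lines, invariant under reflections, in which orthogonal lines are inequivalent,
except equality.
-/

set_option autoImplicit false

namespace Cfsg.Agent.Lib.AutPSL

variable {F V : Type*} [Field F] [AddCommGroup V] [Module F V]

/-- A nondegenerate form, linear in the second and `σ`-semilinear in the first variable, hermitian
with respect to the involution `σ` (symmetric for `σ = 1`). -/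
structure IsHermForm (σ : F ≃+* F) (b : V → V → F) : Prop where
  invol : ∀ a, σ (σ a) = a
  two_ne : (2 : F) ≠ 0
  add_right : ∀ x y z, b x (y + z) = b x y + b x z
  smul_right : ∀ (a : F) x y, b x (a • y) = a * b x y
  symm : ∀ x y, b y x = σ (b x y)
  nondeg : ∀ x, (∀ y, b x y = 0) → x = 0

/-- The reflection in an anisotropic vector. -/
def hrefl (b : V → V → F) (w x : V) : V := x - (2 * b w x / b w w) • w

namespace IsHermForm

variable {σ : F ≃+* F} {b : V → V → F} (hb : IsHermForm σ b)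

include hb

theorem add_left (x y z : V) : b (x + y) z = b x z + b y z := by
  rw [hb.symm z (x + y), hb.add_right, map_add, ← hb.symm, ← hb.symm]

theorem smul_left (a : F) (x y : V) : b (a • x) y = σ a * b x y := by
  rw [hb.symm y (a • x), hb.smul_right, map_mul, ← hb.symm]

theorem zero_right (x : V) : b x 0 = 0 := by
  simpa using hb.smul_right 0 x 0

theorem zero_left (x : V) : b 0 x = 0 := by
  rw [hb.symm x 0, hb.zero_right, map_zero]

theorem neg_right (x y : V) : b x (-y) = -b x y := by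
  rw [← neg_one_smul F y, hb.smul_right, neg_one_mul]

theorem neg_left (x y : V) : b (-x) y = -b x y := by
  rw [hb.symm y (-x), hb.neg_right, map_neg, ← hb.symm]

theorem sub_right (x y z : V) : b x (y - z) = b x y - b x z := by
  rw [sub_eq_add_neg, hb.add_right, hb.neg_right, sub_eq_add_neg]

theorem sub_left (x y z : V) : b (x - y) z = b x z - b y z := by
  rw [sub_eq_add_neg, hb.add_left, hb.neg_left, sub_eq_add_neg]

theorem perp_symm {x y : V} (h : b x y = 0) : b y x = 0 := by
  rw [hb.symm x y, h, map_zero]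

theorem fix_self (x : V) : σ (b x x) = b x x := (hb.symm x x).symm

theorem sum_right {ι : Type*} (s : Finset ι) (x : V) (y : ι → V) :
    b x (∑ i ∈ s, y i) = ∑ i ∈ s, b x (y i) := by
  classical
  induction s using Finset.induction_on with
  | empty => simp [hb.zero_right]
  | insert i s hi ih => rw [Finset.sum_insert hi, Finset.sum_insert hi, hb.add_right, ih]

/-- Projection to the orthogonal complement of finitely many orthogonal anisotropic vectors. -/
theorem exists_proj {k : ℕ} (u : Fin k → V) (hu : ∀ i, b (u i) (u i) ≠ 0)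
    (horth : ∀ i j, i ≠ j → b (u i) (u j) = 0) (x : V) :
    ∃ (c : Fin k → F), (∀ i, b (u i) (x - ∑ j, c j • u j) = 0) := by
  refine ⟨fun i => b (u i) x / b (u i) (u i), fun i => ?_⟩
  rw [hb.sub_right, hb.sum_right, Finset.sum_eq_single i, hb.smul_right, div_mul_cancel₀ _ (hu i), sub_self]
  · intro j _ hj
    rw [hb.smul_right, horth i j hj.symm, mul_zero]
  · intro h
    exact absurd (Finset.mem_univ i) h

/-- An anisotropic vector orthogonal to fewer than `dim` orthogonal anisotropic vectors. -/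
theorem exists_anis_perp [FiniteDimensional F V] {k : ℕ} (u : Fin k → V) (hu : ∀ i, b (u i) (u i) ≠ 0)
    (horth : ∀ i j, i ≠ j → b (u i) (u j) = 0) (hk : k < Module.finrank F V) :
    ∃ w, (∀ i, b (u i) w = 0) ∧ b w w ≠ 0 := by
  obtain ⟨x, hx⟩ : ∃ x : V, x ∉ Submodule.span F (Set.range u) := by
    by_contra h
    push Not at h
    have h1 : Submodule.span F (Set.range u) = ⊤ := eq_top_iff.2 fun x _ => h x
    have h2 := finrank_range_le_card (R := F) u
    rw [Set.finrank, h1, finrank_top, Fintype.card_fin] at h2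
    omega
  obtain ⟨c, hc⟩ := hb.exists_proj u hu horth x
  set y := x - ∑ j, c j • u j
  have hy : y ≠ 0 := fun h0 => hx (by
    rw [sub_eq_zero.1 h0]
    exact Submodule.sum_mem _ fun j _ => Submodule.smul_mem _ _ (Submodule.subset_span ⟨j, rfl⟩))
  obtain ⟨z₀, hz₀⟩ : ∃ z, b y z ≠ 0 := by
    by_contra h
    push Not at h
    exact hy (hb.nondeg y h)
  obtain ⟨d, hd⟩ := hb.exists_proj u hu horth z₀
  set z := z₀ - ∑ j, d j • u j
  have hyz : b y z ≠ 0 := by
    rw [hb.sub_right, hb.sum_right, Finset.sum_eq_zero, sub_zero]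
    · exact hz₀
    · intro j _
      rw [hb.smul_right, hb.perp_symm (hc j), mul_zero]
  by_cases hyy : b y y = 0
  · by_cases hzz : b z z = 0
    · refine ⟨y + (b y z)⁻¹ • z, fun i => by rw [hb.add_right, hb.smul_right, hc i, hd i, mul_zero, add_zero], ?_⟩
      rw [hb.add_left, hb.add_right, hb.add_right, hb.smul_right, hb.smul_right, hb.smul_left, hb.smul_left, hyy,
        hzz, inv_mul_cancel₀ hyz, hb.symm y z, ← map_mul, inv_mul_cancel₀ hyz, map_one]
      simpa [one_add_one_eq_two] using hb.two_ne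
    · exact ⟨z, hd, hzz⟩
  · exact ⟨y, hc, hyy⟩

/-- A hyperbolic partner of an isotropic vector, orthogonal to a given anisotropic one. -/
theorem exists_partner {v e : V} (hv : b v v ≠ 0) (hve : b v e = 0) (hee : b e e = 0) (he : e ≠ 0) :
    ∃ f, b v f = 0 ∧ b f f = 0 ∧ b e f = 1 := by
  obtain ⟨y₀, hy₀⟩ : ∃ y, b e y ≠ 0 := by
    by_contra h
    push Not at h
    exact he (hb.nondeg e h)
  obtain ⟨y₁, hy₁⟩ : ∃ z, z = y₀ - (b v y₀ / b v v) • v := ⟨_, rfl⟩
  have hvy : b v y₁ = 0 := by rw [hy₁, hb.sub_right, hb.smul_right, div_mul_cancel₀ _ hv, sub_self]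
  have hey : b e y₁ ≠ 0 := by
    rwa [hy₁, hb.sub_right, hb.smul_right, hb.perp_symm hve, mul_zero, sub_zero]
  obtain ⟨y, hy⟩ : ∃ z, z = (b e y₁)⁻¹ • y₁ := ⟨_, rfl⟩
  have hey1 : b e y = 1 := by rw [hy, hb.smul_right, inv_mul_cancel₀ hey]
  refine ⟨y - (b y y / 2) • e, ?_, ?_, ?_⟩
  · rw [hb.sub_right, hb.smul_right, hve, mul_zero, sub_zero, hy, hb.smul_right, hvy, mul_zero]
  · rw [hb.sub_left, hb.sub_right, hb.sub_right, hb.smul_left, hb.smul_left, hb.smul_right, hb.smul_right, hee,
      hey1, hb.symm e y, hey1, map_one, map_div₀, hb.fix_self, map_ofNat]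
    have := hb.two_ne
    field_simp
    ring
  · rw [hb.sub_right, hb.smul_right, hee, mul_zero, sub_zero, hey1]

/-- An isotropic vector orthogonal to `v` and not to `u`. -/
theorem exists_isotropic_not_perp {v e u : V} (hv : b v v ≠ 0) (hve : b v e = 0) (hee : b e e = 0) (he : e ≠ 0)
    (hu : ∀ c : F, u ≠ c • v) : ∃ p, b v p = 0 ∧ b p p = 0 ∧ b u p ≠ 0 := by
  obtain ⟨f, hvf, hff, hef⟩ := hb.exists_partner hv hve hee he
  by_cases hue : b u e ≠ 0
  · exact ⟨e, hve, hee, hue⟩
  by_cases huf : b u f ≠ 0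
  · exact ⟨f, hvf, hff, huf⟩
  push Not at hue huf
  obtain ⟨u', hu'⟩ : ∃ z, z = u - (b v u / b v v) • v := ⟨_, rfl⟩
  have hu'0 : u' ≠ 0 := fun h => hu _ (sub_eq_zero.1 (hu'.symm.trans h))
  obtain ⟨y₀, hy₀⟩ : ∃ y, b u' y ≠ 0 := by
    by_contra h
    push Not at h
    exact hu'0 (hb.nondeg u' h)
  have hu'v : b u' v = 0 := by
    refine hb.perp_symm ?_
    rw [hu', hb.sub_right, hb.smul_right, div_mul_cancel₀ _ hv, sub_self]
  have hu'e : b u' e = 0 := by rw [hu', hb.sub_left, hb.smul_left, hue, hve, mul_zero, sub_zero]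
  have hu'f : b u' f = 0 := by rw [hu', hb.sub_left, hb.smul_left, huf, hvf, mul_zero, sub_zero]
  obtain ⟨y, hy⟩ : ∃ z, z = y₀ - (b v y₀ / b v v) • v - b f y₀ • e - b e y₀ • f := ⟨_, rfl⟩
  have hfe : b f e = 1 := by rw [hb.symm e f, hef, map_one]
  have hvy : b v y = 0 := by
    rw [hy, hb.sub_right, hb.sub_right, hb.sub_right, hb.smul_right, hb.smul_right, hb.smul_right, hve, hvf,
      div_mul_cancel₀ _ hv]
    ring
  have hey : b e y = 0 := by
    rw [hy, hb.sub_right, hb.sub_right, hb.sub_right, hb.smul_right, hb.smul_right, hb.smul_right, hee, hef,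
      hb.perp_symm hve]
    ring
  have hfy : b f y = 0 := by
    rw [hy, hb.sub_right, hb.sub_right, hb.sub_right, hb.smul_right, hb.smul_right, hb.smul_right, hff, hfe,
      hb.perp_symm hvf]
    ring
  have hu'y : b u' y = b u' y₀ := by
    rw [hy, hb.sub_right, hb.sub_right, hb.sub_right, hb.smul_right, hb.smul_right, hb.smul_right, hu'v, hu'e,
      hu'f]
    ring
  have huy : b u y = b u' y := by rw [hu', hb.sub_left, hb.smul_left, hvy, mul_zero, sub_zero]
  refine ⟨e + y + (-(b y y) / 2) • f, ?_, ?_, ?_⟩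
  · rw [hb.add_right, hb.add_right, hb.smul_right, hve, hvy, hvf]; ring
  · simp only [hb.add_left, hb.add_right, hb.smul_left, hb.smul_right, hee, hey, hef, hfe, hff, hfy,
      hb.perp_symm hey, hb.perp_symm hfy, map_div₀, map_neg, hb.fix_self, map_ofNat]
    have := hb.two_ne
    field_simp
    ring
  · rw [hb.add_right, hb.add_right, hb.smul_right, hue, huf, huy, hu'y]
    simpa using hy₀

/-- The key: reflection invariant equivalences without orthogonal pairs. -/
theorem no_equivalence (R : V → V → Prop)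
    (hsymm : ∀ x y, b x x ≠ 0 → b y y ≠ 0 → R x y → R y x)
    (htrans : ∀ x y z, b x x ≠ 0 → b y y ≠ 0 → b z z ≠ 0 → R x y → R y z → R x z)
    (hneg : ∀ x y, b x x ≠ 0 → b y y ≠ 0 → R x y → R x (-y))
    (hrefl' : ∀ w x y, b w w ≠ 0 → b x x ≠ 0 → b y y ≠ 0 → R x y → R (hrefl b w x) (hrefl b w y))
    (hperp : ∀ x y, b x x ≠ 0 → b y y ≠ 0 → b x y = 0 → ¬ R x y)
    {u v e : V} (huu : b u u ≠ 0) (hvv : b v v ≠ 0) (hR : R u v)
    (hve : b v e = 0) (hee : b e e = 0) (he : e ≠ 0) : ∃ c : F, u = c • v := by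
  by_contra hu
  push Not at hu
  have step : ∀ d, b v d = 0 → b d d = 0 → d ≠ 0 → ¬ R v (v + d) := by
    intro d hvd hdd hd hRd
    obtain ⟨f, hvf, hff, hdf⟩ := hb.exists_partner hvv hvd hdd hd
    have hfd : b f d = 1 := by rw [hb.symm d f, hdf, map_one]
    obtain ⟨w, hw⟩ : ∃ z, z = d + b v v • f := ⟨_, rfl⟩
    have hwv : b w v = 0 := by
      rw [hw, hb.add_left, hb.smul_left, hb.perp_symm hvd, hb.perp_symm hvf]; ring
    have hwd : b w d = b v v := by rw [hw, hb.add_left, hb.smul_left, hdd, hfd, hb.fix_self]; ring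
    have hww : b w w = 2 * b v v := by
      conv_lhs => rw [hw]
      rw [hb.add_left, hb.add_right, hb.add_right, hb.smul_left, hb.smul_right, hb.smul_left, hb.smul_right,
        hdd, hff, hdf, hfd, hb.fix_self]
      ring
    have hww0 : b w w ≠ 0 := by rw [hww]; exact mul_ne_zero hb.two_ne hvv
    have hvd' : b (v + d) (v + d) ≠ 0 := by
      rw [hb.add_left, hb.add_right, hb.add_right, hvd, hb.perp_symm hvd, hdd]; simpa using hvv
    have h1 : hrefl b w v = v := by rw [hrefl, hwv, mul_zero, zero_div, zero_smul, sub_zero]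
    have h2 : hrefl b w (v + d) = v - b v v • f := by
      rw [hrefl, hb.add_right, hwv, hwd, zero_add, hww, div_self (mul_ne_zero hb.two_ne hvv), one_smul, hw]
      abel
    have h3 := hrefl' w v (v + d) hww0 hvv hvd' hRd
    rw [h1, h2] at h3
    have hn : b (v - b v v • f) (v - b v v • f) ≠ 0 := by
      rw [hb.sub_left, hb.sub_right, hb.sub_right, hb.smul_right, hb.smul_left, hb.smul_left, hb.smul_right, hvf,
        hb.perp_symm hvf, hff]
      simpa using hvv
    refine hperp (v + d) (v - b v v • f) hvd' hn ?_ (htrans _ _ _ hvd' hvv hn (hsymm _ _ hvv hvd' hRd) h3)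
    rw [hb.add_left, hb.sub_right, hb.sub_right, hb.smul_right, hb.smul_right, hvf, hdf, hb.perp_symm hvd]
    ring
  obtain ⟨p₀, hvp₀, hpp₀, hup₀⟩ := hb.exists_isotropic_not_perp hvv hve hee he hu
  have huv : b u v ≠ 0 := fun h => hperp u v huu hvv h hR
  obtain ⟨p, hp⟩ : ∃ z, z = (b u v / b u p₀) • p₀ := ⟨_, rfl⟩
  have hvp : b v p = 0 := by rw [hp, hb.smul_right, hvp₀, mul_zero]
  have hpp : b p p = 0 := by rw [hp, hb.smul_left, hb.smul_right, hpp₀, mul_zero, mul_zero]
  have hup : b u p = b u v := by rw [hp, hb.smul_right, div_mul_cancel₀ _ hup₀]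
  obtain ⟨w, hw⟩ : ∃ z, z = v - p := ⟨_, rfl⟩
  have hwv : b w v = b v v := by rw [hw, hb.sub_left, hb.perp_symm hvp, sub_zero]
  have hww : b w w = b v v := by
    rw [hw, hb.sub_left, hb.sub_right, hb.sub_right, hvp, hb.perp_symm hvp, hpp]; ring
  have hww0 : b w w ≠ 0 := by rwa [hww]
  have huw : b w u = 0 := hb.perp_symm (by rw [hw, hb.sub_right, hup, sub_self])
  have h1 : hrefl b w u = u := by rw [hrefl, huw, mul_zero, zero_div, zero_smul, sub_zero]
  have h2 : hrefl b w v = v - (2 : F) • w := by rw [hrefl, hwv, hww, mul_div_assoc, div_self hvv, mul_one]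
  have h3 := hrefl' w u v hww0 huu hvv hR
  rw [h1, h2] at h3
  have hneg2 : -(v - (2 : F) • w) = v + (-2 : F) • p := by rw [hw]; module
  have hn1 : b (v - (2 : F) • w) (v - (2 : F) • w) ≠ 0 := by
    rw [hb.sub_left, hb.sub_right, hb.sub_right, hb.smul_right, hb.smul_left, hb.smul_left, hb.smul_right, hwv,
      hww, hb.symm w v, hwv, hb.fix_self, map_ofNat]
    ring_nf
    exact hvv
  have hn2 : b (v + (-2 : F) • p) (v + (-2 : F) • p) ≠ 0 := by
    rw [← hneg2, hb.neg_left, hb.neg_right, neg_neg]; exact hn1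
  have h4 : R u (v + (-2 : F) • p) := hneg2 ▸ hneg _ _ huu hn1 h3
  refine step _ ?_ ?_ ?_ (htrans _ _ _ hvv huu hn2 (hsymm _ _ huu hvv hR) h4)
  · rw [hb.smul_right, hvp, mul_zero]
  · rw [hb.smul_left, hb.smul_right, hpp, mul_zero, mul_zero]
  · refine smul_ne_zero (neg_ne_zero.2 hb.two_ne) fun h0 => huv ?_
    rw [← hup, h0, hb.zero_right]

/-- A semilinear map fixing the anisotropic lines which have an isotropic orthogonal vector is scalar. -/
theorem eq_scalar_of_eigen [FiniteDimensional F V] (hdim : 3 ≤ Module.finrank F V) {e₀ : V} (he₀ : e₀ ≠ 0)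
    (hee₀ : b e₀ e₀ = 0) (τ : F ≃+* F) (L : V → V) (hadd : ∀ x y, L (x + y) = L x + L y)
    (hsmul : ∀ (a : F) x, L (a • x) = τ a • L x) (hinj : ∀ x, L x = 0 → x = 0)
    (heig : ∀ u e, b u u ≠ 0 → e ≠ 0 → b e e = 0 → b u e = 0 → ∃ a : F, L u = a • u) :
    τ = 1 ∧ ∃ a : F, ∀ x, L x = a • x := by
  -- an anisotropic vector orthogonal to an isotropic one
  have key : ∀ u e, b u u ≠ 0 → e ≠ 0 → b e e = 0 → b u e = 0 →
      ∃ a : F, a ≠ 0 ∧ L u = a • u ∧ L e = a • e ∧ τ = 1 := by
    intro u e hu he hee hue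
    obtain ⟨a, ha⟩ := heig u e hu he hee hue
    have hind : ∀ x y : F, x • u + y • e = 0 → x = 0 ∧ y = 0 := by
      intro x y h
      have hx : x = 0 := by
        have h1 := congrArg (b u) h
        rw [hb.add_right, hb.smul_right, hb.smul_right, hue, hb.zero_right, mul_zero, add_zero, mul_eq_zero] at h1
        exact h1.resolve_right hu
      refine ⟨hx, ?_⟩
      rw [hx, zero_smul, zero_add, smul_eq_zero] at h
      exact h.resolve_right he
    have ha0 : a ≠ 0 := fun h0 => hu (by
      rw [hinj u (by rw [ha, h0, zero_smul]), hb.zero_left])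
    have hline : ∀ t : F, ∃ c : F, τ t • L e = (c - a) • u + (c * t) • e := by
      intro t
      obtain ⟨c, hc⟩ := heig (u + t • e) e (by
        rw [hb.add_left, hb.add_right, hb.add_right, hb.smul_left, hb.smul_left, hb.smul_right, hb.smul_right,
          hee, hue, hb.perp_symm hue]; simpa using hu) he hee (by
        rw [hb.add_left, hb.smul_left, hue, hee, mul_zero, add_zero])
      refine ⟨c, ?_⟩
      rw [hadd, hsmul, ha] at hc
      linear_combination (norm := module) hc
    obtain ⟨c₁, h1⟩ := hline 1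
    obtain ⟨c₂, h2⟩ := hline (-1)
    rw [map_one, one_smul, mul_one] at h1
    rw [map_neg, map_one, h1] at h2
    have h3 := hind (-(c₁ - a) - (c₂ - a)) (-c₁ + c₂) (by
      linear_combination (norm := module) h2)
    have hc : c₁ = a := by
      have h4 : (2 : F) * (c₁ - a) = 0 := by linear_combination (-1 : F) * h3.1 - h3.2
      exact sub_eq_zero.1 ((mul_eq_zero.1 h4).resolve_left hb.two_ne)
    rw [hc, sub_self, zero_smul, zero_add] at h1
    refine ⟨a, ha0, ha, h1, RingEquiv.ext fun t => ?_⟩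
    obtain ⟨c, hc'⟩ := hline t
    rw [h1] at hc'
    have h5 := hind (c - a) (c * t - τ t * a) (by linear_combination (norm := module) -hc')
    have : τ t * a = t * a := by linear_combination t * h5.1 - h5.2
    exact mul_right_cancel₀ ha0 this
  obtain ⟨v, hv, hvv⟩ := hb.exists_anis_perp (k := 0) Fin.elim0 (fun i => i.elim0) (fun i => i.elim0) (by omega)
  clear hv
  -- a hyperbolic pair with an anisotropic vector in its complement
  obtain ⟨y, hy⟩ : ∃ y, b e₀ y ≠ 0 := by
    by_contra h
    push Not at h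
    exact he₀ (hb.nondeg e₀ h)
  obtain ⟨y₁, hy₁⟩ : ∃ z, z = (b e₀ y)⁻¹ • y := ⟨_, rfl⟩
  obtain ⟨f, hf⟩ : ∃ z, z = y₁ - (b y₁ y₁ / 2) • e₀ := ⟨_, rfl⟩
  have hey₁ : b e₀ y₁ = 1 := by rw [hy₁, hb.smul_right, inv_mul_cancel₀ hy]
  have hef : b e₀ f = 1 := by rw [hf, hb.sub_right, hb.smul_right, hee₀, mul_zero, sub_zero, hey₁]
  have hfe : b f e₀ = 1 := by rw [hb.symm e₀ f, hef, map_one]
  have hff : b f f = 0 := by
    rw [hf, hb.sub_left, hb.sub_right, hb.sub_right, hb.smul_left, hb.smul_left, hb.smul_right, hb.smul_right,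
      hee₀, hey₁, hb.symm e₀ y₁, hey₁, map_one, map_div₀, hb.fix_self, map_ofNat]
    have := hb.two_ne
    field_simp
    ring
  have hf0 : f ≠ 0 := fun h => one_ne_zero (by rw [← hef, h, hb.zero_right])
  obtain ⟨p, hp⟩ : ∃ z, z = e₀ + f := ⟨_, rfl⟩
  obtain ⟨q, hq⟩ : ∃ z, z = e₀ - f := ⟨_, rfl⟩
  have hpp : b p p = 2 := by rw [hp, hb.add_left, hb.add_right, hb.add_right, hee₀, hff, hef, hfe]; ring
  have hqq : b q q = -2 := by rw [hq, hb.sub_left, hb.sub_right, hb.sub_right, hee₀, hff, hef, hfe]; ring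
  have hpq : b p q = 0 := by rw [hp, hq, hb.add_left, hb.sub_right, hb.sub_right, hee₀, hff, hef, hfe]; ring
  obtain ⟨g, hg, hgg⟩ := hb.exists_anis_perp ![p, q]
    (fun i => by fin_cases i <;> simp [hpp, hqq, hb.two_ne])
    (fun i j h => by fin_cases i <;> fin_cases j <;> simp [hpq, hb.perp_symm hpq] at h ⊢) (by omega)
  have hgp : b p g = 0 := hg 0
  have hgq : b q g = 0 := hg 1
  rw [hp, hb.add_left] at hgp
  rw [hq, hb.sub_left] at hgq
  have heg : b e₀ g = 0 := (mul_eq_zero.1 (show (2 : F) * b e₀ g = 0 by linear_combination hgp + hgq)).resolve_left hb.two_ne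
  have hfg : b f g = 0 := (mul_eq_zero.1 (show (2 : F) * b f g = 0 by linear_combination hgp - hgq)).resolve_left hb.two_ne
  obtain ⟨a, ha0, hga, hea, hτ⟩ := key g e₀ hgg he₀ hee₀ (hb.perp_symm heg)
  obtain ⟨a', -, hga', hfa, -⟩ := key g f hgg hf0 hff (hb.perp_symm hfg)
  have haa : a' = a := by
    have h1 := congrArg (b g) (hga'.symm.trans hga)
    rw [hb.smul_right, hb.smul_right] at h1
    exact mul_right_cancel₀ hgg h1
  rw [haa] at hfa
  have hsm : ∀ (c : F) x, L (c • x) = c • L x := fun c x => by rw [hsmul, hτ]; rfl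
  have hperp : ∀ w, b e₀ w = 0 → b f w = 0 → L w = a • w := by
    have hanis : ∀ w, b e₀ w = 0 → b f w = 0 → b w w ≠ 0 → L w = a • w := by
      intro w hew _ hww
      obtain ⟨a'', -, hwa, hea', -⟩ := key w e₀ hww he₀ hee₀ (hb.perp_symm hew)
      rw [hwa, smul_left_injective F he₀ (hea'.symm.trans hea)]
    intro w hew hfw
    by_cases hww : b w w ≠ 0
    · exact hanis w hew hfw hww
    push Not at hww
    by_cases h1 : b (w + g) (w + g) ≠ 0
    · have h2 := hanis (w + g) (by rw [hb.add_right, hew, heg, add_zero]) (by rw [hb.add_right, hfw, hfg, add_zero]) h1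
      rw [hadd, hga, smul_add] at h2
      exact add_right_cancel h2
    · push Not at h1
      have h2 := hanis (w - g) (by rw [hb.sub_right, hew, heg, sub_zero]) (by rw [hb.sub_right, hfw, hfg, sub_zero]) (by
        rw [hb.add_left, hb.add_right, hb.add_right, hww, zero_add] at h1
        rw [hb.sub_left, hb.sub_right, hb.sub_right, hww]
        intro h3
        exact mul_ne_zero hb.two_ne hgg (by linear_combination h1 + h3))
      have h3 : L w = L (w - g) + L g := by rw [← hadd, sub_add_cancel]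
      rw [h3, h2, hga, ← smul_add, sub_add_cancel]
  refine ⟨hτ, a, fun x => ?_⟩
  obtain ⟨w, hw⟩ : ∃ z, z = x - b f x • e₀ - b e₀ x • f := ⟨_, rfl⟩
  have hwa := hperp w (by rw [hw, hb.sub_right, hb.sub_right, hb.smul_right, hb.smul_right, hee₀, hef]; ring)
    (by rw [hw, hb.sub_right, hb.sub_right, hb.smul_right, hb.smul_right, hff, hfe]; ring)
  have hx : x = w + b f x • e₀ + b e₀ x • f := by rw [hw]; abel
  conv_lhs => rw [hx]
  conv_rhs => rw [hx]
  rw [hadd, hadd, hsm, hsm, hea, hfa, hwa]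
  module

/-- A semilinear map commuting with the products of two orthogonal reflections fixes anisotropic lines. -/
theorem exists_eigen_of_commute [FiniteDimensional F V] (hdim : 3 ≤ Module.finrank F V) (L : V → V)
    (hcomm : ∀ u v, b u u ≠ 0 → b v v ≠ 0 → b u v = 0 →
      hrefl b u (hrefl b v (L u)) = -L u) {u : V} (hu : b u u ≠ 0) : ∃ a : F, L u = a • u := by
  obtain ⟨v, hv, hvv⟩ := hb.exists_anis_perp ![u] (fun i => by fin_cases i; exact hu)
    (fun i j h => absurd (Subsingleton.elim i j) h) (by omega)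
  have huv : b u v = 0 := hv 0
  obtain ⟨w, hw, hww⟩ := hb.exists_anis_perp ![u, v]
    (fun i => by fin_cases i <;> simp [hu, hvv])
    (fun i j h => by fin_cases i <;> fin_cases j <;> simp [huv, hb.perp_symm huv] at h ⊢) (by omega)
  have huw : b u w = 0 := hw 0
  have hvw : b v w = 0 := hw 1
  have expand : ∀ z, b z z ≠ 0 → b u z = 0 →
      L u = (b u (L u) / b u u) • u + (b z (L u) / b z z) • z := by
    intro z hz huz
    have h := hcomm u z hu hz huz
    simp only [hrefl, hb.sub_right, hb.smul_right, huz, mul_zero, sub_zero] at h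
    have := hb.two_ne
    linear_combination (norm := skip) ((2 : F)⁻¹) • h
    match_scalars <;> field_simp <;> ring
  have h1 := expand v hvv huv
  have h2 := expand w hww huw
  have h3 : b v (L u) = 0 := by
    rw [h2, hb.add_right, hb.smul_right, hb.smul_right, hb.perp_symm huv, hvw]; ring
  rw [h3, zero_div, zero_smul, add_zero] at h1
  exact ⟨_, h1⟩

end IsHermForm

end Cfsg.Agent.Lib.AutPSL
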