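import Cfsg.Agent.Lib.AutPSL.Basic

/-!
Transvection root subgroups of `PSL_n(F)` and the incidence relation between them.
-/

set_option autoImplicit false

namespace Cfsg.Agent.Lib.AutPSL

open Matrix
open scoped MatrixGroups

variable {n : ℕ} {F : Type*} [Field F]

local notation "SLn" => Matrix.SpecialLinearGroup (Fin n) F
local notation "PSLn" => Matrix.ProjectiveSpecialLinearGroup (Fin n) F

/-- The transvection `1 + v f` (the identity when `f v ≠ 0`). -/
noncomputable def tv (v f : Fin n → F) : SLn := by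
  classical
  exact if h : f ⬝ᵥ v = 0 then
    ⟨1 + vecMulVec v f, by
      rw [vecMulVec_eq Unit, det_one_add_replicateCol_mul_replicateRow, h, add_zero]⟩
  else 1

theorem coe_tv {v f : Fin n → F} (h : f ⬝ᵥ v = 0) :
    ((tv v f : SLn) : Matrix (Fin n) (Fin n) F) = 1 + vecMulVec v f := by
  classical
  classical
  have he : (tv v f : SLn) = ⟨1 + vecMulVec v f, by
      rw [vecMulVec_eq Unit, det_one_add_replicateCol_mul_replicateRow, h, add_zero]⟩ := dif_pos h
  rw [he]

/-- A valid pair: a non-zero vector and a non-zero functional vanishing on it. -/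
structure IsPair (v f : Fin n → F) : Prop where
  ne_v : v ≠ 0
  ne_f : f ≠ 0
  orth : f ⬝ᵥ v = 0

theorem IsPair.smul {v f : Fin n → F} (h : IsPair v f) {a b : F} (ha : a ≠ 0) (hb : b ≠ 0) :
    IsPair (a • v) (b • f) :=
  ⟨smul_ne_zero ha h.ne_v, smul_ne_zero hb h.ne_f, by simp [h.orth]⟩

/-- The root element with parameter `t`. -/
noncomputable def rootElt (v f : Fin n → F) (t : F) : PSLn := QuotientGroup.mk (tv (t • v) f)

/-- The root subgroup, as a set. -/
def rootSet (v f : Fin n → F) : Set PSLn := Set.range (rootElt v f)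

/-- Two vectors are parallel. -/
def Par (v v' : Fin n → F) : Prop := ∃ a : F, v' = a • v

theorem Par.symm {v v' : Fin n → F} (h : Par v v') (hv' : v' ≠ 0) : Par v' v := by
  obtain ⟨a, rfl⟩ := h
  have ha : a ≠ 0 := fun h0 => hv' (by rw [h0, zero_smul])
  exact ⟨a⁻¹, by rw [smul_smul, inv_mul_cancel₀ ha, one_smul]⟩

theorem Par.trans {u v w : Fin n → F} (h : Par u v) (h' : Par v w) : Par u w := by
  obtain ⟨a, rfl⟩ := h
  obtain ⟨b, rfl⟩ := h'
  exact ⟨b * a, by rw [smul_smul]⟩

theorem Par.scalar_ne_zero {v v' : Fin n → F} {a : F} (h : v' = a • v) (hv' : v' ≠ 0) : a ≠ 0 :=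
  fun h0 => hv' (by rw [h, h0, zero_smul])

theorem vecMulVec_mulVec' (v f x : Fin n → F) : vecMulVec v f *ᵥ x = (f ⬝ᵥ x) • v := by
  rw [vecMulVec_mulVec]
  ext i
  simp [mul_comm]

theorem vecMulVec_eq_zero_iff' {v f : Fin n → F} : vecMulVec v f = 0 ↔ v = 0 ∨ f = 0 := by
  constructor
  · intro h
    by_cases hv : v = 0
    · exact Or.inl hv
    · obtain ⟨i, hi⟩ := Function.ne_iff.1 hv
      refine Or.inr (funext fun j => ?_)
      have := congrFun (congrFun h i) j
      simp only [vecMulVec_apply, Matrix.zero_apply] at this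
      exact (mul_eq_zero.1 this).resolve_left hi
  · rintro (rfl | rfl) <;> ext i j <;> simp [vecMulVec_apply]

/-- Proportional rank-one matrices have parallel factors. -/
theorem par_of_vecMulVec_eq {v f v' f' : Fin n → F} (hv' : v' ≠ 0) (hf' : f' ≠ 0) {c : F}
    (h : vecMulVec v' f' = c • vecMulVec v f) : Par v v' ∧ Par f f' := by
  constructor
  · obtain ⟨j, hj⟩ := Function.ne_iff.1 hf'
    refine ⟨c * f j / f' j, funext fun i => ?_⟩
    have := congrFun (congrFun h i) j
    simp only [vecMulVec_apply, Matrix.smul_apply, smul_eq_mul, Pi.zero_apply] at this hj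
    simp only [Pi.smul_apply, smul_eq_mul]
    field_simp
    linear_combination this
  · obtain ⟨i, hi⟩ := Function.ne_iff.1 hv'
    refine ⟨c * v i / v' i, funext fun j => ?_⟩
    have := congrFun (congrFun h i) j
    simp only [vecMulVec_apply, Matrix.smul_apply, smul_eq_mul, Pi.zero_apply] at this hi
    simp only [Pi.smul_apply, smul_eq_mul]
    field_simp
    linear_combination this

/-- Two functionals have a common non-zero zero in dimension at least three. -/
theorem exists_common_zero (hn : 3 ≤ n) (f f' : Fin n → F) :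
    ∃ x : Fin n → F, x ≠ 0 ∧ f ⬝ᵥ x = 0 ∧ f' ⬝ᵥ x = 0 := by
  let L : (Fin n → F) →ₗ[F] (Fin 2 → F) :=
    { toFun := fun x => ![f ⬝ᵥ x, f' ⬝ᵥ x]
      map_add' := fun x y => by ext i; fin_cases i <;> simp [dotProduct_add]
      map_smul' := fun c x => by ext i; fin_cases i <;> simp }
  have hnot : ¬ Function.Injective L := by
    intro hinj
    have := LinearMap.finrank_le_finrank_of_injective hinj
    simp at this
    omega
  rw [injective_iff_map_eq_zero] at hnot
  simp only [not_forall] at hnot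
  obtain ⟨x, hx, hx0⟩ := hnot
  exact ⟨x, hx0, by simpa [L] using congrFun hx 0, by simpa [L] using congrFun hx 1⟩

/-- Non-parallel functionals take independent values. -/
theorem exists_dual_pair {f f' : Fin n → F} (hf : f ≠ 0) (hpar : ¬ Par f f') :
    ∃ y, f ⬝ᵥ y = 1 ∧ f' ⬝ᵥ y = 0 := by
  obtain ⟨i, hi⟩ := Function.ne_iff.1 hf
  simp only [Pi.zero_apply] at hi
  obtain ⟨j, hj⟩ : ∃ j, f i * f' j - f j * f' i ≠ 0 := by
    by_contra hcon
    simp only [not_exists, not_not] at hcon
    refine hpar ⟨f' i / f i, funext fun j => ?_⟩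
    simp only [Pi.smul_apply, smul_eq_mul]
    field_simp
    linear_combination hcon j
  refine ⟨(f i * f' j - f j * f' i)⁻¹ • (f' j • Pi.single i 1 - f' i • Pi.single j 1), ?_, ?_⟩
  · simp only [dotProduct_smul, dotProduct_sub, dotProduct_single, mul_one, smul_eq_mul]
    rw [inv_mul_eq_div, div_eq_one_iff_eq hj]
    ring
  · simp only [dotProduct_smul, dotProduct_sub, dotProduct_single, mul_one, smul_eq_mul]
    ring

theorem mk_eq_one_iff (s : SLn) :
    (QuotientGroup.mk s : PSLn) = 1 ↔ ∃ c : F, (s : Matrix (Fin n) (Fin n) F) = c • 1 := by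
  rw [← QuotientGroup.mk_one, eq_comm, mk_eq_mk_iff, Matrix.SpecialLinearGroup.coe_one]

/-- Equality of transvections in `PSL_n` forces equality of their rank-one parts. -/
theorem vecMulVec_eq_of_mk_eq (hn : 2 ≤ n) {v f v' f' : Fin n → F} (h : f ⬝ᵥ v = 0)
    (h' : f' ⬝ᵥ v' = 0) (he : (QuotientGroup.mk (tv v f) : PSLn) = QuotientGroup.mk (tv v' f')) :
    vecMulVec v' f' = vecMulVec v f := by
  obtain ⟨c, hc⟩ := (mk_eq_mk_iff _ _).1 he
  rw [coe_tv h, coe_tv h'] at hc
  suffices c = 1 by simpa [this] using hc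
  rcases Nat.eq_or_lt_of_le hn with h2 | h3
  · subst h2
    have hc2 : c * c = 1 := by
      have hd := congrArg Matrix.det hc
      rw [det_smul, ← coe_tv h, ← coe_tv h', Matrix.SpecialLinearGroup.det_coe,
        Matrix.SpecialLinearGroup.det_coe, Fintype.card_fin, mul_one] at hd
      rw [← sq]; exact hd.symm
    have ht := congrArg Matrix.trace hc
    simp only [trace_add, trace_smul, trace_one, Fintype.card_fin, trace_vecMulVec, smul_eq_mul] at ht
    rw [dotProduct_comm] at ht
    rw [dotProduct_comm v f, h, h'] at ht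
    push_cast at ht
    by_cases htwo : (2 : F) = 0
    · have : (c - 1) * (c - 1) = 0 := by linear_combination hc2 + (1 - c) * htwo
      simpa [sub_eq_zero] using this
    · exact mul_right_cancel₀ htwo (by linear_combination -ht)
  · obtain ⟨x, hx0, hx, hx'⟩ := exists_common_zero h3 f f'
    have := congrArg (fun M : Matrix (Fin n) (Fin n) F => M *ᵥ x) hc
    simp only [smul_mulVec, add_mulVec, one_mulVec, vecMulVec_mulVec', hx, hx', zero_smul,
      add_zero] at this
    exact (smul_left_injective F hx0 (this.symm.trans (one_smul F x).symm))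

theorem orth_smul {v f : Fin n → F} (h : f ⬝ᵥ v = 0) (t : F) : f ⬝ᵥ (t • v) = 0 := by simp [h]

theorem rootElt_zero (v f : Fin n → F) : rootElt v f 0 = 1 := by
  rw [rootElt, zero_smul]
  have : (tv (0 : Fin n → F) f : SLn) = 1 := by
    apply Subtype.ext
    rw [coe_tv (dotProduct_zero f)]
    simp
  rw [this]
  rfl

theorem rootElt_add {v f : Fin n → F} (h : f ⬝ᵥ v = 0) (s t : F) :
    rootElt v f (s + t) = rootElt v f s * rootElt v f t := by
  rw [rootElt, rootElt, rootElt, ← QuotientGroup.mk_mul]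
  congr 1
  apply Subtype.ext
  rw [Matrix.SpecialLinearGroup.coe_mul, coe_tv (orth_smul h _), coe_tv (orth_smul h _),
    coe_tv (orth_smul h _), add_smul, Matrix.add_mul, Matrix.one_mul, Matrix.mul_add, Matrix.mul_one,
    vecMulVec_mul_vecMulVec, orth_smul h, zero_smul, Matrix.vecMulVec_zero, add_zero]
  rw [add_vecMulVec]
  abel

theorem rootElt_injective (hn : 2 ≤ n) {v f : Fin n → F} (hp : IsPair v f) :
    Function.Injective (rootElt v f) := by
  intro s t hst
  have := vecMulVec_eq_of_mk_eq hn (orth_smul hp.orth s) (orth_smul hp.orth t) hst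
  rw [smul_vecMulVec, smul_vecMulVec] at this
  have h0 : vecMulVec v f ≠ 0 := fun h => (vecMulVec_eq_zero_iff'.1 h).elim hp.ne_v hp.ne_f
  exact (smul_left_injective F h0 this).symm

theorem rootElt_ne_one (hn : 2 ≤ n) {v f : Fin n → F} (hp : IsPair v f) {t : F} (ht : t ≠ 0) :
    rootElt v f t ≠ 1 := fun h => ht (rootElt_injective hn hp (h.trans (rootElt_zero v f).symm))

theorem rootSet_smul {v f : Fin n → F} {a b : F} (ha : a ≠ 0) (hb : b ≠ 0) (h : f ⬝ᵥ v = 0) :
    rootSet (a • v) (b • f) = rootSet v f := by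
  have key : ∀ t : F, rootElt (a • v) (b • f) t = rootElt v f (t * a * b) := fun t => by
    rw [rootElt, rootElt]
    congr 1
    apply Subtype.ext
    rw [coe_tv (by simp [h]), coe_tv (orth_smul h _), smul_smul, smul_vecMulVec, vecMulVec_smul,
      smul_vecMulVec, smul_smul]
  ext x
  constructor
  · rintro ⟨t, rfl⟩
    exact ⟨_, (key t).symm⟩
  · rintro ⟨t, rfl⟩
    refine ⟨t / (a * b), ?_⟩
    rw [key]
    congr 1
    field_simp

theorem rootSet_eq_of_par {v f v' f' : Fin n → F} (hp : IsPair v f) (hp' : IsPair v' f')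
    (hv : Par v v') (hf : Par f f') : rootSet v' f' = rootSet v f := by
  obtain ⟨a, ha⟩ := hv
  obtain ⟨b, hb⟩ := hf
  have ha0 := Par.scalar_ne_zero ha hp'.ne_v
  have hb0 := Par.scalar_ne_zero hb hp'.ne_f
  rw [ha, hb, rootSet_smul ha0 hb0 hp.orth]

theorem par_of_mem_rootSet (hn : 2 ≤ n) {v f v' f' : Fin n → F} (hp : IsPair v f) (hp' : IsPair v' f')
    {x : PSLn} (hx : x ∈ rootSet v f) (hx' : x ∈ rootSet v' f') (hx1 : x ≠ 1) :
    Par v v' ∧ Par f f' := by
  obtain ⟨s, rfl⟩ := hx
  obtain ⟨t, ht⟩ := hx'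
  have ht0 : t ≠ 0 := fun h => hx1 (by rw [← ht, h, rootElt_zero])
  have h := vecMulVec_eq_of_mk_eq hn (orth_smul hp.orth s) (orth_smul hp'.orth t) ht.symm
  rw [smul_vecMulVec, smul_vecMulVec] at h
  refine par_of_vecMulVec_eq hp'.ne_v hp'.ne_f (c := t⁻¹ * s) ?_
  rw [← smul_smul, ← h, smul_smul, inv_mul_cancel₀ ht0, one_smul]

theorem par_of_rootSet_eq (hn : 2 ≤ n) {v f v' f' : Fin n → F} (hp : IsPair v f) (hp' : IsPair v' f')
    (h : rootSet v f = rootSet v' f') : Par v v' ∧ Par f f' :=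
  par_of_mem_rootSet hn hp hp' ⟨1, rfl⟩ (h ▸ ⟨1, rfl⟩) (rootElt_ne_one hn hp one_ne_zero)

/-- Two root subgroups commute elementwise. -/
def Comm (R R' : Set PSLn) : Prop := ∀ x ∈ R, ∀ y ∈ R', x * y = y * x

theorem comm_of_orth {v f v' f' : Fin n → F} (h : f ⬝ᵥ v = 0) (h' : f' ⬝ᵥ v' = 0)
    (h1 : f ⬝ᵥ v' = 0) (h2 : f' ⬝ᵥ v = 0) : Comm (rootSet v f) (rootSet v' f') := by
  rintro _ ⟨s, rfl⟩ _ ⟨t, rfl⟩
  rw [rootElt, rootElt, ← QuotientGroup.mk_mul, ← QuotientGroup.mk_mul]
  congr 1
  apply Subtype.ext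
  simp only [Matrix.SpecialLinearGroup.coe_mul, coe_tv (orth_smul h _), coe_tv (orth_smul h' _),
    Matrix.add_mul, Matrix.mul_add, Matrix.one_mul, Matrix.mul_one, vecMulVec_mul_vecMulVec,
    orth_smul h1, orth_smul h2, zero_smul, Matrix.vecMulVec_zero, add_zero]
  abel

theorem orth_of_comm (hn : 3 ≤ n) {v f v' f' : Fin n → F} (hp : IsPair v f) (hp' : IsPair v' f')
    (hc : Comm (rootSet v f) (rootSet v' f')) (hv : ¬ Par v v') :
    f ⬝ᵥ v' = 0 ∧ f' ⬝ᵥ v = 0 := by
  have h := hc _ ⟨1, rfl⟩ _ ⟨1, rfl⟩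
  rw [rootElt, rootElt, ← QuotientGroup.mk_mul, ← QuotientGroup.mk_mul, one_smul, one_smul] at h
  obtain ⟨c, hc'⟩ := (mk_eq_mk_iff _ _).1 h
  simp only [Matrix.SpecialLinearGroup.coe_mul, coe_tv hp.orth, coe_tv hp'.orth] at hc'
  have happ : ∀ x, (1 + vecMulVec v' f') *ᵥ ((1 + vecMulVec v f) *ᵥ x) =
      c • ((1 + vecMulVec v f) *ᵥ ((1 + vecMulVec v' f') *ᵥ x)) := fun x => by
    rw [mulVec_mulVec, hc', smul_mulVec, mulVec_mulVec]
  simp only [add_mulVec, one_mulVec, vecMulVec_mulVec', dotProduct_add, dotProduct_smul,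
    smul_eq_mul] at happ
  obtain ⟨x, hx0, hx, hx'⟩ := exists_common_zero hn f f'
  have hc1 : c = 1 := by
    have := happ x
    simp only [hx, hx', mul_zero, zero_mul, add_zero, zero_smul] at this
    exact smul_left_injective F hx0 (this.symm.trans (one_smul F x).symm)
  subst hc1
  have key : ∀ y, ((f ⬝ᵥ y) * (f' ⬝ᵥ v)) • v' = ((f' ⬝ᵥ y) * (f ⬝ᵥ v')) • v := fun y => by
    have h1 := happ y
    simp only [one_smul, add_smul] at h1
    have h2 := sub_eq_zero.2 h1
    rw [← sub_eq_zero, ← h2]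
    abel
  by_cases hff : Par f f'
  · obtain ⟨b, hb⟩ := hff
    have hb0 := Par.scalar_ne_zero hb hp'.ne_f
    constructor
    · have := hp'.orth
      rw [hb, smul_dotProduct, smul_eq_mul] at this
      exact (mul_eq_zero.1 this).resolve_left hb0
    · rw [hb, smul_dotProduct, hp.orth, smul_zero]
  · obtain ⟨y, hy, hy'⟩ := exists_dual_pair hp.ne_f hff
    have h2 : f' ⬝ᵥ v = 0 := by
      have := key y
      simp only [hy, hy', one_mul, zero_mul, zero_smul] at this
      exact (smul_eq_zero.1 this).resolve_right hp'.ne_v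
    refine ⟨?_, h2⟩
    obtain ⟨j, hj⟩ := Function.ne_iff.1 hp'.ne_f
    have := key (Pi.single j 1)
    simp only [h2, mul_zero, zero_smul, dotProduct_single, mul_one] at this
    exact (mul_eq_zero.1 ((smul_eq_zero.1 this.symm).resolve_right hp.ne_v)).resolve_left hj

/-- Adjacency of root subgroups, in purely group-theoretic terms. -/
def Adj (R R' : Set PSLn) : Prop :=
  R ≠ R' ∧ Comm R R' ∧ ∃ w h : Fin n → F, IsPair w h ∧ rootSet w h ≠ R ∧ rootSet w h ≠ R' ∧
    ∃ x ∈ rootSet w h, x ≠ 1 ∧ ∃ a ∈ R, ∃ b ∈ R', x = a * b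

theorem adj_iff (hn : 3 ≤ n) {v f v' f' : Fin n → F} (hp : IsPair v f) (hp' : IsPair v' f') :
    Adj (rootSet v f) (rootSet v' f') ↔ (Par v v' ∧ ¬ Par f f') ∨ (¬ Par v v' ∧ Par f f') := by
  have hn2 : 2 ≤ n := by omega
  constructor
  · rintro ⟨hne, hc, w, h, hwh, hne1, hne2, x, hx, hx1, a, ⟨s, rfl⟩, b, ⟨t, rfl⟩, rfl⟩
    by_cases hv : Par v v'
    · by_cases hf : Par f f'
      · exact absurd (rootSet_eq_of_par hp hp' hv hf).symm hne
      · exact Or.inl ⟨hv, hf⟩
    · by_cases hf : Par f f'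
      · exact Or.inr ⟨hv, hf⟩
      · exfalso
        obtain ⟨o1, o2⟩ := orth_of_comm hn hp hp' hc hv
        obtain ⟨u, hu⟩ := hx
        obtain ⟨c, hc'⟩ := (mk_eq_mk_iff _ _).1
          (show (QuotientGroup.mk (tv (u • w) h) : PSLn) = QuotientGroup.mk (tv (s • v) f * tv (t • v') f') from hu)
        simp only [Matrix.SpecialLinearGroup.coe_mul, coe_tv (orth_smul hp.orth _),
          coe_tv (orth_smul hp'.orth _), coe_tv (orth_smul hwh.orth _)] at hc'
        have happ : ∀ y, y + ((f' ⬝ᵥ y) * t) • v' + ((f ⬝ᵥ y) * s) • v =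
            c • (y + ((h ⬝ᵥ y) * u) • w) := fun y => by
          have := congrArg (fun M : Matrix (Fin n) (Fin n) F => M *ᵥ y) hc'
          simp only [← mulVec_mulVec, smul_mulVec, add_mulVec, one_mulVec, vecMulVec_mulVec',
            dotProduct_add, dotProduct_smul, smul_eq_mul, o1, o2, mul_zero, add_zero, smul_smul] at this
          exact this
        obtain ⟨z, hz0, hz, hz'⟩ := exists_common_zero hn f f'
        have hc1 : c = 1 := by
          have h1 := happ z
          simp only [hz, hz', zero_mul, zero_smul, add_zero] at h1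
          by_contra hne'
          by_cases hhz : h ⬝ᵥ z = 0
          · simp only [hhz, zero_mul, zero_smul, add_zero] at h1
            exact hne' (smul_left_injective F hz0 (h1.symm.trans (one_smul F z).symm))
          · have h2 := congrArg (fun y => h ⬝ᵥ y) h1
            simp only [dotProduct_smul, dotProduct_add, hwh.orth, smul_eq_mul, mul_zero, add_zero] at h2
            exact hne' (mul_right_cancel₀ hhz (h2.symm.trans (one_mul _).symm))
        subst hc1
        obtain ⟨y, hy, hy'⟩ := exists_dual_pair hp.ne_f hf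
        obtain ⟨y₂, hy₂, hy₂'⟩ := exists_dual_pair hp'.ne_f (fun hh => hf (hh.symm hp.ne_f))
        have e1 := happ y
        have e2 := happ y₂
        simp only [hy, hy', one_mul, zero_mul, zero_smul, add_zero, one_smul, add_right_inj] at e1
        simp only [hy₂, hy₂', one_mul, zero_mul, zero_smul, add_zero, one_smul, add_right_inj] at e2
        by_cases hs : s = 0
        · subst hs
          apply hne2
          refine rootSet_eq_of_par hp' hwh ?_ ?_
          all_goals
            have hmem : rootElt v f 0 * rootElt v' f' t ∈ rootSet v' f' := by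
              rw [rootElt_zero, one_mul]; exact ⟨t, rfl⟩
            have := par_of_mem_rootSet hn2 hp' hwh hmem ⟨u, hu⟩ hx1
          · exact this.1
          · exact this.2
        · by_cases ht : t = 0
          · subst ht
            apply hne1
            refine rootSet_eq_of_par hp hwh ?_ ?_
            all_goals
              have hmem : rootElt v f s * rootElt v' f' 0 ∈ rootSet v f := by
                rw [rootElt_zero, mul_one]; exact ⟨s, rfl⟩
              have := par_of_mem_rootSet hn2 hp hwh hmem ⟨u, hu⟩ hx1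
            · exact this.1
            · exact this.2
          · have hwv : Par w v := ⟨s⁻¹ * ((h ⬝ᵥ y) * u), by
              rw [← smul_smul, ← e1, smul_smul, inv_mul_cancel₀ hs, one_smul]⟩
            have hwv' : Par w v' := ⟨t⁻¹ * ((h ⬝ᵥ y₂) * u), by
              rw [← smul_smul, ← e2, smul_smul, inv_mul_cancel₀ ht, one_smul]⟩
            exact hv ((hwv.symm hp.ne_v).trans hwv')
  · intro hcase
    have horth : f ⬝ᵥ v' = 0 ∧ f' ⬝ᵥ v = 0 := by
      rcases hcase with ⟨hv, -⟩ | ⟨-, hf⟩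
      · obtain ⟨a, ha⟩ := hv
        have ha0 := Par.scalar_ne_zero ha hp'.ne_v
        refine ⟨by rw [ha, dotProduct_smul, hp.orth, smul_zero], ?_⟩
        have := hp'.orth
        rw [ha, dotProduct_smul, smul_eq_mul] at this
        exact (mul_eq_zero.1 this).resolve_left ha0
      · obtain ⟨b, hb⟩ := hf
        have hb0 := Par.scalar_ne_zero hb hp'.ne_f
        refine ⟨?_, by rw [hb, smul_dotProduct, hp.orth, smul_zero]⟩
        have := hp'.orth
        rw [hb, smul_dotProduct, smul_eq_mul] at this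
        exact (mul_eq_zero.1 this).resolve_left hb0
    have hne : rootSet v f ≠ rootSet v' f' := fun he => by
      obtain ⟨p1, p2⟩ := par_of_rootSet_eq hn2 hp hp' he
      tauto
    refine ⟨hne, comm_of_orth hp.orth hp'.orth horth.1 horth.2, ?_⟩
    rcases hcase with ⟨⟨a, ha⟩, hf⟩ | ⟨hv, ⟨b, hb⟩⟩
    · have hwh : IsPair v (f + a • f') := by
        refine ⟨hp.ne_v, fun h0 => hf ?_, by simp [hp.orth, horth.2]⟩
        have ha0 := Par.scalar_ne_zero ha hp'.ne_v
        refine ⟨-a⁻¹, ?_⟩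
        rw [neg_smul, ← smul_neg, neg_eq_of_add_eq_zero_right h0, smul_smul, inv_mul_cancel₀ ha0, one_smul]
      have ha0 := Par.scalar_ne_zero ha hp'.ne_v
      refine ⟨v, f + a • f', hwh, fun he => hf ?_, fun he => hf ?_, rootElt v (f + a • f') 1, ⟨1, rfl⟩,
        rootElt_ne_one hn2 hwh one_ne_zero, rootElt v f 1, ⟨1, rfl⟩, rootElt v' f' 1, ⟨1, rfl⟩, ?_⟩
      · obtain ⟨b, hb⟩ := (par_of_rootSet_eq hn2 hwh hp he).2.symm hp.ne_f
        refine ⟨a⁻¹ * (b - 1), ?_⟩
        rw [mul_smul, sub_smul, one_smul, ← hb, add_sub_cancel_left, smul_smul, inv_mul_cancel₀ ha0, one_smul]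
      · obtain ⟨b, hb⟩ := (par_of_rootSet_eq hn2 hwh hp' he).2.symm hp'.ne_f
        have hf' : f = (b - a) • f' := by rw [sub_smul, ← hb, add_sub_cancel_right]
        exact Par.symm ⟨b - a, hf'⟩ hp.ne_f
      · simp only [rootElt, ← QuotientGroup.mk_mul, one_smul]
        congr 1
        apply Subtype.ext
        rw [Matrix.SpecialLinearGroup.coe_mul, coe_tv hwh.orth, coe_tv hp.orth, coe_tv hp'.orth]
        simp only [Matrix.add_mul, Matrix.mul_add, Matrix.one_mul, Matrix.mul_one, vecMulVec_mul_vecMulVec,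
          horth.1, hp.orth, zero_smul, Matrix.vecMulVec_zero, add_zero, ha, vecMulVec_add, vecMulVec_smul,
          smul_vecMulVec, Matrix.mul_smul, smul_zero]
        abel
    · have hb0 := Par.scalar_ne_zero hb hp'.ne_f
      have hwh : IsPair (v + b • v') f := by
        refine ⟨fun h0 => hv ?_, hp.ne_f, by simp [hp.orth, horth.1]⟩
        refine ⟨-b⁻¹, ?_⟩
        rw [neg_smul, ← smul_neg, neg_eq_of_add_eq_zero_right h0, smul_smul, inv_mul_cancel₀ hb0, one_smul]
      refine ⟨v + b • v', f, hwh, fun he => hv ?_, fun he => hv ?_, rootElt (v + b • v') f 1, ⟨1, rfl⟩,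
        rootElt_ne_one hn2 hwh one_ne_zero, rootElt v f 1, ⟨1, rfl⟩, rootElt v' f' 1, ⟨1, rfl⟩, ?_⟩
      · obtain ⟨a, ha⟩ := (par_of_rootSet_eq hn2 hwh hp he).1.symm hp.ne_v
        refine ⟨b⁻¹ * (a - 1), ?_⟩
        rw [mul_smul, sub_smul, one_smul, ← ha, add_sub_cancel_left, smul_smul, inv_mul_cancel₀ hb0, one_smul]
      · obtain ⟨a, ha⟩ := (par_of_rootSet_eq hn2 hwh hp' he).1.symm hp'.ne_v
        have hv'' : v = (a - b) • v' := by rw [sub_smul, ← ha, add_sub_cancel_right]
        exact Par.symm ⟨a - b, hv''⟩ hp.ne_v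
      · simp only [rootElt, ← QuotientGroup.mk_mul, one_smul]
        congr 1
        apply Subtype.ext
        rw [Matrix.SpecialLinearGroup.coe_mul, coe_tv hwh.orth, coe_tv hp.orth, coe_tv hp'.orth]
        simp only [Matrix.add_mul, Matrix.mul_add, Matrix.one_mul, Matrix.mul_one, vecMulVec_mul_vecMulVec,
          horth.1, zero_smul, Matrix.vecMulVec_zero, add_zero, hb, add_vecMulVec, vecMulVec_smul,
          smul_vecMulVec, Matrix.mul_smul, smul_zero]
        abel

/-- Conjugation moves root subgroups to root subgroups. -/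
theorem conjAut_rootElt (g : GL (Fin n) F) {v f : Fin n → F} (h : f ⬝ᵥ v = 0) (t : F) :
    conjAut g (rootElt v f t) =
      rootElt ((g : Matrix (Fin n) (Fin n) F) *ᵥ v) (f ᵥ* ((g⁻¹ : GL (Fin n) F) : Matrix (Fin n) (Fin n) F)) t := by
  have h' : (f ᵥ* ((g⁻¹ : GL (Fin n) F) : Matrix (Fin n) (Fin n) F)) ⬝ᵥ ((g : Matrix (Fin n) (Fin n) F) *ᵥ v) = 0 := by
    rw [← dotProduct_mulVec, mulVec_mulVec, Units.inv_mul, one_mulVec, h]
  rw [rootElt, rootElt, conjAut_mk]
  congr 1
  apply Subtype.ext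
  rw [coe_conjSL, coe_tv (orth_smul h _), coe_tv (orth_smul h' _), Matrix.mul_add, Matrix.mul_one,
    Matrix.add_mul, Units.mul_inv, mul_vecMulVec, vecMulVec_mul, mulVec_smul]

theorem IsPair.conj {v f : Fin n → F} (hp : IsPair v f) (g : GL (Fin n) F) :
    IsPair ((g : Matrix (Fin n) (Fin n) F) *ᵥ v) (f ᵥ* ((g⁻¹ : GL (Fin n) F) : Matrix (Fin n) (Fin n) F)) := by
  refine ⟨fun h0 => hp.ne_v ?_, fun h0 => hp.ne_f ?_, ?_⟩
  · have := congrArg (fun x => ((g⁻¹ : GL (Fin n) F) : Matrix (Fin n) (Fin n) F) *ᵥ x) h0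
    simpa [mulVec_mulVec] using this
  · have := congrArg (fun x => x ᵥ* (g : Matrix (Fin n) (Fin n) F)) h0
    simpa [vecMul_vecMul] using this
  · rw [← dotProduct_mulVec, mulVec_mulVec, Units.inv_mul, one_mulVec, hp.orth]

theorem conjAut_rootSet (g : GL (Fin n) F) {v f : Fin n → F} (h : f ⬝ᵥ v = 0) :
    conjAut g '' rootSet v f =
      rootSet ((g : Matrix (Fin n) (Fin n) F) *ᵥ v) (f ᵥ* ((g⁻¹ : GL (Fin n) F) : Matrix (Fin n) (Fin n) F)) := by
  rw [rootSet, rootSet, ← Set.range_comp]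
  exact congrArg Set.range (funext (conjAut_rootElt g h))

theorem IsPair.swap {v f : Fin n → F} (hp : IsPair v f) : IsPair f v :=
  ⟨hp.ne_f, hp.ne_v, by rw [dotProduct_comm]; exact hp.orth⟩

theorem invT_rootElt {v f : Fin n → F} (h : f ⬝ᵥ v = 0) (t : F) :
    invT (rootElt v f t) = rootElt f v (-t) := by
  have h' : v ⬝ᵥ f = 0 := by rw [dotProduct_comm]; exact h
  rw [rootElt, rootElt, invT_mk]
  congr 1
  have hinv : (tv (t • v) f : SLn)⁻¹ = tv ((-t) • v) f := by
    apply inv_eq_of_mul_eq_one_left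
    apply Subtype.ext
    rw [Matrix.SpecialLinearGroup.coe_mul, coe_tv (orth_smul h _), coe_tv (orth_smul h _),
      Matrix.SpecialLinearGroup.coe_one, Matrix.add_mul, Matrix.one_mul, Matrix.mul_add, Matrix.mul_one,
      vecMulVec_mul_vecMulVec, orth_smul h, zero_smul, Matrix.vecMulVec_zero, add_zero, neg_smul,
      neg_vecMulVec]
    abel
  apply Subtype.ext
  rw [coe_transInv, hinv, coe_tv (orth_smul h _), coe_tv (orth_smul h' _), transpose_add, transpose_one,
    transpose_vecMulVec, smul_vecMulVec, vecMulVec_smul]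

theorem invT_rootSet {v f : Fin n → F} (h : f ⬝ᵥ v = 0) :
    invT '' rootSet v f = rootSet f v := by
  ext x
  constructor
  · rintro ⟨_, ⟨t, rfl⟩, rfl⟩
    exact ⟨-t, (invT_rootElt h t).symm⟩
  · rintro ⟨t, rfl⟩
    exact ⟨_, ⟨-t, rfl⟩, by rw [invT_rootElt h, neg_neg]⟩

end Cfsg.Agent.Lib.AutPSL
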