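import Mathlib

/-!
Matrices of finite exponent are diagonalisable when the field contains the roots of unity.
-/

set_option autoImplicit false

namespace Cfsg.Agent.Lib.AutPSL

open Matrix

variable {ι F : Type*} [Fintype ι] [DecidableEq ι] [Field F]

/-- The projection onto the eigenspace of `a` for a matrix of exponent `r`. -/
def eigenProj (g : Matrix ι ι F) (r : ℕ) (a : F) : Matrix ι ι F :=
  (r : F)⁻¹ • ∑ k ∈ Finset.range r, (a⁻¹) ^ k • g ^ k

theorem mul_eigenProj {g : Matrix ι ι F} {r : ℕ} (hg : g ^ r = 1) {a : F} (ha : a ^ r = 1)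
    (ha0 : a ≠ 0) : g * eigenProj g r a = a • eigenProj g r a := by
  unfold eigenProj
  rw [Matrix.mul_smul, smul_comm a, Finset.mul_sum]
  congr 1
  have h : ∀ k ∈ Finset.range r, g * (a⁻¹ ^ k • g ^ k) = a • (a⁻¹ ^ (k + 1) • g ^ (k + 1)) := by
    intro k _
    rw [Matrix.mul_smul, smul_smul, ← pow_succ']
    congr 1
    rw [pow_succ]
    field_simp
  rw [Finset.sum_congr rfl h, ← Finset.smul_sum]
  congr 1
  have hshift := Finset.sum_range_succ' (fun k => a⁻¹ ^ k • g ^ k) r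
  rw [Finset.sum_range_succ, inv_pow, ha, inv_one, hg, one_smul] at hshift
  simp only [pow_zero, one_smul] at hshift
  exact (add_right_cancel hshift).symm

theorem sum_eigenProj {g : Matrix ι ι F} {r : ℕ} (hr : (r : F) ≠ 0) {ζ : F}
    (hζ : IsPrimitiveRoot ζ r) :
    ∑ j ∈ Finset.range r, eigenProj g r (ζ ^ j) = 1 := by
  unfold eigenProj
  rw [← Finset.smul_sum, Finset.sum_comm]
  have hr0 : 0 < r := Nat.pos_of_ne_zero fun h => hr (by simp [h])
  rw [Finset.sum_eq_single 0]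
  · simp [← Nat.cast_smul_eq_nsmul F, smul_smul, inv_mul_cancel₀ hr]
  · intro k hk hk0
    rw [← Finset.sum_smul]
    have hne : (ζ⁻¹) ^ k ≠ 1 := hζ.inv.pow_ne_one_of_pos_of_lt hk0 (Finset.mem_range.1 hk)
    have h2 : ∑ j ∈ Finset.range r, (ζ ^ j)⁻¹ ^ k = 0 := by
      have : ∀ j ∈ Finset.range r, (ζ ^ j)⁻¹ ^ k = ((ζ⁻¹) ^ k) ^ j := fun j _ => by
        rw [← inv_pow, ← pow_mul, ← pow_mul, mul_comm]
      rw [Finset.sum_congr rfl this, geom_sum_eq hne, ← pow_mul, mul_comm, pow_mul, inv_pow,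
        hζ.pow_eq_one, inv_one, one_pow, sub_self, zero_div]
    rw [h2, zero_smul]
  · intro h
    exact absurd (Finset.mem_range.2 hr0) h

/-- A matrix with `g ^ r = 1` is diagonalisable over a field with a primitive `r`-th root of unity. -/
theorem exists_diagonalize {g : Matrix ι ι F} {r : ℕ} (hr : (r : F) ≠ 0) {ζ : F}
    (hζ : IsPrimitiveRoot ζ r) (hg : g ^ r = 1) :
    ∃ (P : GL ι F) (d : ι → F), (∀ i, d i ^ r = 1) ∧
      g * (P : Matrix ι ι F) = (P : Matrix ι ι F) * diagonal d := by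
  let S : Set (ι → F) := {v | ∃ a : F, a ^ r = 1 ∧ g *ᵥ v = a • v}
  have hspan : Submodule.span F S = ⊤ := by
    refine eq_top_iff.2 fun v _ => ?_
    have hv : v = ∑ j ∈ Finset.range r, eigenProj g r (ζ ^ j) *ᵥ v := by
      rw [← Matrix.sum_mulVec, sum_eigenProj hr hζ, one_mulVec]
    rw [hv]
    refine Submodule.sum_mem _ fun j _ => Submodule.subset_span ⟨ζ ^ j, ?_, ?_⟩
    · rw [← pow_mul, mul_comm, pow_mul, hζ.pow_eq_one, one_pow]
    · rw [mulVec_mulVec, mul_eigenProj hg, smul_mulVec]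
      · rw [← pow_mul, mul_comm, pow_mul, hζ.pow_eq_one, one_pow]
      · exact pow_ne_zero _ (hζ.ne_zero fun h => hr (by simp [h]))
  let b := Module.Basis.ofSpan hspan.ge
  have hbS : Set.range b ⊆ S := Module.Basis.ofSpan_subset hspan.ge
  let b' : Module.Basis ι F (ι → F) :=
    b.reindex (b.indexEquiv (Pi.basisFun F ι))
  have hb' : ∀ i, b' i ∈ S := fun i => hbS ⟨(b.indexEquiv (Pi.basisFun F ι)).symm i, by simp [b']⟩
  choose d hd hdv using hb'
  let P : Matrix ι ι F := Matrix.of fun i j => b' j i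
  have hP : IsUnit P := by
    rw [← Matrix.linearIndependent_cols_iff_isUnit]
    exact b'.linearIndependent
  refine ⟨hP.unit, d, hd, ?_⟩
  rw [IsUnit.unit_spec]
  ext i j
  have h1 := congrFun (hdv j) i
  rw [mul_diagonal]
  simp only [Pi.smul_apply, smul_eq_mul] at h1
  rw [mul_comm]
  exact h1

end Cfsg.Agent.Lib.AutPSL
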