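import Cfsg.Prelude.Def_KGroupFacts
import Cfsg.Agent.Lib.AutPSL.FixField

/-!
The number of classes of `K` in a class of `H`, and its value for subgroups of `Inndiag(PSL_n)`.
-/

set_option autoImplicit false

namespace Cfsg.Agent.Lib.AutPSL

open Matrix
open scoped Pointwise

section General

variable {X : Type*} [Group X]

theorem isConjUnder_equivalence (K : Subgroup X) : Equivalence (Cfsg.IsConjUnder K) where
  refl x := ⟨1, K.one_mem, by simp⟩
  symm := fun {x y} ⟨h, hh, e⟩ => ⟨h⁻¹, K.inv_mem hh, by rw [e]; group⟩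
  trans := fun {x y z} ⟨h, hh, e⟩ ⟨k, hk, e'⟩ => ⟨k * h, K.mul_mem hk hh, by rw [e', e]; group⟩

theorem isConjUnder_conj_iff {H : Subgroup X} {a : X} (ha : a ∈ H) (x y : X) :
    Cfsg.IsConjUnder H (a * x * a⁻¹) y ↔ Cfsg.IsConjUnder H x y :=
  ⟨fun h => (isConjUnder_equivalence H).trans ⟨a, ha, rfl⟩ h,
    fun h => (isConjUnder_equivalence H).trans ((isConjUnder_equivalence H).symm ⟨a, ha, rfl⟩) h⟩

theorem splitClassCount_conj {H : Subgroup X} (K : Subgroup X) {a : X} (ha : a ∈ H) (x : X) :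
    Cfsg.splitClassCount H K (a * x * a⁻¹) = Cfsg.splitClassCount H K x :=
  Nat.card_congr (Quot.congr (Equiv.subtypeEquivRight fun y => isConjUnder_conj_iff ha x y)
    fun _ _ => Iff.rfl)

/-- The centraliser in `H` of a conjugate under `H`. -/
theorem centralizer_conj_equiv {H : Subgroup X} {a : X} (ha : a ∈ H) (x : X) :
    Nonempty (↥(H ⊓ Subgroup.centralizer {a * x * a⁻¹}) ≃* ↥(H ⊓ Subgroup.centralizer {x})) := by
  have key : (H ⊓ Subgroup.centralizer {x}).map (MulAut.conj a).toMonoidHom =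
      H ⊓ Subgroup.centralizer {a * x * a⁻¹} := by
    ext y
    simp only [Subgroup.mem_map, Subgroup.mem_inf, MulEquiv.coe_toMonoidHom, MulAut.conj_apply,
      Subgroup.mem_centralizer_singleton_iff]
    constructor
    · rintro ⟨c, ⟨hc, hcx⟩, rfl⟩
      refine ⟨H.mul_mem (H.mul_mem ha hc) (H.inv_mem ha), ?_⟩
      calc a * c * a⁻¹ * (a * x * a⁻¹) = a * (c * x) * a⁻¹ := by group
        _ = a * (x * c) * a⁻¹ := by rw [hcx]
        _ = a * x * a⁻¹ * (a * c * a⁻¹) := by group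
    · rintro ⟨hy, hyx⟩
      refine ⟨a⁻¹ * y * a, ⟨H.mul_mem (H.mul_mem (H.inv_mem ha) hy) ha, ?_⟩, by group⟩
      calc a⁻¹ * y * a * x = a⁻¹ * (y * (a * x * a⁻¹)) * a := by group
        _ = a⁻¹ * (a * x * a⁻¹ * y) * a := by rw [hyx]
        _ = x * (a⁻¹ * y * a) := by group
  exact ⟨(MulEquiv.subgroupCongr key.symm).trans
    ((H ⊓ Subgroup.centralizer {x}).equivMapOfInjective _ (MulAut.conj a).injective).symm⟩

/-- The classes of `K` in the class of `x` under `H` correspond to the cosets of `K · C_H(x)` in `H`. -/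
theorem splitClassCount_eq {H K : Subgroup X} [K.Normal] (hKH : K ≤ H) (x : X) :
    Cfsg.splitClassCount H K x = (K ⊔ H ⊓ Subgroup.centralizer {x}).relIndex H := by
  set C := H ⊓ Subgroup.centralizer {x}
  let R := fun y z : {y : X // Cfsg.IsConjUnder H x y} => Cfsg.IsConjUnder K y.1 z.1
  have hR : Equivalence R :=
    ⟨fun y => (isConjUnder_equivalence K).refl y.1, fun h => (isConjUnder_equivalence K).symm h,
      fun h h' => (isConjUnder_equivalence K).trans h h'⟩
  let Φ : H → Quot R := fun h => Quot.mk R ⟨h.1 * x * h.1⁻¹, h.1, h.2, rfl⟩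
  have hiff : ∀ h h' : H, Φ h = Φ h' ↔ h⁻¹ * h' ∈ (K ⊔ C).subgroupOf H := by
    intro h h'
    have hsup : ∀ y, y ∈ K ⊔ C ↔ y ∈ (K : Set X) * (C : Set X) := fun y => by
      rw [← Subgroup.normal_mul]; rfl
    rw [Quot.eq, hR.eqvGen_iff]
    refine Iff.trans ?_ (Subgroup.mem_subgroupOf.trans (hsup _)).symm
    constructor
    · rintro ⟨k, hk, e⟩
      refine Set.mem_mul.2 ⟨h.1⁻¹ * k * h.1, ‹K.Normal›.conj_mem' k hk h.1,
        h.1⁻¹ * k⁻¹ * h'.1, ⟨?_, ?_⟩, by push_cast; group⟩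
      · exact H.mul_mem (H.mul_mem (H.inv_mem h.2) (H.inv_mem (hKH hk))) h'.2
      · refine Subgroup.mem_centralizer_singleton_iff.2 ?_
        calc h.1⁻¹ * k⁻¹ * h'.1 * x = h.1⁻¹ * k⁻¹ * (h'.1 * x * h'.1⁻¹) * h'.1 := by group
          _ = h.1⁻¹ * k⁻¹ * (k * (h.1 * x * h.1⁻¹) * k⁻¹) * h'.1 := by rw [← e]
          _ = x * (h.1⁻¹ * k⁻¹ * h'.1) := by group
    · intro hm
      obtain ⟨k, hk, c, hc, e⟩ := Set.mem_mul.1 hm
      refine ⟨h.1 * k * h.1⁻¹, ‹K.Normal›.conj_mem k hk h.1, ?_⟩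
      have e' : h'.1 = h.1 * (k * c) := by rw [e]; push_cast; group
      have hc' : c * x = x * c := Subgroup.mem_centralizer_singleton_iff.1 hc.2
      show h'.1 * x * h'.1⁻¹ = _
      rw [e']
      calc h.1 * (k * c) * x * (h.1 * (k * c))⁻¹ = h.1 * k * (c * x) * c⁻¹ * k⁻¹ * h.1⁻¹ := by group
        _ = h.1 * k * (x * c) * c⁻¹ * k⁻¹ * h.1⁻¹ := by rw [hc']
        _ = h.1 * k * h.1⁻¹ * (h.1 * x * h.1⁻¹) * (h.1 * k * h.1⁻¹)⁻¹ := by group
  let Ψ : (H ⧸ (K ⊔ C).subgroupOf H) → Quot R :=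
    Quotient.lift Φ fun h h' hh => (hiff h h').2 (QuotientGroup.leftRel_apply.1 hh)
  have hΨ : Function.Bijective Ψ := by
    constructor
    · intro a b
      induction a using QuotientGroup.induction_on with | H h => ?_
      induction b using QuotientGroup.induction_on with | H h' => ?_
      exact fun e => QuotientGroup.eq.2 ((hiff h h').1 e)
    · intro y
      induction y using Quot.ind with | mk y => ?_
      obtain ⟨z, h, hh, e⟩ := y
      exact ⟨QuotientGroup.mk ⟨h, hh⟩, congrArg (Quot.mk R) (Subtype.ext e.symm)⟩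
  exact (Nat.card_congr (Equiv.ofBijective Ψ hΨ)).symm

end General

variable {n : ℕ} {F : Type*} [Field F]

local notation "PSLn" => Matrix.ProjectiveSpecialLinearGroup (Fin n) F
local notation "GLn" => GL (Fin n) F

theorem inn_eq_map : Cfsg.Inn PSLn =
    (GeneralLinearGroup.det : GLn →* Fˣ).ker.map conjAut := by
  ext β
  constructor
  · rintro ⟨y, rfl⟩
    obtain ⟨s, rfl⟩ := QuotientGroup.mk_surjective y
    exact ⟨Matrix.SpecialLinearGroup.toGL s, Units.ext s.det_coe, conjAut_toGL s⟩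
  · rintro ⟨g, hg, rfl⟩
    have hd : (g : Matrix (Fin n) (Fin n) F).det = 1 := congrArg Units.val (MonoidHom.mem_ker.1 hg)
    exact ⟨QuotientGroup.mk (⟨g, hd⟩ : Matrix.SpecialLinearGroup (Fin n) F),
      (conjAut_toGL _).symm.trans (congrArg conjAut (Units.ext rfl))⟩

theorem inn_le_inndiag : Cfsg.Inn PSLn ≤ Cfsg.inndiagPSL n F := by
  rw [inn_eq_map, inndiagPSL_eq_range]
  exact Subgroup.map_le_range _ _

theorem det_surjective (hn : 0 < n) :
    Function.Surjective (GeneralLinearGroup.det : GLn → Fˣ) := fun z =>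
  ⟨⟨diagonal (fun i => ((Pi.mulSingle ⟨0, hn⟩ z : Fin n → Fˣ) i : F)),
      diagonal (fun i => (((Pi.mulSingle ⟨0, hn⟩ z : Fin n → Fˣ) i)⁻¹ : Fˣ)),
      by simp, by simp⟩,
    Units.ext (by simp [← Units.coe_prod])⟩

/-- The subgroup of matrices whose induced automorphism fixes `x`. -/
def cent (x : MulAut PSLn) : Subgroup GLn := (Subgroup.centralizer {x}).comap conjAut

theorem mem_cent {x : MulAut PSLn} {g : GLn} :
    g ∈ cent x ↔ conjAut g * x = x * conjAut g :=
  Subgroup.mem_centralizer_singleton_iff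

theorem inndiag_inf_centralizer (x : MulAut PSLn) :
    Cfsg.inndiagPSL n F ⊓ Subgroup.centralizer {x} = (cent x).map conjAut := by
  rw [cent, Subgroup.map_comap_eq, inndiagPSL_eq_range]

theorem scalar_mem_cent (x : MulAut PSLn) (z : Fˣ) :
    GeneralLinearGroup.scalar (Fin n) z ∈ cent x := by
  rw [mem_cent, conjAut_scalar, one_mul, mul_one]

theorem splitClassCount_eq_index (hn : 2 ≤ n) (x : MulAut PSLn) :
    Cfsg.splitClassCount (Cfsg.inndiagPSL n F) (Cfsg.Inn PSLn) x =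
      ((cent x).map (GeneralLinearGroup.det : GLn →* Fˣ)).index := by
  have hker : (conjAut : GLn →* MulAut PSLn).ker ≤ cent x := fun g hg => by
    rw [mem_cent, MonoidHom.mem_ker.1 hg, one_mul, mul_one]
  rw [splitClassCount_eq inn_le_inndiag, inndiag_inf_centralizer, inn_eq_map, inndiagPSL_eq_range,
    ← Subgroup.map_sup, ← Subgroup.index_comap, Subgroup.comap_map_eq_self (hker.trans le_sup_right),
    ← Subgroup.index_comap_of_surjective _ (det_surjective (F := F) (n := n) (by omega)),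
    Subgroup.comap_map_eq, sup_comm]

/-- The count when the determinants of `cent x` are the `n`-th powers times `U`. -/
theorem splitClassCount_eq_gcd [Finite F] (hn : 2 ≤ n) (x : MulAut PSLn) (U : Subgroup Fˣ)
    (h1 : ∀ g ∈ cent x, GeneralLinearGroup.det g ∈ (powMonoidHom n : Fˣ →* Fˣ).range ⊔ U)
    (h2 : ∀ u ∈ U, ∃ g ∈ cent x, GeneralLinearGroup.det g = u) :
    Cfsg.splitClassCount (Cfsg.inndiagPSL n F) (Cfsg.Inn PSLn) x = Nat.gcd n U.index := by
  rw [splitClassCount_eq_index hn, ← index_range_pow_sup]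
  congr 1
  refine le_antisymm ?_ (sup_le ?_ ?_)
  · rintro _ ⟨g, hg, rfl⟩
    exact h1 g hg
  · rintro _ ⟨a, rfl⟩
    exact ⟨_, scalar_mem_cent x a, by simp⟩
  · intro u hu
    obtain ⟨g, hg, e⟩ := h2 u hu
    exact ⟨g, hg, e⟩

end Cfsg.Agent.Lib.AutPSL
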